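/-
helper48: a module with local free generators is invertible (converse of helper50's
`exists_isGenerator_of_isInvertible`).
* `nonempty_iso_of_isGenerator U e he : Nonempty (L.restrict U.ι ≅ O_U)`
* `isInvertible_of_isGenerator`
-/
import Groth.Agent.Lib.Ample.Helper50_LocalGen
import Groth.Agent.Lib.QCoh.Helper74_LocFreeLift
import Groth.Agent.Lib.QCoh.Helper50_BaseChange
import Groth.Prelude.Def_Pic

set_option autoImplicit false
universe u

open AlgebraicGeometry CategoryTheory TopologicalSpace Opposite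

namespace Groth.Agent.Lib.Helper48.InvGen

open Groth.Agent.Lib.Ample Groth.Agent.Lib.QCoh Scheme.Modules

variable {X : Scheme.{u}} {L : X.Modules}

theorem nonempty_iso_of_isGenerator (U : X.Opens) (e : Γ(L, U)) (he : IsGenerator L U e) :
    Nonempty (L.restrict U.ι ≅ Coh.structureModule (↑U : Scheme.{u})) := by
  have htop : U.ι ''ᵁ ⊤ ≤ U := le_of_eq U.ι_image_top
  have hle : ∀ V : (↑U : Scheme.{u}).Opens, U.ι ''ᵁ V ≤ U :=
    fun V => (Scheme.Hom.image_mono U.ι le_top).trans htop
  obtain ⟨ψ, hψ⟩ : ∃ ψ : Coh.structureModule (↑U : Scheme.{u}) ⟶ L.restrict U.ι,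
      ψ.app ⊤ (1 : Γ((↑U : Scheme.{u}), ⊤)) = L.presheaf.map (homOfLE htop).op e :=
    ⟨Lift74.unitHomOfTop (L.restrict U.ι) (L.presheaf.map (homOfLE htop).op e),
      Lift74.unitHomOfTop_app_one _ _⟩
  have key : ∀ (V : (↑U : Scheme.{u}).Opens) (r : Γ((↑U : Scheme.{u}), V)),
      ψ.app V (show Γ(Coh.structureModule (↑U : Scheme.{u}), V) from r) =
        ((U.ι.appIso V).inv r) • L.presheaf.map (homOfLE (hle V)).op e := by
    intro V r
    have h1 : ψ.app V (show Γ(Coh.structureModule (↑U : Scheme.{u}), V) from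
        (1 : Γ((↑U : Scheme.{u}), V))) = L.presheaf.map (homOfLE (hle V)).op e := by
      have hn := Lift74.app_naturality_apply' ψ (homOfLE le_top : V ⟶ ⊤)
        (show Γ(Coh.structureModule (↑U : Scheme.{u}), ⊤) from (1 : Γ((↑U : Scheme.{u}), ⊤)))
      have e1 : (Coh.structureModule (↑U : Scheme.{u})).presheaf.map (homOfLE le_top : V ⟶ ⊤).op
          (show Γ(Coh.structureModule (↑U : Scheme.{u}), ⊤) from (1 : Γ((↑U : Scheme.{u}), ⊤))) =
          (show Γ(Coh.structureModule (↑U : Scheme.{u}), V) from (1 : Γ((↑U : Scheme.{u}), V))) :=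
        map_one ((↑U : Scheme.{u}).presheaf.map (homOfLE le_top : V ⟶ ⊤).op).hom
      rw [e1] at hn
      refine hn.trans ?_
      have e2 : ψ.app ⊤ (show Γ(Coh.structureModule (↑U : Scheme.{u}), ⊤) from
          (1 : Γ((↑U : Scheme.{u}), ⊤))) = L.presheaf.map (homOfLE htop).op e := hψ
      rw [e2]
      exact map_map_apply L (U.ι.opensFunctor.map (homOfLE le_top : V ⟶ ⊤)) (homOfLE htop)
        (homOfLE (hle V)) e
    have h2 : ψ.app V (show Γ(Coh.structureModule (↑U : Scheme.{u}), V) from r) =
        r • ψ.app V (show Γ(Coh.structureModule (↑U : Scheme.{u}), V) from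
          (1 : Γ((↑U : Scheme.{u}), V))) := by
      have h := Scheme.Modules.Hom.app_smul ψ r
        (show Γ(Coh.structureModule (↑U : Scheme.{u}), V) from (1 : Γ((↑U : Scheme.{u}), V)))
      have h' : r • (show Γ(Coh.structureModule (↑U : Scheme.{u}), V) from
          (1 : Γ((↑U : Scheme.{u}), V))) =
          (show Γ(Coh.structureModule (↑U : Scheme.{u}), V) from r) := mul_one r
      rw [h'] at h
      exact h
    rw [h2, h1]
    rfl
  haveI : IsIso ψ := by
    refine isIso_of_bijective_app_of_isBasis ψ (fun V : (↑U : Scheme.{u}).Opens => V) ?_ ?_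
    · rw [Opens.isBasis_iff_nbhd]
      intro V x hx
      exact ⟨V, ⟨V, rfl⟩, hx, le_rfl⟩
    · intro V
      have hb := he.bijective (hle V)
      have hc : Function.Bijective (U.ι.appIso V).inv := ConcreteCategory.bijective_of_isIso _
      have hfun : (fun r : Γ((↑U : Scheme.{u}), V) =>
            ψ.app V (show Γ(Coh.structureModule (↑U : Scheme.{u}), V) from r)) =
          (fun a : Γ(X, U.ι ''ᵁ V) => a • L.presheaf.map (homOfLE (hle V)).op e) ∘
            (fun r => (U.ι.appIso V).inv r) := by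
        funext r
        exact key V r
      show Function.Bijective (fun r : Γ((↑U : Scheme.{u}), V) =>
            ψ.app V (show Γ(Coh.structureModule (↑U : Scheme.{u}), V) from r))
      rw [hfun]
      exact hb.comp hc
  exact ⟨(asIso ψ).symm⟩

theorem isInvertible_of_isGenerator (L : X.Modules)
    (h : ∀ x : X, ∃ (U : X.Opens) (_ : x ∈ U) (e : Γ(L, U)), IsGenerator L U e) :
    PicF.IsInvertible L := by
  intro x
  obtain ⟨U, hxU, e, he⟩ := h x
  exact ⟨U, hxU, nonempty_iso_of_isGenerator U e he⟩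

end Groth.Agent.Lib.Helper48.InvGen
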