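import Mathlib

/-!
# Tensor products of domains over an algebraically closed field are domains

`isDomain_tensor`: if `k` is algebraically closed and `A`, `B` are `k`-algebras that are domains,
then `A ⊗[k] B` is a domain.
-/

set_option autoImplicit false

open TensorProduct

namespace Groth.Agent.Lib.Helper48.ACT

section N1

variable {k A : Type*} [Field k] [IsAlgClosed k] [CommRing A] [Algebra k A]
  [Algebra.FiniteType k A]

/-- Nullstellensatz form: an element of a f.t. algebra over an algebraically closed field killed by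
all `k`-points is nilpotent. -/
theorem isNilpotent_of_forall_algHom_eq_zero (a : A) (h : ∀ χ : A →ₐ[k] k, χ a = 0) :
    IsNilpotent a := by
  have hJ : IsJacobsonRing A := isJacobsonRing_of_finiteType (A := k) (B := A)
  rw [← mem_nilradical, nilradical, Ideal.radical_eq_jacobson, Ideal.jacobson, Ideal.mem_sInf]
  rintro m ⟨-, hm⟩
  letI := Ideal.Quotient.field m
  haveI : Algebra.FiniteType k (A ⧸ m) :=
    Algebra.FiniteType.of_surjective (Ideal.Quotient.mkₐ k m) (Ideal.Quotient.mkₐ_surjective k m)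
  haveI : Module.Finite k (A ⧸ m) := finite_of_finite_type_of_isJacobsonRing k (A ⧸ m)
  haveI : Algebra.IsIntegral k (A ⧸ m) := Algebra.IsIntegral.of_finite k (A ⧸ m)
  have hb : Function.Bijective (algebraMap k (A ⧸ m)) :=
    IsAlgClosed.algebraMap_bijective_of_isIntegral
  let e : k ≃ₐ[k] (A ⧸ m) := AlgEquiv.ofBijective (Algebra.ofId k (A ⧸ m)) hb
  have h1 := h ((e.symm : (A ⧸ m) →ₐ[k] k).comp (Ideal.Quotient.mkₐ k m))
  have h2 : Ideal.Quotient.mkₐ k m a = 0 := by
    apply e.symm.injective
    simpa using h1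
  exact Ideal.Quotient.eq_zero_iff_mem.mp h2

end N1

section N2

variable {k A B : Type*} [Field k] [CommRing A] [Algebra k A] [CommRing B] [Algebra k B]

/-- evaluation at a `k`-point `χ` of `A`. -/
noncomputable def ev (χ : A →ₐ[k] k) : A ⊗[k] B →ₐ[k] B :=
  Algebra.TensorProduct.lift ((Algebra.ofId k B).comp χ) (AlgHom.id k B)
    (fun _ _ => Commute.all _ _)

theorem ev_tmul (χ : A →ₐ[k] k) (a : A) (b : B) : ev χ (a ⊗ₜ[k] b) = χ a • b := by
  simp [ev, Algebra.smul_def, Algebra.ofId_apply]

theorem repr_ev {ι : Type*} (β : Module.Basis ι k B) (χ : A →ₐ[k] k) (f : A ⊗[k] B) (i : ι) :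
    β.repr (ev χ f) i = χ ((Algebra.TensorProduct.basis A β).repr f i) := by
  induction f using TensorProduct.induction_on with
  | zero => simp
  | tmul a b =>
    rw [ev_tmul, Algebra.TensorProduct.basis_repr_tmul]
    simp
  | add x y hx hy => simp [hx, hy]

variable [IsAlgClosed k] [IsDomain A] [Algebra.FiniteType k A] [IsDomain B]

theorem isDomain_tensor_of_finiteType : IsDomain (A ⊗[k] B) := by
  classical
  let β := Module.Free.chooseBasis k B
  let bA := Algebra.TensorProduct.basis A β
  haveI : Nontrivial (A ⊗[k] B) := inferInstance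
  have key : ∀ f g : A ⊗[k] B, f * g = 0 → ∀ i j, bA.repr f i * bA.repr g j = 0 := by
    intro f g hfg i j
    have hnil : IsNilpotent (bA.repr f i * bA.repr g j) := by
      apply isNilpotent_of_forall_algHom_eq_zero (k := k)
      intro χ
      have h0 : ev χ f * ev χ g = 0 := by rw [← map_mul, hfg, map_zero]
      rcases mul_eq_zero.mp h0 with h | h
      · have h3 := repr_ev β χ f i
        rw [h] at h3
        rw [map_mul, ← h3]
        simp
      · have h3 := repr_ev β χ g j
        rw [h] at h3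
        rw [map_mul, ← h3]
        simp
    exact hnil.eq_zero
  suffices hnz : NoZeroDivisors (A ⊗[k] B) from NoZeroDivisors.to_isDomain _
  constructor
  intro f g hfg
  by_contra hne
  push Not at hne
  obtain ⟨hf, hg⟩ := hne
  have hf' : bA.repr f ≠ 0 := by simpa using hf
  have hg' : bA.repr g ≠ 0 := by simpa using hg
  obtain ⟨i, hi⟩ := DFunLike.ne_iff.mp hf'
  obtain ⟨j, hj⟩ := DFunLike.ne_iff.mp hg'
  exact mul_ne_zero hi hj (key f g hfg i j)

end N2

section N3

variable {k A B : Type*} [Field k] [IsAlgClosed k] [CommRing A] [IsDomain A] [Algebra k A]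
  [CommRing B] [IsDomain B] [Algebra k B]

/-- Over an algebraically closed field, the tensor product of two domains is a domain. -/
theorem isDomain_tensor : IsDomain (A ⊗[k] B) := by
  haveI : Nontrivial (A ⊗[k] B) := inferInstance
  suffices hnz : NoZeroDivisors (A ⊗[k] B) from NoZeroDivisors.to_isDomain _
  constructor
  intro x y hxy
  obtain ⟨D1, hD1, hx⟩ := exists_fg_and_mem_baseChange x
  obtain ⟨D2, hD2, hy⟩ := exists_fg_and_mem_baseChange y
  have hD : (D1 ⊔ D2).FG := hD1.sup hD2
  have hmono : ∀ (D' : Subalgebra k B) (hle : D' ≤ D1 ⊔ D2), ∀ z, z ∈ D'.baseChange A →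
      z ∈ (D1 ⊔ D2).baseChange A := by
    rintro D' hle _ ⟨w, rfl⟩
    refine ⟨Algebra.TensorProduct.map (AlgHom.id A A) (Subalgebra.inclusion hle) w, ?_⟩
    induction w using TensorProduct.induction_on with
    | zero => simp
    | tmul a d => rfl
    | add u v hu hv => simp only [map_add, hu, hv]
  obtain ⟨x', rfl⟩ := hmono D1 le_sup_left x hx
  obtain ⟨y', rfl⟩ := hmono D2 le_sup_right y hy
  have h_inj : Function.Injective (Algebra.TensorProduct.map (AlgHom.id A A) (D1 ⊔ D2).val) :=
    Module.Flat.lTensor_preserves_injective_linearMap _ Subtype.val_injective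
  haveI : Algebra.FiniteType k ↥(D1 ⊔ D2) := (Subalgebra.fg_iff_finiteType _).mp hD
  haveI : IsDomain (↥(D1 ⊔ D2) ⊗[k] A) := isDomain_tensor_of_finiteType
  haveI : IsDomain (A ⊗[k] ↥(D1 ⊔ D2)) :=
    MulEquiv.isDomain _ (Algebra.TensorProduct.comm k A ↥(D1 ⊔ D2)).toMulEquiv
  rw [← map_mul] at hxy
  have h0 := h_inj (hxy.trans (map_zero _).symm)
  rcases mul_eq_zero.mp h0 with h | h
  · left; rw [h, map_zero]
  · right; rw [h, map_zero]

end N3

section Subext

/-- Two elements of `K ⊗[k] S`, `K/k` algebraic, come from `E ⊗[k] S` for a finite subextension. -/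
theorem exists_finite_intermediateField {k K S : Type*} [Field k] [Field K] [Algebra k K]
    [Algebra.IsAlgebraic k K] [CommRing S] [Algebra k S] (x y : K ⊗[k] S) :
    ∃ E : IntermediateField k K, FiniteDimensional k E ∧
      ∃ x' y' : E ⊗[k] S, Algebra.TensorProduct.map E.val (AlgHom.id k S) x' = x ∧
        Algebra.TensorProduct.map E.val (AlgHom.id k S) y' = y := by
  classical
  obtain ⟨T1, rfl⟩ := TensorProduct.exists_finset x
  obtain ⟨T2, rfl⟩ := TensorProduct.exists_finset y
  let F : Finset K := (T1 ∪ T2).image Prod.fst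
  let E := IntermediateField.adjoin k (F : Set K)
  have hmem : ∀ p ∈ T1 ∪ T2, p.1 ∈ E := fun p hp =>
    IntermediateField.subset_adjoin k _ (Finset.mem_coe.mpr (Finset.mem_image_of_mem _ hp))
  refine ⟨E, IntermediateField.finiteDimensional_adjoin
    (fun a _ => (Algebra.IsAlgebraic.isAlgebraic a).isIntegral), ?_⟩
  refine ⟨∑ p ∈ T1.attach, (⟨p.1.1, hmem _ (Finset.mem_union_left _ p.2)⟩ : E) ⊗ₜ[k] p.1.2,
    ∑ p ∈ T2.attach, (⟨p.1.1, hmem _ (Finset.mem_union_right _ p.2)⟩ : E) ⊗ₜ[k] p.1.2, ?_, ?_⟩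
  · rw [map_sum]
    exact Finset.sum_attach T1 (fun p => p.1 ⊗ₜ[k] p.2)
  · rw [map_sum]
    exact Finset.sum_attach T2 (fun p => p.1 ⊗ₜ[k] p.2)

end Subext

end Groth.Agent.Lib.Helper48.ACT
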