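import Mathlib
import Groth.Agent.S2113

set_option autoImplicit false

universe u

namespace Groth.Agent.Lib.Helper48.JacPunct

open Ideal

section Quot
variable {B : Type*} [CommRing B] (P : Ideal B)

theorem comap_map_mk {I : Ideal B} (hI : P ≤ I) :
    (I.map (Ideal.Quotient.mk P)).comap (Ideal.Quotient.mk P) = I := by
  rw [Ideal.comap_map_of_surjective _ Ideal.Quotient.mk_surjective, ← RingHom.ker_eq_comap_bot,
    Ideal.mk_ker]
  exact sup_eq_left.mpr hI

theorem map_mk_isPrime {I : Ideal B} [I.IsPrime] (hI : P ≤ I) :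
    (I.map (Ideal.Quotient.mk P)).IsPrime :=
  Ideal.map_isPrime_of_surjective Ideal.Quotient.mk_surjective (Ideal.mk_ker.trans_le hI)

theorem map_mk_ne_bot {I : Ideal B} (hI : P < I) : I.map (Ideal.Quotient.mk P) ≠ ⊥ := by
  intro h0
  have := comap_map_mk P hI.le
  rw [h0, ← RingHom.ker_eq_comap_bot, Ideal.mk_ker] at this
  exact hI.ne this

theorem map_mk_lt {I J : Ideal B} (hI : P ≤ I) (hIJ : I < J) :
    I.map (Ideal.Quotient.mk P) < J.map (Ideal.Quotient.mk P) := by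
  refine lt_of_le_of_ne (Ideal.map_mono hIJ.le) ?_
  intro heq
  have h1 := comap_map_mk P hI
  have h2 := comap_map_mk P (hI.trans hIJ.le)
  rw [heq, h2] at h1
  exact hIJ.ne h1.symm

theorem lt_comap_of_ne_bot {q : Ideal (B ⧸ P)} (hq0 : q ≠ ⊥) :
    P < q.comap (Ideal.Quotient.mk P) := by
  have hle : P ≤ q.comap (Ideal.Quotient.mk P) := by
    intro x hx
    rw [Ideal.mem_comap, Ideal.Quotient.eq_zero_iff_mem.mpr hx]
    exact zero_mem _
  refine lt_of_le_of_ne hle ?_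
  intro heq
  apply hq0
  rw [eq_bot_iff]
  intro y hy
  obtain ⟨x, rfl⟩ := Ideal.Quotient.mk_surjective y
  have : x ∈ P := by rw [heq]; exact hy
  rw [Ideal.Quotient.eq_zero_iff_mem.mpr this]; exact zero_mem _

end Quot

/-- In a Noetherian ring there is no chain of primes `P < Q < Q'` together with an element
`f ∉ P` lying in every prime strictly above `P`. -/
theorem no_chain {B : Type*} [CommRing B] [IsNoetherianRing B] (P Q Q' : Ideal B)
    [hP : P.IsPrime] [hQ : Q.IsPrime] [hQ' : Q'.IsPrime] (hPQ : P < Q) (hQQ' : Q < Q')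
    (f : B) (hfP : f ∉ P) (hf : ∀ q : Ideal B, q.IsPrime → P < q → f ∈ q) : False := by
  have hf0 : Ideal.Quotient.mk P f ≠ 0 := by
    rwa [Ne, Ideal.Quotient.eq_zero_iff_mem]
  have hall : ∀ (q : Ideal (B ⧸ P)), q.IsPrime → q ≠ ⊥ → Ideal.Quotient.mk P f ∈ q := by
    intro q hq hq0
    exact hf _ (Ideal.comap_isPrime _ _) (lt_comap_of_ne_bot P hq0)
  haveI hQm : (Q.map (Ideal.Quotient.mk P)).IsPrime := map_mk_isPrime P hPQ.le
  haveI hQ'm : (Q'.map (Ideal.Quotient.mk P)).IsPrime :=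
    map_mk_isPrime P (hPQ.le.trans hQQ'.le)
  have hQ0 := map_mk_ne_bot P hPQ
  have hlt := map_mk_lt P hPQ.le hQQ'
  have hQ'0 := map_mk_ne_bot P (hPQ.trans hQQ')
  have hmem := Groth.Agent.S2113.mem_minimalPrimes_of_forall (Ideal.Quotient.mk P f) hf0 hall
    (Q'.map (Ideal.Quotient.mk P)) hQ'0
  have hht : (Q'.map (Ideal.Quotient.mk P)).height ≤ 1 :=
    Ideal.height_le_one_of_isPrincipal_of_mem_minimalPrimes _ _ hmem
  have hbot : (⊥ : Ideal (B ⧸ P)) < Q.map (Ideal.Quotient.mk P) := bot_lt_iff_ne_bot.mpr hQ0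
  haveI : (⊥ : Ideal (B ⧸ P)).IsPrime := Ideal.isPrime_bot
  have h1 := Ideal.height_strict_mono_of_isPrime_of_isPrime hbot
  have h2 := Ideal.height_strict_mono_of_isPrime_of_isPrime hlt
  have h3 : (1 : ℕ∞) ≤ (Q.map (Ideal.Quotient.mk P)).height :=
    Order.one_le_iff_pos.mpr (lt_of_le_of_lt zero_le h1)
  have h4 : (1 : ℕ∞) < (Q'.map (Ideal.Quotient.mk P)).height := lt_of_le_of_lt h3 h2
  exact absurd hht (not_le.mpr h4)

theorem spec_no_chain {B : Type*} [CommRing B] [IsNoetherianRing B] (x z w : PrimeSpectrum B)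
    (hxz : x ⤳ z) (hzw : z ⤳ w) (O : Set (PrimeSpectrum B)) (hO : IsOpen O) (hxO : x ∈ O)
    (hOx : ∀ y ∈ O, x ⤳ y → y = x) : z = x ∨ z = w := by
  by_contra hcon
  push Not at hcon
  obtain ⟨hzx, hzw'⟩ := hcon
  rw [← PrimeSpectrum.le_iff_specializes] at hxz hzw
  obtain ⟨_, ⟨f, rfl⟩, hxf, hfO⟩ :=
    PrimeSpectrum.isTopologicalBasis_basic_opens.exists_subset_of_mem_open hxO hO
  have hlt1 : x.asIdeal < z.asIdeal :=
    lt_of_le_of_ne ((PrimeSpectrum.asIdeal_le_asIdeal x z).mpr hxz)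
      (fun h => hzx (PrimeSpectrum.ext h.symm))
  have hlt2 : z.asIdeal < w.asIdeal :=
    lt_of_le_of_ne ((PrimeSpectrum.asIdeal_le_asIdeal z w).mpr hzw)
      (fun h => hzw' (PrimeSpectrum.ext h))
  haveI := x.2
  haveI := z.2
  haveI := w.2
  refine no_chain x.asIdeal z.asIdeal w.asIdeal hlt1 hlt2 f
    ((PrimeSpectrum.mem_basicOpen f x).mp hxf) ?_
  intro q hq hxq
  by_contra hfq
  have hqO : (⟨q, hq⟩ : PrimeSpectrum B) ∈ O :=
    hfO ((PrimeSpectrum.mem_basicOpen f ⟨q, hq⟩).mpr hfq)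
  have := hOx ⟨q, hq⟩ hqO ((PrimeSpectrum.le_iff_specializes _ _).mp
    ((PrimeSpectrum.asIdeal_le_asIdeal x ⟨q, hq⟩).mp hxq.le))
  exact hxq.ne (congrArg PrimeSpectrum.asIdeal this).symm

theorem exists_isClosed_singleton_of_no_chain {X : Type*} [TopologicalSpace X] (x : X)
    (H : ∀ z w : X, x ⤳ z → z ⤳ w → z = x ∨ z = w) (Z : Set X) (hZ : IsClosed Z)
    (hx : x ∈ Z) : ∃ y ∈ Z, IsClosed ({y} : Set X) := by
  by_cases hxc : IsClosed ({x} : Set X)
  · exact ⟨x, hx, hxc⟩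
  · have : ∃ z, x ⤳ z ∧ z ≠ x := by
      by_contra hno
      push Not at hno
      apply hxc
      rw [← closure_eq_iff_isClosed]
      apply Set.Subset.antisymm _ subset_closure
      intro z hz
      rw [← specializes_iff_mem_closure] at hz
      exact hno z hz
    obtain ⟨z, hxz, hzx⟩ := this
    refine ⟨z, hxz.mem_closed hZ hx, ?_⟩
    rw [← closure_eq_iff_isClosed]
    apply Set.Subset.antisymm _ subset_closure
    intro w hw
    rw [← specializes_iff_mem_closure] at hw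
    rcases H z w hxz hw with h | h
    · exact absurd h hzx
    · exact h.symm

open AlgebraicGeometry in
theorem scheme_no_chain (X : Scheme.{u}) [IsLocallyNoetherian X] (x z w : X) (hxz : x ⤳ z)
    (hzw : z ⤳ w) (O : Set X) (hO : IsOpen O) (hxO : x ∈ O)
    (hOx : ∀ y ∈ O, x ⤳ y → y = x) : z = x ∨ z = w := by
  obtain ⟨W, hW, hwW, -⟩ :=
    exists_isAffineOpen_mem_and_subset (X := X) (x := w) (U := ⊤) trivial
  haveI : IsNoetherianRing Γ(X, W) := IsLocallyNoetherian.component_noetherian ⟨W, hW⟩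
  have hemb : Topology.IsOpenEmbedding hW.fromSpec := hW.fromSpec.isOpenEmbedding
  have hzW : z ∈ W := hzw.mem_open W.isOpen hwW
  have hxW : x ∈ W := hxz.mem_open W.isOpen hzW
  have hr : Set.range hW.fromSpec = W := hW.range_fromSpec
  obtain ⟨pw, rfl⟩ : w ∈ Set.range hW.fromSpec := by rw [hr]; exact hwW
  obtain ⟨pz, rfl⟩ : z ∈ Set.range hW.fromSpec := by rw [hr]; exact hzW
  obtain ⟨px, rfl⟩ : x ∈ Set.range hW.fromSpec := by rw [hr]; exact hxW
  rw [hemb.isInducing.specializes_iff] at hxz hzw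
  have key := spec_no_chain (B := Γ(X, W)) px pz pw hxz hzw (hW.fromSpec ⁻¹' O)
    (hO.preimage hemb.continuous) hxO ?_
  · rcases key with h | h
    · exact Or.inl (congrArg _ h)
    · exact Or.inr (congrArg _ h)
  · intro y hy hxy
    exact hemb.injective (hOx _ hy ((hemb.isInducing.specializes_iff).mpr hxy))

end Groth.Agent.Lib.Helper48.JacPunct
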