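/-
helper48: descent of relative global complete intersections (`Synt.IsRelGCI`) to a finite type
`ℤ`-subalgebra.  Ingredients: Chevalley semicontinuity of the local fibre dimension (`S0402`,
helper73), base change invariance of the local fibre dimension (`S9358`, helper21), the dictionary
`fibreDimAt (Spec S → Spec R)` = local dimension of `Spec (κ(p) ⊗ S)` (helper73), Krull's height theorem
and the dimension formula for polynomial rings over a field (helper14).
-/
import Mathlib
import Groth.Prelude.Def_RegImm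
import Groth.Agent.Lib.Helper73.FibreDimRing
import Groth.Agent.Lib.Helper29.TopDimLocal
import Groth.Agent.Lib.Helper14.PD4
import Groth.Agent.S0402
import Groth.Agent.S9358

set_option autoImplicit false
set_option linter.style.haveILetI false
universe u
open CategoryTheory CategoryTheory.Limits AlgebraicGeometry TensorProduct

namespace Groth.Agent.Lib.Helper48.RelGCIDescent

attribute [local instance] MvPolynomial.algebraMvPolynomial

/-! ### Pushouts -/

/-- (copied from helper35 `FiberSmoothRing.isPushout_quotient`) -/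
theorem isPushout_quotient (B P : Type u) [CommRing B] [CommRing P] [Algebra B P] (𝔟 : Ideal B) :
    Algebra.IsPushout B (B ⧸ 𝔟) P (P ⧸ 𝔟.map (algebraMap B P)) := by
  letI := Algebra.TensorProduct.rightAlgebra (R := B) (A := B ⧸ 𝔟) (B := P)
  refine Algebra.IsPushout.of_equiv (R := B) (S := P) (R' := B ⧸ 𝔟) (S' := (B ⧸ 𝔟) ⊗[B] P)
    (Algebra.TensorProduct.quotIdealMapEquivQuotTensor P 𝔟).symm ?_
  ext p
  show (Algebra.TensorProduct.quotIdealMapEquivQuotTensor P 𝔟).symm ((1 : B ⧸ 𝔟) ⊗ₜ[B] p) = _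
  rw [AlgEquiv.symm_apply_eq]
  rfl

section
variable (A B : Type u) [CommRing A] [CommRing B] [Algebra A B] (n : ℕ)
  (K : Ideal (MvPolynomial (Fin n) A))

instance towerQuot : IsScalarTower A (MvPolynomial (Fin n) A ⧸ K)
    (MvPolynomial (Fin n) B ⧸ K.map (algebraMap (MvPolynomial (Fin n) A) (MvPolynomial (Fin n) B))) := by
  have h : @IsScalarTower A (MvPolynomial (Fin n) A ⧸ K)
      (MvPolynomial (Fin n) B ⧸
        K.map (algebraMap (MvPolynomial (Fin n) A) (MvPolynomial (Fin n) B)))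
      Algebra.toSMul Algebra.toSMul Algebra.toSMul :=
    IsScalarTower.of_algebraMap_eq fun x => by
      show Ideal.Quotient.mk _ (algebraMap A (MvPolynomial (Fin n) B) x) =
        Ideal.Quotient.mk _ (algebraMap (MvPolynomial (Fin n) A) (MvPolynomial (Fin n) B)
          (algebraMap A (MvPolynomial (Fin n) A) x))
      rw [← IsScalarTower.algebraMap_apply]
  exact h

theorem isPushout_mvQuot :
    Algebra.IsPushout A B (MvPolynomial (Fin n) A ⧸ K)
      (MvPolynomial (Fin n) B ⧸
        K.map (algebraMap (MvPolynomial (Fin n) A) (MvPolynomial (Fin n) B))) := by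
  haveI := isPushout_quotient (MvPolynomial (Fin n) A) (MvPolynomial (Fin n) B) K
  exact ((Algebra.IsPushout.comp_iff A (MvPolynomial (Fin n) A) B
    (S' := MvPolynomial (Fin n) B) (T := MvPolynomial (Fin n) A ⧸ K)
    (T' := MvPolynomial (Fin n) B ⧸
        K.map (algebraMap (MvPolynomial (Fin n) A) (MvPolynomial (Fin n) B)))).mpr this).symm

end

/-! ### Lower bound for the dimension of fibres (Krull) -/

theorem le_dim_field (k : Type u) [Field k] (n c : ℕ) (K : Ideal (MvPolynomial (Fin n) k))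
    (hK : ∃ G : Fin c → MvPolynomial (Fin n) k, K = Ideal.span (Set.range G))
    (hnt : Nontrivial (MvPolynomial (Fin n) k ⧸ K)) :
    ((n - c : ℕ) : WithBot ℕ∞) ≤ ringKrullDim (MvPolynomial (Fin n) k ⧸ K) := by
  classical
  obtain ⟨G, rfl⟩ := hK
  have hJtop : Ideal.span (Set.range G) ≠ ⊤ := Ideal.Quotient.nontrivial_iff.mp hnt
  obtain ⟨⟨P, hP⟩⟩ := Ideal.nonempty_minimalPrimes hJtop
  haveI : P.IsPrime := hP.1.1
  have hspan : Ideal.span (Set.range G) =
      Ideal.span ((Finset.univ.image G : Finset _) : Set (MvPolynomial (Fin n) k)) := by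
    rw [Finset.coe_image, Finset.coe_univ, Set.image_univ]
  have hht : P.height ≤ (c : ℕ∞) := by
    have h1 : P.height ≤ ((Finset.univ.image G).card : ℕ∞) :=
      Ideal.height_le_card_of_mem_minimalPrimes_span_finset (by rw [← hspan]; exact hP)
    refine h1.trans ?_
    have : (Finset.univ.image G).card ≤ c := by
      simpa using (Finset.card_image_le (s := (Finset.univ : Finset (Fin c))) (f := G))
    exact_mod_cast this
  obtain ⟨h, dq, hh, hdq, hD⟩ := Groth.Agent.Lib.Helper14.PD4.dim_eq_height_add (k := k) P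
  have hn : ringKrullDim (MvPolynomial (Fin n) k) = (n : WithBot ℕ∞) := by
    rw [MvPolynomial.ringKrullDim_of_isNoetherianRing, ringKrullDim_eq_zero_of_field]
    simp
  rw [hn] at hD
  have hnat : n = h + dq := by exact_mod_cast hD
  rw [hh] at hht
  have hhc : h ≤ c := by exact_mod_cast hht
  have hle : ringKrullDim (MvPolynomial (Fin n) k ⧸ P) ≤
      ringKrullDim (MvPolynomial (Fin n) k ⧸ Ideal.span (Set.range G)) :=
    ringKrullDim_le_of_surjective (Ideal.Quotient.factor hP.1.2)
      (Ideal.Quotient.factor_surjective hP.1.2)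
  refine le_trans ?_ hle
  rw [hdq]
  have : n - c ≤ dq := by omega
  exact_mod_cast this

theorem le_dim_fiber (A : Type u) [CommRing A] (n c : ℕ) (K : Ideal (MvPolynomial (Fin n) A))
    (hK : ∃ G : Fin c → MvPolynomial (Fin n) A, K = Ideal.span (Set.range G))
    (p : Ideal A) [p.IsPrime]
    (hnt : Nontrivial (p.Fiber (MvPolynomial (Fin n) A ⧸ K))) :
    ((n - c : ℕ) : WithBot ℕ∞) ≤ ringKrullDim (p.Fiber (MvPolynomial (Fin n) A ⧸ K)) := by
  haveI := isPushout_mvQuot A p.ResidueField n K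
  let e := Algebra.IsPushout.equiv A p.ResidueField (MvPolynomial (Fin n) A ⧸ K)
    (MvPolynomial (Fin n) p.ResidueField ⧸
      K.map (algebraMap (MvPolynomial (Fin n) A) (MvPolynomial (Fin n) p.ResidueField)))
  rw [ringKrullDim_eq_of_ringEquiv e.toRingEquiv]
  refine le_dim_field p.ResidueField n c _ ?_ ?_
  · obtain ⟨G, rfl⟩ := hK
    refine ⟨fun i => algebraMap _ _ (G i), ?_⟩
    rw [Ideal.map_span, ← Set.range_comp]
    rfl
  · exact e.symm.toEquiv.nontrivial

/-! ### Fibrewise and pointwise forms of the relative global complete intersection condition -/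

/-- fibre condition for the quotient of a polynomial ring by a general ideal
(`Synt.IsRelGCI R n c F` is `FibOK R n c (span (range F))` by definition) -/
def FibOK (A : Type u) [CommRing A] (n c : ℕ) (K : Ideal (MvPolynomial (Fin n) A)) : Prop :=
  ∀ p : PrimeSpectrum A, Nontrivial (p.asIdeal.Fiber (MvPolynomial (Fin n) A ⧸ K)) →
    c ≤ n ∧ ringKrullDim (p.asIdeal.Fiber (MvPolynomial (Fin n) A ⧸ K)) =
      ((n - c : ℕ) : WithBot ℕ∞)

/-- pointwise condition -/
def PtOK (A : Type u) [CommRing A] (n c : ℕ) (K : Ideal (MvPolynomial (Fin n) A)) : Prop :=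
  ∀ q : PrimeSpectrum (MvPolynomial (Fin n) A ⧸ K), c ≤ n ∧
    FlatMor.fibreDimAt
      (Spec.map (CommRingCat.ofHom (algebraMap A (MvPolynomial (Fin n) A ⧸ K))))
      (show ↥(Spec (CommRingCat.of (MvPolynomial (Fin n) A ⧸ K))) from q) ≤
        ((n - c : ℕ) : WithBot ℕ∞)

theorem ptOK_of_fibOK (A : Type u) [CommRing A] (n c : ℕ) (K : Ideal (MvPolynomial (Fin n) A))
    (h : FibOK A n c K) : PtOK A n c K := by
  intro q
  have h1 := Groth.Agent.Lib.Helper73.FibreDimRing.fibreDimAt_Spec_eq A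
    (MvPolynomial (Fin n) A ⧸ K) q
  have hnt : Nontrivial ((PrimeSpectrum.comap (algebraMap A (MvPolynomial (Fin n) A ⧸ K))
      q).asIdeal.Fiber (MvPolynomial (Fin n) A ⧸ K)) :=
    (PrimeSpectrum.preimageHomeomorphFiber A (MvPolynomial (Fin n) A ⧸ K)
      (PrimeSpectrum.comap (algebraMap A (MvPolynomial (Fin n) A ⧸ K)) q) ⟨q, rfl⟩).nontrivial
  obtain ⟨hcn, hdim⟩ := h _ hnt
  refine ⟨hcn, ?_⟩
  rw [h1]
  refine (Groth.Agent.Lib.Helper29.localDim_le_dim _).trans ?_
  rw [PrimeSpectrum.topologicalKrullDim_eq_ringKrullDim]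
  exact hdim.le

theorem fibOK_of_ptOK (A : Type u) [CommRing A] (n c : ℕ) (K : Ideal (MvPolynomial (Fin n) A))
    (hK : ∃ G : Fin c → MvPolynomial (Fin n) A, K = Ideal.span (Set.range G))
    (h : PtOK A n c K) : FibOK A n c K := by
  intro p hnt
  have key : ∀ Q : PrimeSpectrum (p.asIdeal.Fiber (MvPolynomial (Fin n) A ⧸ K)),
      c ≤ n ∧ FlatMor.localDim (PrimeSpectrum (p.asIdeal.Fiber (MvPolynomial (Fin n) A ⧸ K))) Q ≤
        ((n - c : ℕ) : WithBot ℕ∞) := by
    intro Q
    obtain ⟨⟨q, hq⟩, rfl⟩ := (PrimeSpectrum.preimageHomeomorphFiber A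
      (MvPolynomial (Fin n) A ⧸ K) p).surjective Q
    have hq' : PrimeSpectrum.comap (algebraMap A (MvPolynomial (Fin n) A ⧸ K)) q = p := hq
    subst hq'
    have h1 := Groth.Agent.Lib.Helper73.FibreDimRing.fibreDimAt_Spec_eq A
      (MvPolynomial (Fin n) A ⧸ K) q
    obtain ⟨hcn, hle⟩ := h q
    refine ⟨hcn, ?_⟩
    rw [h1] at hle
    exact hle
  obtain ⟨Q₀⟩ : Nonempty (PrimeSpectrum (p.asIdeal.Fiber (MvPolynomial (Fin n) A ⧸ K))) :=
    PrimeSpectrum.nonempty_iff_nontrivial.mpr hnt
  refine ⟨(key Q₀).1, le_antisymm ?_ (le_dim_fiber A n c K hK p.asIdeal hnt)⟩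
  rw [← PrimeSpectrum.topologicalKrullDim_eq_ringKrullDim,
    Groth.Agent.Lib.Helper29.topologicalKrullDim_eq_iSup_localDim]
  exact iSup_le fun Q => (key Q).2

/-! ### The base change square -/

section
variable (A B : Type u) [CommRing A] [CommRing B] [Algebra A B] (n : ℕ)
  (K : Ideal (MvPolynomial (Fin n) A))

theorem isPullback_of_eq (K' : Ideal (MvPolynomial (Fin n) B))
    (hK' : K' = K.map (algebraMap (MvPolynomial (Fin n) A) (MvPolynomial (Fin n) B)))
    (hle : K ≤ K'.comap (algebraMap (MvPolynomial (Fin n) A) (MvPolynomial (Fin n) B))) :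
    IsPullback
      (Spec.map (CommRingCat.ofHom (Ideal.quotientMap K'
        (algebraMap (MvPolynomial (Fin n) A) (MvPolynomial (Fin n) B)) hle)))
      (Spec.map (CommRingCat.ofHom (algebraMap B (MvPolynomial (Fin n) B ⧸ K'))))
      (Spec.map (CommRingCat.ofHom (algebraMap A (MvPolynomial (Fin n) A ⧸ K))))
      (Spec.map (CommRingCat.ofHom (algebraMap A B))) := by
  subst hK'
  haveI := isPushout_mvQuot A B n K
  exact (isPullback_SpecMap_of_isPushout _ _ _ _
    (CommRingCat.isPushout_of_isPushout A B (MvPolynomial (Fin n) A ⧸ K)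
      (MvPolynomial (Fin n) B ⧸
        K.map (algebraMap (MvPolynomial (Fin n) A) (MvPolynomial (Fin n) B))))).flip

instance lft_quot : LocallyOfFiniteType
    (Spec.map (CommRingCat.ofHom (algebraMap A (MvPolynomial (Fin n) A ⧸ K)))) := by
  rw [HasRingHomProperty.Spec_iff (P := @LocallyOfFiniteType)]
  exact RingHom.finiteType_algebraMap.mpr
    (Algebra.FiniteType.of_surjective (Ideal.Quotient.mkₐ A K)
      (Ideal.Quotient.mkₐ_surjective A K))

theorem fibreDimAt_bc (q : PrimeSpectrum (MvPolynomial (Fin n) B ⧸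
      K.map (algebraMap (MvPolynomial (Fin n) A) (MvPolynomial (Fin n) B)))) :
    FlatMor.fibreDimAt
      (Spec.map (CommRingCat.ofHom (algebraMap B (MvPolynomial (Fin n) B ⧸
        K.map (algebraMap (MvPolynomial (Fin n) A) (MvPolynomial (Fin n) B))))))
      (show ↥(Spec (CommRingCat.of (MvPolynomial (Fin n) B ⧸
        K.map (algebraMap (MvPolynomial (Fin n) A) (MvPolynomial (Fin n) B))))) from q) =
    FlatMor.fibreDimAt
      (Spec.map (CommRingCat.ofHom (algebraMap A (MvPolynomial (Fin n) A ⧸ K))))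
      (show ↥(Spec (CommRingCat.of (MvPolynomial (Fin n) A ⧸ K))) from
        PrimeSpectrum.comap (algebraMap (MvPolynomial (Fin n) A ⧸ K)
          (MvPolynomial (Fin n) B ⧸
            K.map (algebraMap (MvPolynomial (Fin n) A) (MvPolynomial (Fin n) B)))) q) :=
  (Groth.Agent.S9358.result _ _ _ _
    (isPullback_of_eq A B n K _ rfl Ideal.le_comap_map) 0).1 q

end

/-! ### Descent to a subring containing finitely many prescribed elements -/

section
variable (A R : Type u) [CommRing A] [CommRing R] [Algebra A R] (n : ℕ)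

theorem algMap_comp (B : Type u) [CommRing B] [Algebra A B] [Algebra B R] [IsScalarTower A B R]
    (a : MvPolynomial (Fin n) A) :
    algebraMap (MvPolynomial (Fin n) B) (MvPolynomial (Fin n) R)
      (algebraMap (MvPolynomial (Fin n) A) (MvPolynomial (Fin n) B) a) =
    algebraMap (MvPolynomial (Fin n) A) (MvPolynomial (Fin n) R) a := by
  simp only [MvPolynomial.algebraMap_def, MvPolynomial.map_map]
  rw [← IsScalarTower.algebraMap_eq]

theorem exists_finset_lift (J : Ideal (MvPolynomial (Fin n) A)) (x : MvPolynomial (Fin n) R)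
    (hx : x ∈ J.map (algebraMap (MvPolynomial (Fin n) A) (MvPolynomial (Fin n) R))) :
    ∃ s : Finset R, ∀ (B : Type u) [CommRing B] [Algebra A B] [Algebra B R] [IsScalarTower A B R],
      ((s : Set R) ⊆ Set.range (algebraMap B R)) →
      ∃ y ∈ J.map (algebraMap (MvPolynomial (Fin n) A) (MvPolynomial (Fin n) B)),
        algebraMap (MvPolynomial (Fin n) B) (MvPolynomial (Fin n) R) y = x := by
  classical
  have hx' : x ∈ Submodule.span (MvPolynomial (Fin n) R)
      ((algebraMap (MvPolynomial (Fin n) A) (MvPolynomial (Fin n) R)) '' (J : Set _)) := hx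
  refine Submodule.span_induction (p := fun x _ => ∃ s : Finset R,
      ∀ (B : Type u) [CommRing B] [Algebra A B] [Algebra B R] [IsScalarTower A B R],
      ((s : Set R) ⊆ Set.range (algebraMap B R)) →
      ∃ y ∈ J.map (algebraMap (MvPolynomial (Fin n) A) (MvPolynomial (Fin n) B)),
        algebraMap (MvPolynomial (Fin n) B) (MvPolynomial (Fin n) R) y = x) ?_ ?_ ?_ ?_ hx'
  · rintro _ ⟨a, ha, rfl⟩
    exact ⟨∅, fun B _ _ _ _ _ => ⟨_, Ideal.mem_map_of_mem _ ha, algMap_comp A R n B a⟩⟩
  · exact ⟨∅, fun B _ _ _ _ _ => ⟨0, zero_mem _, map_zero _⟩⟩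
  · rintro x y _ _ ⟨s₁, h₁⟩ ⟨s₂, h₂⟩
    refine ⟨s₁ ∪ s₂, fun B _ _ _ _ hs => ?_⟩
    obtain ⟨y₁, hy₁, e₁⟩ := h₁ B ((Finset.coe_subset.mpr Finset.subset_union_left).trans hs)
    obtain ⟨y₂, hy₂, e₂⟩ := h₂ B ((Finset.coe_subset.mpr Finset.subset_union_right).trans hs)
    exact ⟨y₁ + y₂, add_mem hy₁ hy₂, by rw [map_add, e₁, e₂]⟩
  · rintro r x _ ⟨s₁, h₁⟩
    refine ⟨s₁ ∪ r.coeffs, fun B _ _ _ _ hs => ?_⟩
    obtain ⟨y₁, hy₁, e₁⟩ := h₁ B ((Finset.coe_subset.mpr Finset.subset_union_left).trans hs)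
    have hr : r ∈ Set.range (MvPolynomial.map (algebraMap B R)) := by
      rw [MvPolynomial.mem_range_map_iff_coeffs_subset]
      exact (Finset.coe_subset.mpr Finset.subset_union_right).trans hs
    obtain ⟨r', hr'⟩ := hr
    refine ⟨r' * y₁, Ideal.mul_mem_left _ _ hy₁, ?_⟩
    rw [map_mul, e₁, smul_eq_mul, MvPolynomial.algebraMap_def, hr']

theorem exists_finset_descent (c : ℕ) (K : Ideal (MvPolynomial (Fin n) A))
    (h : PtOK R n c (K.map (algebraMap (MvPolynomial (Fin n) A) (MvPolynomial (Fin n) R)))) :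
    ∃ s : Finset R, ∀ (B : Type u) [CommRing B] [Algebra A B] [Algebra B R] [IsScalarTower A B R],
      Function.Injective (algebraMap B R) → ((s : Set R) ⊆ Set.range (algebraMap B R)) →
      PtOK B n c (K.map (algebraMap (MvPolynomial (Fin n) A) (MvPolynomial (Fin n) B))) := by
  classical
  obtain ⟨Z, hZdef⟩ : ∃ Z : Set (PrimeSpectrum (MvPolynomial (Fin n) A ⧸ K)),
      Z = {q | ¬ (c ≤ n ∧ FlatMor.fibreDimAt
        (Spec.map (CommRingCat.ofHom (algebraMap A (MvPolynomial (Fin n) A ⧸ K))))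
        (show ↥(Spec (CommRingCat.of (MvPolynomial (Fin n) A ⧸ K))) from q) ≤
          ((n - c : ℕ) : WithBot ℕ∞))} := ⟨_, rfl⟩
  have hmemZ : ∀ q : PrimeSpectrum (MvPolynomial (Fin n) A ⧸ K), q ∉ Z →
      c ≤ n ∧ FlatMor.fibreDimAt
        (Spec.map (CommRingCat.ofHom (algebraMap A (MvPolynomial (Fin n) A ⧸ K))))
        (show ↥(Spec (CommRingCat.of (MvPolynomial (Fin n) A ⧸ K))) from q) ≤
          ((n - c : ℕ) : WithBot ℕ∞) := by
    intro q hq
    rw [hZdef] at hq
    exact not_not.mp hq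
  have hZ : IsClosed Z := by
    by_cases hcn : c ≤ n
    · have hopen := Groth.Agent.S0402.result
        (Spec.map (CommRingCat.ofHom (algebraMap A (MvPolynomial (Fin n) A ⧸ K)))) (n - c)
      have : Z = ({x : ↥(Spec (CommRingCat.of (MvPolynomial (Fin n) A ⧸ K))) |
          FlatMor.fibreDimAt
            (Spec.map (CommRingCat.ofHom (algebraMap A (MvPolynomial (Fin n) A ⧸ K)))) x ≤
            ((n - c : ℕ) : WithBot ℕ∞)})ᶜ := by
        rw [hZdef]
        ext q
        simp only [Set.mem_setOf_eq, Set.mem_compl_iff, hcn, true_and]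
      rw [this]
      exact hopen.isClosed_compl
    · have : Z = Set.univ := Set.eq_univ_of_forall fun q => by
        rw [hZdef]
        exact fun hh => hcn hh.1
      rw [this]
      exact isClosed_univ
  obtain ⟨I, hI⟩ : ∃ I : Ideal (MvPolynomial (Fin n) A ⧸ K),
      I = PrimeSpectrum.vanishingIdeal Z := ⟨_, rfl⟩
  have hZI : PrimeSpectrum.zeroLocus (I : Set (MvPolynomial (Fin n) A ⧸ K)) = Z := by
    rw [hI, PrimeSpectrum.zeroLocus_vanishingIdeal_eq_closure, hZ.closure_eq]
  obtain ⟨J, hJ⟩ : ∃ J : Ideal (MvPolynomial (Fin n) A), J = I.comap (Ideal.Quotient.mk K) :=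
    ⟨_, rfl⟩
  have hKJ : K ≤ J := fun x hx => by
    rw [hJ, Ideal.mem_comap, Ideal.Quotient.eq_zero_iff_mem.mpr hx]
    exact zero_mem _
  have hJI : ∀ a : MvPolynomial (Fin n) A, a ∈ J → Ideal.Quotient.mk K a ∈ I := by
    intro a ha
    rw [hJ] at ha
    exact ha
  -- Claim 1
  have h1 : J.map (algebraMap (MvPolynomial (Fin n) A) (MvPolynomial (Fin n) R)) = ⊤ := by
    by_contra hne
    obtain ⟨M, hM, hle⟩ := Ideal.exists_le_maximal _ hne
    haveI := hM.isPrime
    have hKM : K.map (algebraMap (MvPolynomial (Fin n) A) (MvPolynomial (Fin n) R)) ≤ M :=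
      (Ideal.map_mono hKJ).trans hle
    haveI : (M.map (Ideal.Quotient.mk
        (K.map (algebraMap (MvPolynomial (Fin n) A) (MvPolynomial (Fin n) R))))).IsPrime :=
      Ideal.map_isPrime_of_surjective Ideal.Quotient.mk_surjective
        (by rw [Ideal.mk_ker]; exact hKM)
    obtain ⟨hcn, hle'⟩ := h ⟨M.map (Ideal.Quotient.mk
        (K.map (algebraMap (MvPolynomial (Fin n) A) (MvPolynomial (Fin n) R)))), inferInstance⟩
    rw [fibreDimAt_bc A R n K] at hle'
    have hnotZ : PrimeSpectrum.comap (algebraMap (MvPolynomial (Fin n) A ⧸ K)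
        (MvPolynomial (Fin n) R ⧸
          K.map (algebraMap (MvPolynomial (Fin n) A) (MvPolynomial (Fin n) R))))
        ⟨M.map (Ideal.Quotient.mk
          (K.map (algebraMap (MvPolynomial (Fin n) A) (MvPolynomial (Fin n) R)))),
          inferInstance⟩ ∉ Z := by
      rw [hZdef]
      exact fun hz => hz ⟨hcn, hle'⟩
    apply hnotZ
    rw [← hZI, PrimeSpectrum.mem_zeroLocus]
    intro a ha
    obtain ⟨a', rfl⟩ := Ideal.Quotient.mk_surjective a
    have ha' : a' ∈ J := by
      rw [hJ]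
      exact ha
    show algebraMap (MvPolynomial (Fin n) A ⧸ K) (MvPolynomial (Fin n) R ⧸
          K.map (algebraMap (MvPolynomial (Fin n) A) (MvPolynomial (Fin n) R)))
        (Ideal.Quotient.mk K a') ∈ M.map (Ideal.Quotient.mk
          (K.map (algebraMap (MvPolynomial (Fin n) A) (MvPolynomial (Fin n) R))))
    have hrfl : algebraMap (MvPolynomial (Fin n) A ⧸ K) (MvPolynomial (Fin n) R ⧸
          K.map (algebraMap (MvPolynomial (Fin n) A) (MvPolynomial (Fin n) R)))
        (Ideal.Quotient.mk K a') = Ideal.Quotient.mk _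
          (algebraMap (MvPolynomial (Fin n) A) (MvPolynomial (Fin n) R) a') := rfl
    rw [hrfl]
    exact Ideal.mem_map_of_mem _ (hle (Ideal.mem_map_of_mem _ ha'))
  -- Claim 2
  obtain ⟨s, hs⟩ := exists_finset_lift A R n J 1 (by rw [h1]; exact Submodule.mem_top)
  refine ⟨s, fun B _ _ _ _ hinj hsB => ?_⟩
  obtain ⟨y, hy, hy1⟩ := hs B hsB
  have hy' : y = 1 := by
    apply MvPolynomial.map_injective _ hinj
    show algebraMap (MvPolynomial (Fin n) B) (MvPolynomial (Fin n) R) y =
      algebraMap (MvPolynomial (Fin n) B) (MvPolynomial (Fin n) R) 1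
    rw [hy1, map_one]
  have hJB : J.map (algebraMap (MvPolynomial (Fin n) A) (MvPolynomial (Fin n) B)) = ⊤ := by
    rw [Ideal.eq_top_iff_one, ← hy']
    exact hy
  -- Claim 3
  intro 𝔮
  have hnotZ : PrimeSpectrum.comap (algebraMap (MvPolynomial (Fin n) A ⧸ K)
        (MvPolynomial (Fin n) B ⧸
          K.map (algebraMap (MvPolynomial (Fin n) A) (MvPolynomial (Fin n) B)))) 𝔮 ∉ Z := by
    intro hz
    rw [← hZI, PrimeSpectrum.mem_zeroLocus] at hz
    have hsub : J.map (algebraMap (MvPolynomial (Fin n) A) (MvPolynomial (Fin n) B)) ≤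
        𝔮.asIdeal.comap (Ideal.Quotient.mk
          (K.map (algebraMap (MvPolynomial (Fin n) A) (MvPolynomial (Fin n) B)))) := by
      rw [Ideal.map_le_iff_le_comap]
      intro a' ha'
      exact hz (hJI a' ha')
    rw [hJB] at hsub
    have h1mem := hsub (Submodule.mem_top (x := (1 : MvPolynomial (Fin n) B)))
    rw [Ideal.mem_comap, map_one] at h1mem
    exact 𝔮.2.ne_top ((Ideal.eq_top_iff_one _).mpr h1mem)
  obtain ⟨hcn, hle⟩ := hmemZ _ hnotZ
  refine ⟨hcn, ?_⟩
  rw [fibreDimAt_bc A B n K 𝔮]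
  exact hle

end

end Groth.Agent.Lib.Helper48.RelGCIDescent
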