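/-
helper48: the zero scheme `PicF2.zeroScheme L s` of a section of a quasi-coherent module of finite
type: its ideal on every affine open `U` is the colon ideal `PicF2.zeroIdealOn L s U`
(`ideal_zeroScheme`), and where `L` is free on `e` and `s = c • e` it is `(c)`
(`zeroIdealOn_eq_span`, `ideal_zeroScheme_eq_span`).
-/
import Groth.Agent.Lib.Ample.SecTwistBridge
import Groth.Agent.Lib.Helper22.QCohLoc
import Groth.Agent.Lib.QCoh.AffineOpen
import Groth.Agent.Lib.QCoh.Invertible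
import Groth.Prelude.Def_PicF2

set_option autoImplicit false
universe u

open AlgebraicGeometry CategoryTheory TopologicalSpace Opposite

namespace Groth.Agent.Lib.Helper48.ZeroScheme

section Algebra

variable {A A' M M' : Type*} [CommRing A] [CommRing A'] [AddCommGroup M] [Module A M]
  [AddCommGroup M'] [Module A' M']

/-- colon ideals `(Aσ : M)` commute with localization at one element, for `M` finitely generated;
elementwise form. -/
theorem map_eq_of_colon (φ : A →+* A') (ℓ : M →+ M')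
    (hℓ : ∀ (a : A) (m : M), ℓ (a • m) = φ a • ℓ m)
    (f : A) (hf : IsUnit (φ f))
    (hA : ∀ a' : A', ∃ (n : ℕ) (a : A), a' * φ f ^ n = φ a)
    (hM : ∀ m' : M', ∃ (n : ℕ) (m : M), φ f ^ n • m' = ℓ m)
    (hker : ∀ m : M, ℓ m = 0 → ∃ n : ℕ, f ^ n • m = 0)
    (hfg : (⊤ : Submodule A M).FG)
    (σ : M) (σ' : M') (hσ : ℓ σ = σ') (I : Ideal A) (I' : Ideal A')
    (hI : ∀ a, a ∈ I ↔ ∀ m : M, ∃ b : A, a • m = b • σ)
    (hI' : ∀ a', a' ∈ I' ↔ ∀ m' : M', ∃ b' : A', a' • m' = b' • σ') :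
    I.map φ = I' := by
  subst hσ
  apply le_antisymm
  · rw [Ideal.map_le_iff_le_comap]
    intro a ha
    rw [Ideal.mem_comap, hI']
    intro m'
    obtain ⟨n, m, hm⟩ := hM m'
    obtain ⟨b, hb⟩ := (hI a).1 ha m
    obtain ⟨u, hu⟩ := hf.pow n
    refine ⟨↑u⁻¹ * φ b, ?_⟩
    have h1 : φ a • ℓ m = φ b • ℓ σ := by rw [← hℓ, hb, hℓ]
    calc φ a • m' = ((↑u⁻¹ : A') * ↑u) • (φ a • m') := by rw [Units.inv_mul, one_smul]
      _ = (↑u⁻¹ : A') • (φ a • ((φ f ^ n) • m')) := by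
          rw [mul_smul, hu, smul_comm (φ f ^ n) (φ a) m']
      _ = (↑u⁻¹ * φ b) • ℓ σ := by rw [hm, h1, mul_smul]
  · intro a' ha'
    obtain ⟨n, a, hna⟩ := hA a'
    have ha : φ a ∈ I' := hna ▸ I'.mul_mem_right _ ha'
    have key : ∀ N : Submodule A M, N.FG →
        ∃ k : ℕ, ∀ m ∈ N, ∃ b : A, (f ^ k * a) • m = b • σ := by
      intro N hN
      refine Submodule.fg_induction
        (motive := fun N _ => ∃ k : ℕ, ∀ m ∈ N, ∃ b : A, (f ^ k * a) • m = b • σ) ?_ ?_ N hN
      · intro x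
        obtain ⟨b', hb'⟩ := (hI' (φ a)).1 ha (ℓ x)
        obtain ⟨n₁, b, hb⟩ := hA b'
        have h00 : φ f ^ n₁ • φ a • ℓ x = φ b • ℓ σ := by
          rw [hb', ← mul_smul, mul_comm, hb]
        have h0 : ℓ ((f ^ n₁ * a) • x - b • σ) = 0 := by
          rw [map_sub, hℓ, hℓ, map_mul, map_pow, mul_smul, h00, sub_self]
        obtain ⟨n₂, hn₂⟩ := hker _ h0
        refine ⟨n₂ + n₁, fun m hm => ?_⟩
        obtain ⟨r, rfl⟩ := Submodule.mem_span_singleton.1 hm
        refine ⟨r * (f ^ n₂ * b), ?_⟩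
        rw [smul_sub, sub_eq_zero] at hn₂
        calc (f ^ (n₂ + n₁) * a) • r • x = r • (f ^ n₂ • ((f ^ n₁ * a) • x)) := by
              simp only [smul_smul]; congr 1; ring
          _ = (r * (f ^ n₂ * b)) • σ := by rw [hn₂]; simp only [smul_smul]
      · rintro N₁ N₂ - - ⟨k₁, h₁⟩ ⟨k₂, h₂⟩
        refine ⟨k₁ + k₂, fun m hm => ?_⟩
        obtain ⟨m₁, hm₁, m₂, hm₂, rfl⟩ := Submodule.mem_sup.1 hm
        obtain ⟨b₁, hb₁⟩ := h₁ m₁ hm₁
        obtain ⟨b₂, hb₂⟩ := h₂ m₂ hm₂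
        refine ⟨f ^ k₂ * b₁ + f ^ k₁ * b₂, ?_⟩
        calc (f ^ (k₁ + k₂) * a) • (m₁ + m₂)
            = f ^ k₂ • ((f ^ k₁ * a) • m₁) + f ^ k₁ • ((f ^ k₂ * a) • m₂) := by
              rw [smul_add]; simp only [smul_smul]; congr 2 <;> ring
          _ = (f ^ k₂ * b₁ + f ^ k₁ * b₂) • σ := by
              rw [hb₁, hb₂, add_smul]; simp only [smul_smul]
    obtain ⟨k, hk⟩ := key ⊤ hfg
    have hmem : f ^ k * a ∈ I := (hI _).2 (fun m => hk m Submodule.mem_top)
    obtain ⟨u, hu⟩ := hf.pow (k + n)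
    have e : φ (f ^ k * a) = a' * ↑u := by
      rw [hu, map_mul, map_pow, ← hna, pow_add]; ring
    have e2 : a' = φ (f ^ k * a) * ↑u⁻¹ := by rw [e, mul_assoc, Units.mul_inv, mul_one]
    rw [e2]
    exact Ideal.mul_mem_right _ _ (Ideal.mem_map_of_mem φ hmem)

end Algebra

open Groth.Agent.Lib.Ample

variable {X : Scheme.{u}}

theorem mem_zeroIdealOn_iff (L : X.Modules) (s : Coh.structureModule X ⟶ L) (U : X.Opens)
    (a : Γ(X, U)) :
    a ∈ (show Ideal Γ(X, U) from PicF2.zeroIdealOn L s U) ↔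
      ∀ m : Γ(L, U), ∃ b : Γ(X, U), a • m = b • (SecTwist.val s U : Γ(L, U)) := Iff.rfl

theorem map_zeroIdealOn_basicOpen (L : X.Modules) [L.IsQuasicoherent] [L.IsFiniteType]
    (s : Coh.structureModule X ⟶ L) (U : X.affineOpens) (f : Γ(X, U)) :
    (show Ideal Γ(X, U) from PicF2.zeroIdealOn L s U.1).map
        (X.presheaf.map (homOfLE (X.basicOpen_le f)).op).hom =
      (show Ideal Γ(X, X.basicOpen f) from PicF2.zeroIdealOn L s (X.basicOpen f)) := by
  have hfin : Module.Finite Γ(X, U.1) Γ(L, U.1) :=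
    Groth.Agent.Lib.QCoh.finite_Γ_of_isAffineOpen U.2 L
  have inst := U.2.isLocalization_basicOpen f
  refine map_eq_of_colon (M := Γ(L, U.1)) (M' := Γ(L, X.basicOpen f))
    (X.presheaf.map (homOfLE (X.basicOpen_le f)).op).hom
    (L.presheaf.map (homOfLE (X.basicOpen_le f)).op).hom
    (fun a m => L.map_smul (homOfLE (X.basicOpen_le f)) a m) f
    (RingedSpace.isUnit_res_basicOpen _ f) ?_ ?_ ?_ (Module.finite_def.1 hfin)
    (SecTwist.val s U.1 : Γ(L, U.1)) (SecTwist.val s (X.basicOpen f) : Γ(L, X.basicOpen f))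
    (SecTwist.map_val s (homOfLE (X.basicOpen_le f))) _ _
    (fun a => mem_zeroIdealOn_iff L s U.1 a) (fun a' => mem_zeroIdealOn_iff L s _ a')
  · intro a'
    obtain ⟨⟨a, ⟨_, n, rfl⟩⟩, h⟩ := IsLocalization.surj (Submonoid.powers f) a'
    exact ⟨n, a, by rw [← map_pow]; exact h⟩
  · intro m'
    obtain ⟨n, m, h⟩ := Groth.Agent.Lib.Helper22.exists_pow_smul_eq_map_of_isAffineOpen L U.2 f m'
    exact ⟨n, m, h.symm⟩
  · intro m hm
    exact Groth.Agent.Lib.Helper22.exists_pow_smul_eq_zero_of_isAffineOpen L U.2 f m hm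

/-- the ideal sheaf with values the colon ideals -/
noncomputable def zeroIdealSheaf (L : X.Modules) [L.IsQuasicoherent] [L.IsFiniteType]
    (s : Coh.structureModule X ⟶ L) : X.IdealSheafData where
  ideal U := (show Ideal Γ(X, U) from PicF2.zeroIdealOn L s U.1)
  map_ideal_basicOpen U f := map_zeroIdealOn_basicOpen L s U f

theorem zeroScheme_eq (L : X.Modules) [L.IsQuasicoherent] [L.IsFiniteType]
    (s : Coh.structureModule X ⟶ L) : PicF2.zeroScheme L s = zeroIdealSheaf L s :=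
  Scheme.IdealSheafData.ofIdeals_ideal (zeroIdealSheaf L s)

/-- **the ideal of `Z(s)` on an affine open is the colon ideal** -/
theorem ideal_zeroScheme (L : X.Modules) [L.IsQuasicoherent] [L.IsFiniteType]
    (s : Coh.structureModule X ⟶ L) (U : X.affineOpens) :
    (PicF2.zeroScheme L s).ideal U = (show Ideal Γ(X, U) from PicF2.zeroIdealOn L s U.1) := by
  rw [zeroScheme_eq]
  rfl

/-- where `L` is free on `e` and `s = c • e`, the colon ideal is `(c)` -/
theorem zeroIdealOn_eq_span (L : X.Modules) (s : Coh.structureModule X ⟶ L) (U : X.Opens)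
    (e : Γ(L, U)) (he : IsGenerator L U e) (c : Γ(X, U))
    (hc : (SecTwist.val s U : Γ(L, U)) = c • e) :
    (show Ideal Γ(X, U) from PicF2.zeroIdealOn L s U) = Ideal.span {c} := by
  have hid : L.presheaf.map (homOfLE (le_refl U)).op e = e := by
    have h2 : (homOfLE (le_refl U)) = 𝟙 U := rfl
    rw [h2, op_id, L.presheaf.map_id]
    rfl
  have hb := he.bijective (le_refl U)
  rw [hid] at hb
  ext a
  rw [Ideal.mem_span_singleton', mem_zeroIdealOn_iff]
  constructor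
  · intro ha
    obtain ⟨b, hb'⟩ := ha e
    refine ⟨b, hb.1 ?_⟩
    show (b * c) • e = a • e
    rw [hb', hc]
    exact mul_smul b c e
  · rintro ⟨b, rfl⟩ m
    obtain ⟨r, hr⟩ := hb.2 m
    refine ⟨r * b, ?_⟩
    have hr' : r • e = m := hr
    have h3 : (b * c) * r = (r * b) * c := by ring
    calc (b * c) • m = (b * c) • (r • e) := by rw [hr']
      _ = ((b * c) * r) • e := (mul_smul _ _ _).symm
      _ = ((r * b) * c) • e := by rw [h3]
      _ = (r * b) • (c • e) := mul_smul _ _ _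
      _ = (r * b) • (SecTwist.val s U : Γ(L, U)) := congrArg (fun t : Γ(L, U) => (r * b) • t) hc.symm

theorem ideal_zeroScheme_eq_span (L : X.Modules) (hL : PicF.IsInvertible L)
    (s : Coh.structureModule X ⟶ L) (U : X.affineOpens)
    (e : Γ(L, U.1)) (he : IsGenerator L U.1 e) (c : Γ(X, U.1))
    (hc : (SecTwist.val s U.1 : Γ(L, U.1)) = c • e) :
    (PicF2.zeroScheme L s).ideal U = Ideal.span {c} := by
  haveI := Groth.Agent.Lib.QCoh.isQuasicoherent_of_isInvertible hL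
  haveI := Groth.Agent.Lib.QCoh.isFiniteType_of_isInvertible hL
  rw [ideal_zeroScheme]
  exact zeroIdealOn_eq_span L s U.1 e he c hc

end Groth.Agent.Lib.Helper48.ZeroScheme
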