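/-
helper48: the universal property of `CohB1.tensorMod` on pure tensors of sections, and an
isomorphism criterion via free generators.
* `exists_desc` : a family of `Γ(X,U)`-bilinear maps `Γ(M,U) × Γ(N,U) → Γ(F,U)` compatible with
  restriction gives `μ : tensorMod M N ⟶ F` with `μ (m ⊗ n) = β m n`.
* `isIso_of_isGenerator` : a morphism carrying local free generators to local free generators is an
  isomorphism.
-/
import Groth.Agent.Lib.Ample.Helper50_MulSec

set_option autoImplicit false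
universe u

open CategoryTheory MonoidalCategory Opposite TensorProduct AlgebraicGeometry TopologicalSpace

namespace Groth.Agent.Lib.Helper48.TensorDesc

open Groth.Agent.Lib.QCoh CohB1 Scheme.Modules Groth.Agent.Lib.Ample

variable {X : Scheme.{u}}

set_option backward.isDefEq.respectTransparency false in
/-- the presheaf-level morphism out of the sectionwise tensor product given by bilinear maps -/
noncomputable def preDesc (M N F : X.Modules)
    (β : ∀ U : X.Opens, Γ(M, U) → Γ(N, U) → Γ(F, U))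
    (h1 : ∀ (U : X.Opens) (m m' : Γ(M, U)) (n : Γ(N, U)), β U (m + m') n = β U m n + β U m' n)
    (h2 : ∀ (U : X.Opens) (a : Γ(X, U)) (m : Γ(M, U)) (n : Γ(N, U)),
      β U (a • m) n = a • β U m n)
    (h3 : ∀ (U : X.Opens) (m : Γ(M, U)) (n n' : Γ(N, U)), β U m (n + n') = β U m n + β U m n')
    (h4 : ∀ (U : X.Opens) (a : Γ(X, U)) (m : Γ(M, U)) (n : Γ(N, U)),
      β U m (a • n) = a • β U m n)
    (hres : ∀ (U V : X.Opens) (i : V ⟶ U) (m : Γ(M, U)) (n : Γ(N, U)),
      F.presheaf.map i.op (β U m n) = β V (M.presheaf.map i.op m) (N.presheaf.map i.op n)) :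
    (incl X).obj M ⊗ (incl X).obj N ⟶ (incl X).obj F where
  app U := ModuleCat.MonoidalCategory.tensorLift
    (M₁ := ((incl X).obj M).obj U) (M₂ := ((incl X).obj N).obj U)
    (M₃ := ((incl X).obj F).obj U)
    (fun m n => β U.unop m n) (h1 U.unop) (h2 U.unop) (h3 U.unop) (h4 U.unop)
  naturality {U V} i := ModuleCat.MonoidalCategory.tensor_ext (fun m n =>
    (hres U.unop V.unop i.unop m n).symm)

/-- universal property of `tensorMod` on pure tensors -/
theorem exists_desc (M N F : X.Modules)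
    (β : ∀ U : X.Opens, Γ(M, U) → Γ(N, U) → Γ(F, U))
    (h1 : ∀ (U : X.Opens) (m m' : Γ(M, U)) (n : Γ(N, U)), β U (m + m') n = β U m n + β U m' n)
    (h2 : ∀ (U : X.Opens) (a : Γ(X, U)) (m : Γ(M, U)) (n : Γ(N, U)),
      β U (a • m) n = a • β U m n)
    (h3 : ∀ (U : X.Opens) (m : Γ(M, U)) (n n' : Γ(N, U)), β U m (n + n') = β U m n + β U m n')
    (h4 : ∀ (U : X.Opens) (a : Γ(X, U)) (m : Γ(M, U)) (n : Γ(N, U)),
      β U m (a • n) = a • β U m n)
    (hres : ∀ (U V : X.Opens) (i : V ⟶ U) (m : Γ(M, U)) (n : Γ(N, U)),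
      F.presheaf.map i.op (β U m n) = β V (M.presheaf.map i.op m) (N.presheaf.map i.op n)) :
    ∃ μ : tensorMod M N ⟶ F, ∀ (U : X.Opens) (m : Γ(M, U)) (n : Γ(N, U)),
      μ.app U (tmulSect M N m n) = β U m n := by
  obtain ⟨φ, hφ⟩ : ∃ φ : (incl X).obj M ⊗ (incl X).obj N ⟶ (incl X).obj F,
      φ = preDesc M N F β h1 h2 h3 h4 hres := ⟨_, rfl⟩
  refine ⟨(tensorModHomEquiv M N F).symm φ, fun U m n => ?_⟩
  have h : tensorUnit M N ≫ (incl X).map ((tensorModHomEquiv M N F).symm φ) = φ :=
    ((shfAdj X).homEquiv_unit _ _ _).symm.trans ((tensorModHomEquiv M N F).apply_symm_apply φ)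
  have h2 := congrArg (fun k => k.app (op U)) h
  have h3 := congr($h2 ((show (((incl X).obj M).obj (op U) : Type u) from m) ⊗ₜ[Γ(X, U)]
      (show (((incl X).obj N).obj (op U) : Type u) from n)))
  subst hφ
  exact h3

/-- a morphism carrying local free generators to local free generators is an isomorphism -/
theorem isIso_of_isGenerator {M N : X.Modules} (μ : M ⟶ N)
    (h : ∀ x : X, ∃ (U : X.Opens) (_ : x ∈ U) (e : Γ(M, U)),
      IsGenerator M U e ∧ IsGenerator N U (μ.app U e)) : IsIso μ := by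
  refine Groth.Agent.Lib.QCoh.isIso_of_bijective_app_of_isBasis μ
    (fun i : {V : X.Opens // ∃ (U : X.Opens) (e : Γ(M, U)),
      V ≤ U ∧ IsGenerator M U e ∧ IsGenerator N U (μ.app U e)} => i.1) ?_ ?_
  · rw [Opens.isBasis_iff_nbhd]
    intro V x hx
    obtain ⟨U, hxU, e, he, he'⟩ := h x
    exact ⟨V ⊓ U, ⟨⟨V ⊓ U, U, e, inf_le_right, he, he'⟩, rfl⟩, ⟨hx, hxU⟩, inf_le_left⟩
  · rintro ⟨V, U, e, hVU, he, he'⟩
    have b1 := he.bijective hVU
    have b2 := he'.bijective hVU
    have hcomp : (fun a : Γ(X, V) => a • N.presheaf.map (homOfLE hVU).op (μ.app U e)) =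
        (μ.app V) ∘ (fun a : Γ(X, V) => a • M.presheaf.map (homOfLE hVU).op e) := by
      funext a
      simp only [Function.comp]
      rw [Scheme.Modules.Hom.app_smul, app_naturality_apply μ (homOfLE hVU) e]
    rw [hcomp] at b2
    exact (Function.Bijective.of_comp_iff (μ.app V) b1).1 b2

end Groth.Agent.Lib.Helper48.TensorDesc
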