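import Groth.Agent.Lib.Ample.Basic
import Groth.Agent.Lib.QCoh.Helper50_FlatBC
import Groth.Agent.Lib.QCoh.Helper50_FinitePush

/-!
# Gluing free generators; generators of a pushforward along an open immersion (helper48)
-/

universe u

open CategoryTheory AlgebraicGeometry TopologicalSpace Opposite

namespace Groth.Agent.Lib.Helper48.UfdPic

open Groth.Agent.Lib.Ample Groth.Agent.Lib.QCoh

section General

variable {X : Scheme.{u}}

lemma resSec_self (M : X.Modules) {V : X.Opens} (m : Γ(M, V)) : resSec M (le_refl V) m = m := by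
  unfold resSec
  have h : (homOfLE (le_refl V)).op = 𝟙 (op V) := rfl
  rw [h, M.presheaf.map_id]
  rfl

lemma resFn_resFn {U V W : X.Opens} (h : V ≤ U) (h' : W ≤ V) (t : Γ(X, U)) :
    resFn h' (resFn h t) = resFn (h'.trans h) t := by
  unfold resFn
  rw [← CommRingCat.comp_apply, ← Functor.map_comp]
  rfl

/-- functions are determined on a cover -/
lemma fn_ext_of_cover {ι : Type*} (A : ι → X.Opens) (V : X.Opens)
    (hAV : ∀ i, A i ≤ V) (hcover : V ≤ iSup A) (s t : Γ(X, V))
    (h : ∀ i, resFn (hAV i) s = resFn (hAV i) t) : s = t :=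
  X.sheaf.eq_of_locally_eq' A V (fun i => homOfLE (hAV i)) hcover s t h

/-- compatible functions glue -/
lemma fn_gluing_of_cover {ι : Type*} (A : ι → X.Opens) (V : X.Opens)
    (hAV : ∀ i, A i ≤ V) (hcover : V ≤ iSup A) (sf : ∀ i, Γ(X, A i))
    (hsf : ∀ i j, resFn (inf_le_left : A i ⊓ A j ≤ A i) (sf i) =
      resFn (inf_le_right : A i ⊓ A j ≤ A j) (sf j)) :
    ∃ s : Γ(X, V), ∀ i, resFn (hAV i) s = sf i := by
  obtain ⟨s, hs, -⟩ := X.sheaf.existsUnique_gluing' A V (fun i => homOfLE (hAV i)) hcover sf hsf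
  exact ⟨s, hs⟩

theorem exists_unit_smul {M : X.Modules} {V : X.Opens} {e e' : Γ(M, V)}
    (he : IsGenerator M V e) (he' : IsGenerator M V e') :
    ∃ a : Γ(X, V), IsUnit a ∧ e' = a • e := by
  obtain ⟨a, ha⟩ := (he V le_rfl).2 e'
  obtain ⟨b, hb⟩ := (he' V le_rfl).2 e
  have ha' : a • e = e' := by
    have := ha
    simp only [resSec_self] at this
    exact this
  have hb' : b • e' = e := by
    have := hb
    simp only [resSec_self] at this
    exact this
  have hab : b * a = 1 := by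
    apply (he V le_rfl).1
    show (b * a) • resSec M le_rfl e = (1 : Γ(X, V)) • resSec M le_rfl e
    rw [resSec_self, mul_smul, ha', hb', one_smul]
  exact ⟨a, IsUnit.of_mul_eq_one_right _ hab, ha'.symm⟩

theorem IsGenerator.unit_smul {M : X.Modules} {V : X.Opens} {e : Γ(M, V)}
    (he : IsGenerator M V e) {b : Γ(X, V)} (hb : IsUnit b) : IsGenerator M V (b • e) := by
  intro W hW
  have hbW : IsUnit (resFn hW b) := hb.map (X.presheaf.map (homOfLE hW).op).hom
  have h : (fun r : Γ(X, W) => r • resSec M hW (b • e)) =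
      (fun r : Γ(X, W) => r • resSec M hW e) ∘ (fun r : Γ(X, W) => r * resFn hW b) := by
    funext r
    simp only [Function.comp, resSec_smul, mul_smul]
  rw [h]
  exact (he W hW).comp (IsUnit.isUnit_iff_mulRight_bijective.1 hbW)

/-- free generators agreeing on overlaps glue to a free generator -/
theorem exists_isGenerator_of_cover (M : X.Modules) {ι : Type*} (A : ι → X.Opens) (V : X.Opens)
    (hAV : ∀ i, A i ≤ V) (hcover : V ≤ iSup A) (e : ∀ i, Γ(M, A i))
    (he : ∀ i, IsGenerator M (A i) (e i))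
    (hcompat : ∀ i j, resSec M (inf_le_left : A i ⊓ A j ≤ A i) (e i) =
      resSec M (inf_le_right : A i ⊓ A j ≤ A j) (e j)) :
    ∃ ε : Γ(M, V), IsGenerator M V ε := by
  obtain ⟨ε, hε⟩ := exists_gluing_of_cover M A V hAV hcover e hcompat
  have hε' : ∀ i, resSec M (hAV i) ε = e i := hε
  refine ⟨ε, ?_⟩
  intro W hW
  have hB : ∀ i, W ⊓ A i ≤ W := fun i => inf_le_left
  have hcovW : W ≤ iSup (fun i => W ⊓ A i) := by
    intro x hx
    have h1 := hcover (hW hx)
    rw [Opens.mem_iSup] at h1 ⊢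
    obtain ⟨i, hi⟩ := h1
    exact ⟨i, hx, hi⟩
  have key : ∀ i, resSec M (hB i) (resSec M hW ε) =
      resSec M (inf_le_right : W ⊓ A i ≤ A i) (e i) := by
    intro i
    rw [resSec_resSec, ← hε' i, resSec_resSec]
  constructor
  · intro r r' hrr
    have hrr' : r • resSec M hW ε = r' • resSec M hW ε := hrr
    refine fn_ext_of_cover (fun i => W ⊓ A i) W hB hcovW r r' (fun i => ?_)
    have h1 := congrArg (resSec M (hB i)) hrr'
    rw [resSec_smul, resSec_smul, key i] at h1
    exact ((he i) (W ⊓ A i) inf_le_right).1 h1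
  · intro t
    have hr : ∀ i, ∃ r : Γ(X, W ⊓ A i),
        r • resSec M (inf_le_right : W ⊓ A i ≤ A i) (e i) = resSec M (hB i) t :=
      fun i => ((he i) (W ⊓ A i) inf_le_right).2 _
    choose r hr using hr
    have hrc : ∀ i j, resFn (inf_le_left : (W ⊓ A i) ⊓ (W ⊓ A j) ≤ W ⊓ A i) (r i) =
        resFn (inf_le_right : (W ⊓ A i) ⊓ (W ⊓ A j) ≤ W ⊓ A j) (r j) := by
      intro i j
      have hO : (W ⊓ A i) ⊓ (W ⊓ A j) ≤ A i := inf_le_left.trans inf_le_right
      have hO' : (W ⊓ A i) ⊓ (W ⊓ A j) ≤ A j := inf_le_right.trans inf_le_right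
      have hOij : (W ⊓ A i) ⊓ (W ⊓ A j) ≤ A i ⊓ A j := le_inf hO hO'
      apply ((he i) _ hO).1
      show resFn _ (r i) • resSec M hO (e i) = resFn _ (r j) • resSec M hO (e i)
      have h1 := congrArg (resSec M (inf_le_left : (W ⊓ A i) ⊓ (W ⊓ A j) ≤ W ⊓ A i)) (hr i)
      have h2 := congrArg (resSec M (inf_le_right : (W ⊓ A i) ⊓ (W ⊓ A j) ≤ W ⊓ A j)) (hr j)
      rw [resSec_smul, resSec_resSec, resSec_resSec] at h1 h2
      have h3 : resSec M hO (e i) = resSec M hO' (e j) := by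
        have h4 := congrArg (resSec M hOij) (hcompat i j)
        rw [resSec_resSec, resSec_resSec] at h4
        exact h4
      rw [h1, h3, h2]
    obtain ⟨ρ, hρ⟩ := fn_gluing_of_cover (fun i => W ⊓ A i) W hB hcovW r hrc
    refine ⟨ρ, ?_⟩
    refine sections_ext_of_cover M (fun i => W ⊓ A i) W hB hcovW _ _ (fun i => ?_)
    show resSec M (hB i) (ρ • resSec M hW ε) = resSec M (hB i) t
    rw [resSec_smul, key i, hρ i, hr i]

lemma bijective_transport (L : X.Modules) {T V₁ V₂ : X.Opens} (e : Γ(L, T)) (h : V₁ = V₂)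
    (h₁ : V₁ ≤ T) (h₂ : V₂ ≤ T)
    (hb : Function.Bijective (fun b : Γ(X, V₁) => b • resSec L h₁ e)) :
    Function.Bijective (fun b : Γ(X, V₂) => b • resSec L h₂ e) := by
  subst h
  exact hb

end General

section Bridge

variable {X : Scheme.{u}} (U : X.Opens) (L : (U : Scheme.{u}).Modules)

lemma push_fun_eq {A W : X.Opens} (hW : W ≤ A) (e : Γ(L, U.ι ⁻¹ᵁ A)) :
    (fun r : Γ(X, W) => r • resSec ((Scheme.Modules.pushforward U.ι).obj L) hW
        (show Γ((Scheme.Modules.pushforward U.ι).obj L, A) from e)) =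
      (fun b : Γ((U : Scheme.{u}), U.ι ⁻¹ᵁ W) =>
        b • resSec L (U.ι.preimage_mono hW) e) ∘ (U.ι.app W).hom := by
  funext r
  rfl

theorem isGenerator_pushforward {A : X.Opens} (hA : A ≤ U) (e : Γ(L, U.ι ⁻¹ᵁ A))
    (he : IsGenerator L (U.ι ⁻¹ᵁ A) e) :
    IsGenerator ((Scheme.Modules.pushforward U.ι).obj L) A
      (show Γ((Scheme.Modules.pushforward U.ι).obj L, A) from e) := by
  intro W hW
  have hWU : W ≤ U.ι.opensRange := by
    rw [Scheme.Opens.opensRange_ι]; exact hW.trans hA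
  haveI : IsIso (U.ι.app W) := Scheme.Hom.isIso_app U.ι W hWU
  have hb : Function.Bijective (U.ι.app W).hom := ConcreteCategory.bijective_of_isIso (U.ι.app W)
  have hg := he (U.ι ⁻¹ᵁ W) (U.ι.preimage_mono hW)
  rw [push_fun_eq U L hW e]
  exact hg.comp hb

theorem isGenerator_of_pushforward {A : X.Opens} (hA : A ≤ U) (e : Γ(L, U.ι ⁻¹ᵁ A))
    (he : IsGenerator ((Scheme.Modules.pushforward U.ι).obj L) A
      (show Γ((Scheme.Modules.pushforward U.ι).obj L, A) from e)) :
    IsGenerator L (U.ι ⁻¹ᵁ A) e := by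
  intro W' hW'
  have hWA : U.ι ''ᵁ W' ≤ A := by
    refine (Scheme.Hom.image_mono U.ι hW').trans ?_
    rw [Scheme.Hom.image_preimage_eq_opensRange_inf]
    exact inf_le_right
  have hpre : U.ι ⁻¹ᵁ (U.ι ''ᵁ W') = W' := U.ι.preimage_image_eq W'
  have h1 := he (U.ι ''ᵁ W') hWA
  rw [push_fun_eq U L hWA e] at h1
  have hb : Function.Bijective (U.ι.app (U.ι ''ᵁ W')).hom :=
    ConcreteCategory.bijective_of_isIso (U.ι.app (U.ι ''ᵁ W'))
  have h2 := (Function.Bijective.of_comp_iff _ hb).1 h1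
  exact bijective_transport L e hpre _ hW' h2

end Bridge

end Groth.Agent.Lib.Helper48.UfdPic
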