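import Groth.Agent.Lib.Helper48.UfdPicAlg
import Groth.Agent.Lib.Helper48.UfdPicGlue
import Groth.Agent.Lib.Helper48.TensorDesc
import Groth.Agent.Lib.Ample.Helper50_LocalGen
import Groth.Agent.Lib.Ample.Helper50_GenPow

/-!
# Invertible modules on opens of the spectrum of a UFD are trivial (helper48)
-/

universe u

open CategoryTheory AlgebraicGeometry TopologicalSpace Opposite

namespace Groth.Agent.Lib.Helper48.UfdPic

open Groth.Agent.Lib.Ample Groth.Agent.Lib.QCoh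

section Aux

variable {X : Scheme.{u}}

lemma resFn_pow {V W : X.Opens} (h : W ≤ V) (a : Γ(X, V)) (n : ℕ) :
    resFn h (a ^ n) = resFn h a ^ n := map_pow (X.presheaf.map (homOfLE h).op).hom a n

lemma resFn_mul {V W : X.Opens} (h : W ≤ V) (a b : Γ(X, V)) :
    resFn h (a * b) = resFn h a * resFn h b := map_mul (X.presheaf.map (homOfLE h).op).hom a b

lemma resFn_one {V W : X.Opens} (h : W ≤ V) :
    resFn h (1 : Γ(X, V)) = 1 := map_one (X.presheaf.map (homOfLE h).op).hom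

end Aux

section Spec

variable {R : CommRingCat.{u}}

/-- basic opens of `Spec R` -/
abbrev D (g : R) : (Spec R).Opens := PrimeSpectrum.basicOpen g

/-- constant functions -/
noncomputable abbrev cst (V : (Spec R).Opens) (r : R) : Γ(Spec R, V) := algebraMap R Γ(Spec R, V) r

lemma resFn_cst {V W : (Spec R).Opens} (h : W ≤ V) (r : R) : resFn h (cst V r) = cst W r := by
  show ((Spec R).presheaf.map (homOfLE h).op).hom
      (((Scheme.ΓSpecIso R).inv ≫ (Spec R).presheaf.map (homOfLE le_top).op).hom r) =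
    ((Scheme.ΓSpecIso R).inv ≫ (Spec R).presheaf.map (homOfLE le_top).op).hom r
  rw [← CommRingCat.comp_apply, Category.assoc, ← Functor.map_comp]
  rfl

lemma mem_D {g : R} {x : Spec R} : x ∈ D g ↔ g ∉ PrimeSpectrum.asIdeal x := Iff.rfl

lemma D_mul (f g : R) : D (f * g) = D f ⊓ D g := PrimeSpectrum.basicOpen_mul f g

lemma D_le_of_dvd {a b : R} (h : a ∣ b) : D b ≤ D a := by
  intro x hx
  rw [mem_D] at hx ⊢
  intro ha
  obtain ⟨c, rfl⟩ := h
  exact hx (Ideal.mul_mem_right c _ ha)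

lemma D_pf_le_Df (p f : R) : D (p * f) ≤ D f := D_le_of_dvd (Dvd.intro_left p rfl)

lemma D_pf_le {U : (Spec R).Opens} {p g f : R} (hDf : D f ≤ U ⊓ D g) :
    D (p * f) ≤ U ⊓ D (p * g) := by
  intro x hx
  have hxf : x ∈ D f := D_pf_le_Df p f hx
  have hxp : x ∈ D p := D_le_of_dvd (Dvd.intro f rfl) hx
  have h := hDf hxf
  refine ⟨h.1, ?_⟩
  rw [D_mul]
  exact ⟨hxp, h.2⟩

lemma isUnit_cst_of_le {V : (Spec R).Opens} {p : R} (h : V ≤ D p) : IsUnit (cst V p) := by
  have h0 : IsUnit (cst (D p) p) := IsLocalization.Away.algebraMap_isUnit p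
  have h1 := h0.map ((Spec R).presheaf.map (homOfLE h).op).hom
  rwa [show ((Spec R).presheaf.map (homOfLE h).op).hom (cst (D p) p) = cst V p from
    resFn_cst h p] at h1

lemma cst_pow (V : (Spec R).Opens) (r : R) (n : ℕ) : cst V (r ^ n) = cst V r ^ n := map_pow _ _ _

variable [IsDomain R]

lemma not_isUnit_cst {f p : R} (hp : Prime p) (hpf : ¬ p ∣ f) : ¬ IsUnit (cst (D f) p) :=
  not_isUnit_of_prime Γ(Spec R, D f) hp hpf

lemma resFn_injective {V W : (Spec R).Opens} (h : W ≤ V) {a : R} (ha : a ≠ 0) (hW : D a ≤ W) :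
    Function.Injective (fun s : Γ(Spec R, V) => resFn h s) := by
  haveI : Nonempty W := ⟨⟨⟨⊥, Ideal.isPrime_bot⟩, hW (by
    rw [mem_D]
    intro h0
    exact ha ((Ideal.mem_bot).1 h0))⟩⟩
  have := AlgebraicGeometry.map_injective_of_isIntegral (Spec R) (homOfLE h)
  exact fun s t hst => this hst

variable [UniqueFactorizationMonoid R] (M : (Spec R).Modules)

theorem exists_normalized {U : (Spec R).Opens} {p g f : R} (hp : Prime p) (hf : f ≠ 0)
    (hDf : D f ≤ U ⊓ D g)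
    (e₀ : Γ(M, U ⊓ D (p * g))) (he₀ : IsGenerator M (U ⊓ D (p * g)) e₀)
    (e : Γ(M, D f)) (he : IsGenerator M (D f) e) :
    ∃ (e' : Γ(M, D f)) (k m : ℕ), IsGenerator M (D f) e' ∧
      cst (D (p * f)) p ^ k • resSec M (D_pf_le_Df p f) e' =
        cst (D (p * f)) p ^ m • resSec M (D_pf_le hDf) e₀ := by
  have h1 : D (p * f) ≤ D f := D_pf_le_Df p f
  have h2 : D (p * f) ≤ U ⊓ D (p * g) := D_pf_le hDf
  have g1 := he.mono h1
  have g2 := he₀.mono h2
  obtain ⟨a, ha, hae⟩ := exists_unit_smul g2 g1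
  obtain ⟨k, m, b, hb, hab⟩ := unit_decomp (B := Γ(Spec R, D (p * f))) (C := Γ(Spec R, D f))
    (f := f) (p := p) ((Spec R).presheaf.map (homOfLE h1).op).hom (fun r => resFn_cst h1 r)
    hf hp a ha
  obtain ⟨b', hbb'⟩ := hb.exists_left_inv
  have hb' : IsUnit b' := IsUnit.of_mul_eq_one _ hbb'
  refine ⟨b' • e, k, m, IsGenerator.unit_smul he hb', ?_⟩
  have h3 : resFn h1 b' * resFn h1 b = 1 := by
    show ((Spec R).presheaf.map (homOfLE h1).op).hom b' *
      ((Spec R).presheaf.map (homOfLE h1).op).hom b = 1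
    rw [← map_mul, hbb', map_one]
  have hab' : a * cst (D (p * f)) p ^ k = cst (D (p * f)) p ^ m * resFn h1 b := hab
  rw [resSec_smul, hae, smul_smul, smul_smul]
  congr 1
  calc cst (D (p * f)) p ^ k * resFn h1 b' * a
      = resFn h1 b' * (a * cst (D (p * f)) p ^ k) := by ring
    _ = resFn h1 b' * (cst (D (p * f)) p ^ m * resFn h1 b) := by rw [hab']
    _ = cst (D (p * f)) p ^ m * (resFn h1 b' * resFn h1 b) := by ring
    _ = cst (D (p * f)) p ^ m := by rw [h3, mul_one]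

theorem compare {U : (Spec R).Opens} {p g f f₂ : R} (hp : Prime p) (hf : f ≠ 0) (hf₂ : f₂ ≠ 0)
    (hpf : ¬ p ∣ f) (hpf₂ : ¬ p ∣ f₂) (hDf : D f ≤ U ⊓ D g) (hDf₂ : D f₂ ≤ U ⊓ D g)
    (e₀ : Γ(M, U ⊓ D (p * g))) (he₀ : IsGenerator M (U ⊓ D (p * g)) e₀)
    (e : Γ(M, D f)) (he : IsGenerator M (D f) e) (e₂ : Γ(M, D f₂)) (he₂ : IsGenerator M (D f₂) e₂)
    (k m k₂ m₂ : ℕ)
    (h : cst (D (p * f)) p ^ k • resSec M (D_pf_le_Df p f) e =
      cst (D (p * f)) p ^ m • resSec M (D_pf_le hDf) e₀)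
    (h₂ : cst (D (p * f₂)) p ^ k₂ • resSec M (D_pf_le_Df p f₂) e₂ =
      cst (D (p * f₂)) p ^ m₂ • resSec M (D_pf_le hDf₂) e₀) :
    m + k₂ = m₂ + k ∧ resSec M (inf_le_left : D f ⊓ D f₂ ≤ D f) e =
      resSec M (inf_le_right : D f ⊓ D f₂ ≤ D f₂) e₂ := by
  have hVf : D (f * f₂) ≤ D f := D_le_of_dvd (Dvd.intro f₂ rfl)
  have hVf₂ : D (f * f₂) ≤ D f₂ := D_le_of_dvd (Dvd.intro_left f rfl)
  have hV'V : D (p * (f * f₂)) ≤ D (f * f₂) := D_le_of_dvd (Dvd.intro_left p rfl)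
  have hV'1 : D (p * (f * f₂)) ≤ D (p * f) := D_le_of_dvd ⟨f₂, by ring⟩
  have hV'2 : D (p * (f * f₂)) ≤ D (p * f₂) := D_le_of_dvd ⟨f, by ring⟩
  have hV'p : D (p * (f * f₂)) ≤ D p := D_le_of_dvd (Dvd.intro (f * f₂) rfl)
  have hV'0 : D (p * (f * f₂)) ≤ U ⊓ D (p * g) := hV'1.trans (D_pf_le hDf)
  have hff₂ : f * f₂ ≠ 0 := mul_ne_zero hf hf₂
  have hpff₂ : p * (f * f₂) ≠ 0 := mul_ne_zero hp.ne_zero hff₂
  have hpn : ¬ p ∣ f * f₂ := fun hd => (hp.dvd_or_dvd hd).elim hpf hpf₂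
  obtain ⟨u, hu, hue⟩ := exists_unit_smul (he₂.mono hVf₂) (he.mono hVf)
  -- restrict everything to `V' = D (p * (f * f₂))`
  have r1 := congrArg (resSec M hV'1) h
  have r2 := congrArg (resSec M hV'2) h₂
  have r3 := congrArg (resSec M hV'V) hue
  rw [resSec_smul, resSec_smul, resSec_resSec, resSec_resSec, resFn_pow, resFn_pow] at r1 r2
  rw [resSec_smul, resSec_resSec, resSec_resSec] at r3
  have hc1 : resFn hV'1 (cst (D (p * f)) p) = cst (D (p * (f * f₂))) p := resFn_cst hV'1 p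
  have hc2 : resFn hV'2 (cst (D (p * f₂)) p) = cst (D (p * (f * f₂))) p := resFn_cst hV'2 p
  rw [hc1] at r1
  rw [hc2] at r2
  have hE := he₀.mono hV'0
  have hP : IsUnit (cst (D (p * (f * f₂))) p) := isUnit_cst_of_le hV'p
  have key : resFn hV'V u * cst (D (p * (f * f₂))) p ^ (k + m₂) =
      cst (D (p * (f * f₂))) p ^ (m + k₂) := by
    apply (hE _ le_rfl).1
    show (resFn hV'V u * cst (D (p * (f * f₂))) p ^ (k + m₂)) •
        resSec M le_rfl (resSec M hV'0 e₀) =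
      cst (D (p * (f * f₂))) p ^ (m + k₂) • resSec M le_rfl (resSec M hV'0 e₀)
    rw [resSec_self]
    calc (resFn hV'V u * cst (D (p * (f * f₂))) p ^ (k + m₂)) • resSec M hV'0 e₀
        = (cst (D (p * (f * f₂))) p ^ k * resFn hV'V u) •
            (cst (D (p * (f * f₂))) p ^ m₂ • resSec M hV'0 e₀) := by
          rw [smul_smul]; congr 1; ring
      _ = (cst (D (p * (f * f₂))) p ^ k * resFn hV'V u) •
            (cst (D (p * (f * f₂))) p ^ k₂ • resSec M (hV'V.trans hVf₂) e₂) := by rw [r2]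
      _ = cst (D (p * (f * f₂))) p ^ k₂ • (cst (D (p * (f * f₂))) p ^ k •
            (resFn hV'V u • resSec M (hV'V.trans hVf₂) e₂)) := by
          rw [smul_smul, smul_smul, smul_smul]; congr 1; ring
      _ = cst (D (p * (f * f₂))) p ^ k₂ • (cst (D (p * (f * f₂))) p ^ k •
            resSec M (hV'V.trans hVf) e) := by rw [← r3]
      _ = cst (D (p * (f * f₂))) p ^ k₂ • (cst (D (p * (f * f₂))) p ^ m •
            resSec M hV'0 e₀) := by rw [r1]
      _ = cst (D (p * (f * f₂))) p ^ (m + k₂) • resSec M hV'0 e₀ := by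
          rw [smul_smul]; congr 1; ring
  have hinj := resFn_injective hV'V hpff₂ le_rfl
  have hnu : ¬ IsUnit (cst (D (f * f₂)) p) := not_isUnit_cst hp hpn
  have hcV : resFn hV'V (cst (D (f * f₂)) p) = cst (D (p * (f * f₂))) p := resFn_cst hV'V p
  have hu1 : m + k₂ = k + m₂ ∧ u = 1 := by
    obtain ⟨P, hPdef⟩ : ∃ P, P = cst (D (p * (f * f₂))) p := ⟨_, rfl⟩
    obtain ⟨u', hu'def⟩ : ∃ u', u' = resFn hV'V u := ⟨_, rfl⟩
    rw [← hPdef] at key hP hcV
    rw [← hu'def] at key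
    rcases le_total (k + m₂) (m + k₂) with hle | hle
    · obtain ⟨d, hd⟩ := Nat.exists_eq_add_of_le hle
      have key' : P ^ (k + m₂) * u' = P ^ (k + m₂) * P ^ d := by
        calc P ^ (k + m₂) * u' = u' * P ^ (k + m₂) := mul_comm _ _
          _ = P ^ (m + k₂) := key
          _ = P ^ (k + m₂ + d) := by rw [hd]
          _ = P ^ (k + m₂) * P ^ d := pow_add _ _ _
      have h5 : u' = P ^ d := (hP.pow _).mul_left_cancel key'
      have h6 : u = cst (D (f * f₂)) p ^ d := by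
        apply hinj
        show resFn hV'V u = resFn hV'V (cst (D (f * f₂)) p ^ d)
        rw [resFn_pow, hcV, ← hu'def, h5]
      have h7 : d = 0 := by
        rw [h6] at hu
        exact (isUnit_pow_iff_of_not_isUnit hnu).1 hu
      subst h7
      exact ⟨by omega, by rw [h6, pow_zero]⟩
    · obtain ⟨d, hd⟩ := Nat.exists_eq_add_of_le hle
      have key' : P ^ (m + k₂) * (u' * P ^ d) = P ^ (m + k₂) * 1 := by
        rw [mul_one]
        calc P ^ (m + k₂) * (u' * P ^ d) = u' * P ^ (m + k₂ + d) := by ring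
          _ = u' * P ^ (k + m₂) := by rw [hd]
          _ = P ^ (m + k₂) := key
      have h5 : u' * P ^ d = 1 := (hP.pow _).mul_left_cancel key'
      have h6 : u * cst (D (f * f₂)) p ^ d = 1 := by
        apply hinj
        show resFn hV'V (u * cst (D (f * f₂)) p ^ d) = resFn hV'V 1
        rw [resFn_mul, resFn_pow, resFn_one, hcV, ← hu'def, h5]
      have h7 : d = 0 := by
        have : IsUnit (cst (D (f * f₂)) p ^ d) := IsUnit.of_mul_eq_one_right _ h6
        exact (isUnit_pow_iff_of_not_isUnit hnu).1 this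
      subst h7
      refine ⟨by omega, ?_⟩
      rw [pow_zero, mul_one] at h6
      exact h6
  obtain ⟨hmk, hu1'⟩ := hu1
  refine ⟨by omega, ?_⟩
  rw [hu1', one_smul] at hue
  have hle : D f ⊓ D f₂ ≤ D (f * f₂) := (D_mul f f₂).ge
  have := congrArg (resSec M hle) hue
  rw [resSec_resSec, resSec_resSec] at this
  exact this


theorem step {U : (Spec R).Opens}
    (hloc : ∀ x : Spec R, x ∈ U → ∀ V : (Spec R).Opens, x ∈ V →
      ∃ f : R, x ∈ D f ∧ D f ≤ V ∧ ∃ e : Γ(M, D f), IsGenerator M (D f) e)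
    {p g : R} (hp : Prime p)
    (h : ∃ e : Γ(M, U ⊓ D (p * g)), IsGenerator M (U ⊓ D (p * g)) e) :
    ∃ e : Γ(M, U ⊓ D g), IsGenerator M (U ⊓ D g) e := by
  obtain ⟨e₀, he₀⟩ := h
  have hW₀W : U ⊓ D (p * g) ≤ U ⊓ D g := inf_le_inf_left U (D_le_of_dvd (Dvd.intro_left p rfl))
  by_cases hS : ∃ x : Spec R, x ∈ U ⊓ D g ∧ p ∈ PrimeSpectrum.asIdeal x
  swap
  · have hWW₀ : U ⊓ D g ≤ U ⊓ D (p * g) := by
      intro x hx
      refine ⟨hx.1, ?_⟩
      rw [D_mul]
      exact ⟨fun h1 => hS ⟨x, hx, h1⟩, hx.2⟩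
    exact ⟨resSec M hWW₀ e₀, he₀.mono hWW₀⟩
  · obtain ⟨x₁, hx₁W, hx₁p⟩ := hS
    have hch : ∀ x : {x : Spec R // x ∈ U ⊓ D g ∧ p ∈ PrimeSpectrum.asIdeal x},
        ∃ (f : R) (e' : Γ(M, D f)) (k m : ℕ) (hDf : D f ≤ U ⊓ D g), x.1 ∈ D f ∧ f ≠ 0 ∧ ¬ p ∣ f ∧
        IsGenerator M (D f) e' ∧
        cst (D (p * f)) p ^ k • resSec M (D_pf_le_Df p f) e' =
          cst (D (p * f)) p ^ m • resSec M (D_pf_le hDf) e₀ := by
      rintro ⟨x, hxW, hxp⟩
      obtain ⟨f, hxf, hfW, e, he⟩ := hloc x hxW.1 (U ⊓ D g) hxW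
      have hxf' : f ∉ PrimeSpectrum.asIdeal x := hxf
      have hf0 : f ≠ 0 := by
        rintro rfl
        exact hxf' (Ideal.zero_mem _)
      have hpf : ¬ p ∣ f := by
        rintro ⟨c, rfl⟩
        exact hxf' (Ideal.mul_mem_right c _ hxp)
      obtain ⟨e', k, m, he', hrel⟩ := exists_normalized M hp hf0 hfW e₀ he₀ e he
      exact ⟨f, e', k, m, hfW, hxf, hf0, hpf, he', hrel⟩
    choose f e' k m hDf hxf hf0 hpf he' hrel using hch
    have hcmp : ∀ x y, m x + k y = m y + k x ∧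
        resSec M (inf_le_left : D (f x) ⊓ D (f y) ≤ D (f x)) (e' x) =
          resSec M (inf_le_right : D (f x) ⊓ D (f y) ≤ D (f y)) (e' y) :=
      fun x y => compare M hp (hf0 x) (hf0 y) (hpf x) (hpf y) (hDf x) (hDf y) e₀ he₀
        (e' x) (he' x) (e' y) (he' y) _ _ _ _ (hrel x) (hrel y)
    obtain ⟨s₁, hs₁⟩ : ∃ s₁ : {x : Spec R // x ∈ U ⊓ D g ∧ p ∈ PrimeSpectrum.asIdeal x},
        s₁ = ⟨x₁, hx₁W, hx₁p⟩ := ⟨_, rfl⟩
    have hW₀p : U ⊓ D (p * g) ≤ D p := inf_le_right.trans (D_le_of_dvd (Dvd.intro g rfl))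
    have hPu : IsUnit (cst (U ⊓ D (p * g)) p) := isUnit_cst_of_le hW₀p
    obtain ⟨Pi, hPi⟩ := hPu.exists_right_inv
    have hPiu : IsUnit Pi := IsUnit.of_mul_eq_one_right _ hPi
    obtain ⟨c₀, hc₀def⟩ : ∃ c₀, c₀ = cst (U ⊓ D (p * g)) p ^ m s₁ * Pi ^ k s₁ := ⟨_, rfl⟩
    have hc₀ : IsUnit c₀ := by rw [hc₀def]; exact (hPu.pow _).mul (hPiu.pow _)
    have hE₀ : IsGenerator M (U ⊓ D (p * g)) (c₀ • e₀) := IsGenerator.unit_smul he₀ hc₀
    have hE₀x : ∀ x, resSec M (D_pf_le (p := p) (hDf x)) (c₀ • e₀) =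
        resSec M (D_pf_le_Df p (f x)) (e' x) := by
      intro x
      have hVp : D (p * f x) ≤ D p := D_le_of_dvd (Dvd.intro (f x) rfl)
      have hP : IsUnit (cst (D (p * f x)) p) := isUnit_cst_of_le hVp
      have hunit : IsUnit (cst (D (p * f x)) p ^ (k x + k s₁)) := hP.pow _
      rw [← hunit.smul_left_cancel]
      have hPP : cst (D (p * f x)) p * resFn (D_pf_le (p := p) (hDf x)) Pi = 1 := by
        rw [← resFn_cst (D_pf_le (p := p) (hDf x)) p, ← resFn_mul, hPi, resFn_one]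
      have hcres : resFn (D_pf_le (p := p) (hDf x)) c₀ =
          cst (D (p * f x)) p ^ m s₁ * resFn (D_pf_le (p := p) (hDf x)) Pi ^ k s₁ := by
        rw [hc₀def, resFn_mul, resFn_pow, resFn_pow, resFn_cst]
      have hmk := (hcmp x s₁).1
      obtain ⟨Q, hQ⟩ : ∃ Q, Q = resFn (D_pf_le (p := p) (hDf x)) Pi := ⟨_, rfl⟩
      rw [← hQ] at hPP hcres
      obtain ⟨P, hPd⟩ : ∃ P, P = cst (D (p * f x)) p := ⟨_, rfl⟩
      have hrelx := hrel x
      rw [← hPd] at hPP hcres hrelx ⊢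
      rw [resSec_smul, hcres, smul_smul]
      calc (P ^ (k x + k s₁) * (P ^ m s₁ * Q ^ k s₁)) • resSec M (D_pf_le (p := p) (hDf x)) e₀
          = (P ^ (k x + m s₁) * (P * Q) ^ k s₁) • resSec M (D_pf_le (p := p) (hDf x)) e₀ := by
            congr 1; ring
        _ = P ^ k s₁ • (P ^ m x • resSec M (D_pf_le (p := p) (hDf x)) e₀) := by
            rw [hPP, one_pow, mul_one, smul_smul, ← pow_add]
            congr 2
            omega
        _ = P ^ k s₁ • (P ^ k x • resSec M (D_pf_le_Df p (f x)) (e' x)) := by rw [hrelx]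
        _ = P ^ (k x + k s₁) • resSec M (D_pf_le_Df p (f x)) (e' x) := by
            rw [smul_smul, ← pow_add]
            congr 2
            omega
    -- the cover
    let A : Option {x : Spec R // x ∈ U ⊓ D g ∧ p ∈ PrimeSpectrum.asIdeal x} → (Spec R).Opens :=
      fun i => Option.elim i (U ⊓ D (p * g)) (fun x => D (f x))
    let sec : ∀ i, Γ(M, A i) := fun i =>
      Option.rec (motive := fun i => Γ(M, A i)) (c₀ • e₀) (fun x => e' x) i
    have hAW : ∀ i, A i ≤ U ⊓ D g := by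
      intro i
      cases i with
      | none => exact hW₀W
      | some x => exact hDf x
    have hcover : U ⊓ D g ≤ iSup A := by
      intro w hw
      rw [Opens.mem_iSup]
      by_cases hwp : p ∈ PrimeSpectrum.asIdeal w
      · exact ⟨some ⟨w, hw, hwp⟩, hxf ⟨w, hw, hwp⟩⟩
      · refine ⟨none, ?_⟩
        show w ∈ U ⊓ D (p * g)
        refine ⟨hw.1, ?_⟩
        rw [D_mul]
        exact ⟨hwp, hw.2⟩
    have hgen : ∀ i, IsGenerator M (A i) (sec i) := by
      intro i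
      cases i with
      | none => exact hE₀
      | some x => exact he' x
    have hns : ∀ x, resSec M (inf_le_left : (U ⊓ D (p * g)) ⊓ D (f x) ≤ U ⊓ D (p * g)) (c₀ • e₀) =
        resSec M (inf_le_right : (U ⊓ D (p * g)) ⊓ D (f x) ≤ D (f x)) (e' x) := by
      intro x
      have hO : (U ⊓ D (p * g)) ⊓ D (f x) ≤ D (p * f x) := by
        intro w hw
        rw [D_mul]
        exact ⟨hW₀p hw.1, hw.2⟩
      have h1 := congrArg (resSec M hO) (hE₀x x)
      rw [resSec_resSec, resSec_resSec] at h1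
      exact h1
    have hsn : ∀ x, resSec M (inf_le_left : D (f x) ⊓ (U ⊓ D (p * g)) ≤ D (f x)) (e' x) =
        resSec M (inf_le_right : D (f x) ⊓ (U ⊓ D (p * g)) ≤ U ⊓ D (p * g)) (c₀ • e₀) := by
      intro x
      have hO : D (f x) ⊓ (U ⊓ D (p * g)) ≤ D (p * f x) := by
        intro w hw
        rw [D_mul]
        exact ⟨hW₀p hw.2, hw.1⟩
      have h1 := congrArg (resSec M hO) (hE₀x x)
      rw [resSec_resSec, resSec_resSec] at h1
      exact h1.symm
    have hcompat : ∀ i j, resSec M (inf_le_left : A i ⊓ A j ≤ A i) (sec i) =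
        resSec M (inf_le_right : A i ⊓ A j ≤ A j) (sec j) := by
      intro i j
      cases i with
      | none =>
        cases j with
        | none => rfl
        | some y => exact hns y
      | some x =>
        cases j with
        | none => exact hsn x
        | some y => exact (hcmp x y).2
    exact exists_isGenerator_of_cover M A (U ⊓ D g) hAW hcover sec hgen hcompat

theorem exists_isGenerator_of_local {U : (Spec R).Opens}
    (hloc0 : ∀ x : Spec R, x ∈ U → ∃ A : (Spec R).Opens, x ∈ A ∧ ∃ e : Γ(M, A), IsGenerator M A e)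
    (hne : ∃ x : Spec R, x ∈ U) :
    ∃ e : Γ(M, U), IsGenerator M U e := by
  have hloc : ∀ x : Spec R, x ∈ U → ∀ V : (Spec R).Opens, x ∈ V →
      ∃ f : R, x ∈ D f ∧ D f ≤ V ∧ ∃ e : Γ(M, D f), IsGenerator M (D f) e := by
    intro x hx V hxV
    obtain ⟨A, hxA, e, he⟩ := hloc0 x hx
    obtain ⟨_, ⟨f, rfl⟩, hxf, hfle⟩ := Opens.isBasis_iff_nbhd.1
      (PrimeSpectrum.isBasis_basic_opens (R := R)) (show x ∈ A ⊓ V from ⟨hxA, hxV⟩)
    exact ⟨f, hxf, hfle.trans inf_le_right, resSec M (hfle.trans inf_le_left) e,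
      he.mono (hfle.trans inf_le_left)⟩
  have hP : ∀ a : R, a ≠ 0 → (∃ e : Γ(M, U ⊓ D a), IsGenerator M (U ⊓ D a) e) →
      ∃ e : Γ(M, U ⊓ D (1 : R)), IsGenerator M (U ⊓ D (1 : R)) e := by
    intro a
    induction a using UniqueFactorizationMonoid.induction_on_prime with
    | h₁ => intro h; exact absurd rfl h
    | h₂ x hx =>
      intro _ hq
      obtain ⟨e, he⟩ := hq
      have hle : U ⊓ D (1 : R) ≤ U ⊓ D x := inf_le_inf_left U (D_le_of_dvd hx.dvd)
      exact ⟨resSec M hle e, he.mono hle⟩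
    | h₃ a p ha hp ih =>
      intro _ hq
      exact ih ha (step M hloc hp hq)
  obtain ⟨x₀, hx₀⟩ := hne
  obtain ⟨f₀, hxf₀, hf₀U, e, he⟩ := hloc x₀ hx₀ U hx₀
  have hxf₀' : f₀ ∉ PrimeSpectrum.asIdeal x₀ := hxf₀
  have hf₀ : f₀ ≠ 0 := by
    rintro rfl
    exact hxf₀' (Ideal.zero_mem _)
  obtain ⟨ε, hε⟩ := hP f₀ hf₀ ⟨resSec M (inf_le_right : U ⊓ D f₀ ≤ D f₀) e, he.mono inf_le_right⟩
  have hle : U ≤ U ⊓ D (1 : R) := by
    refine le_inf le_rfl ?_
    intro x _
    rw [mem_D]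
    exact (Ideal.ne_top_iff_one _).1 (PrimeSpectrum.isPrime x).ne_top
  exact ⟨resSec M hle ε, hε.mono hle⟩

end Spec

section Final

variable {R : CommRingCat.{u}} [IsDomain R] [UniqueFactorizationMonoid R]

theorem trivial_of_ufd (U : (Spec R).Opens) (L : (U : Scheme.{u}).Modules)
    (hL : PicF.IsInvertible L) : Nonempty (L ≅ Coh.structureModule (U : Scheme.{u})) := by
  by_cases hne : ∃ x : Spec R, x ∈ U
  · have hloc0 : ∀ x : Spec R, x ∈ U → ∃ A : (Spec R).Opens, x ∈ A ∧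
        ∃ e : Γ((Scheme.Modules.pushforward U.ι).obj L, A),
          IsGenerator ((Scheme.Modules.pushforward U.ι).obj L) A e := by
      intro x hx
      obtain ⟨A', hyA', e', he'⟩ := exists_isGenerator_of_isInvertible hL (⟨x, hx⟩ : U)
      have hpre : U.ι ⁻¹ᵁ (U.ι ''ᵁ A') = A' := U.ι.preimage_image_eq A'
      refine ⟨U.ι ''ᵁ A', ⟨⟨x, hx⟩, hyA', rfl⟩, resSec L hpre.le e', ?_⟩
      exact isGenerator_pushforward U L (U.ι_image_le A') _ (he'.mono hpre.le)
    obtain ⟨ε, hε⟩ := exists_isGenerator_of_local _ hloc0 hne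
    have hεL : IsGenerator L (U.ι ⁻¹ᵁ U) ε := isGenerator_of_pushforward U L le_rfl ε hε
    have htop : (⊤ : (U : Scheme.{u}).Opens) ≤ U.ι ⁻¹ᵁ U := by
      rw [Scheme.Opens.ι_preimage_self]
    have hgen := hεL.mono htop
    haveI : IsIso (homOfSec L (resSec L htop ε)) := by
      refine TensorDesc.isIso_of_isGenerator _ (fun y => ⟨⊤, trivial,
        (show Γ(Coh.structureModule (U : Scheme.{u}), ⊤) from (1 : Γ((U : Scheme.{u}), ⊤))),
        isGenerator_one ⊤, ?_⟩)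
      have h1 := app_apply (homOfSec L (resSec L htop ε)) ⊤ (1 : Γ((U : Scheme.{u}), ⊤))
      rw [secOf_homOfSec, one_smul] at h1
      have h2 : ((homOfSec L (resSec L htop ε)).app ⊤)
          (show Γ(Coh.structureModule (U : Scheme.{u}), ⊤) from (1 : Γ((U : Scheme.{u}), ⊤))) =
          resSec L htop ε := h1.trans (resSec_self L _)
      rw [h2]
      exact hgen
    exact ⟨(asIso (homOfSec L (resSec L htop ε))).symm⟩
  · haveI : IsIso (0 : Coh.structureModule (U : Scheme.{u}) ⟶ L) :=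
      TensorDesc.isIso_of_isGenerator _ (fun y => absurd ⟨y.1, y.2⟩ hne)
    exact ⟨(asIso (0 : Coh.structureModule (U : Scheme.{u}) ⟶ L)).symm⟩

end Final

end Groth.Agent.Lib.Helper48.UfdPic
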