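import Mathlib

/-!
# Fibrations (`O_Y ≅ f_* O_X`) are stable under flat base change (helper48)

* `bijective_app_of_basis`: `f.app V` bijective on a basis of opens ⇒ bijective on all opens.
* `isIso_app_of_isPullback`: for `f` qcqs with `f.app V` iso for all `V` and `g` flat, the base change
  `f'` of `f` along `g` has `f'.app V'` iso for all `V'`
  (via Mathlib's `isIso_pushoutSection_of_isQuasiSeparated_of_flat_right`).
* `baseChange_field`: package for proper schemes over a field.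
-/

universe u

open CategoryTheory CategoryTheory.Limits AlgebraicGeometry TopologicalSpace Opposite

namespace Groth.Agent.Lib.Helper48.FibBaseChange

/-- restriction of functions -/
noncomputable abbrev res {X : Scheme.{u}} {U V : X.Opens} (h : V ≤ U) (t : Γ(X, U)) : Γ(X, V) :=
  (X.presheaf.map (homOfLE h).op).hom t

lemma res_res {X : Scheme.{u}} {U V W : X.Opens} (h : V ≤ U) (h' : W ≤ V) (t : Γ(X, U)) :
    res h' (res h t) = res (h'.trans h) t := by
  unfold res
  rw [← CommRingCat.comp_apply, ← Functor.map_comp]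
  rfl

lemma ext_of_cover {X : Scheme.{u}} {ι : Type*} (A : ι → X.Opens) (V : X.Opens)
    (hAV : ∀ i, A i ≤ V) (hcover : V ≤ iSup A) (s t : Γ(X, V))
    (h : ∀ i, res (hAV i) s = res (hAV i) t) : s = t :=
  X.sheaf.eq_of_locally_eq' A V (fun i => homOfLE (hAV i)) hcover s t h

lemma gluing_of_cover {X : Scheme.{u}} {ι : Type*} (A : ι → X.Opens) (V : X.Opens)
    (hAV : ∀ i, A i ≤ V) (hcover : V ≤ iSup A) (sf : ∀ i, Γ(X, A i))
    (hsf : ∀ i j, res (inf_le_left : A i ⊓ A j ≤ A i) (sf i) =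
      res (inf_le_right : A i ⊓ A j ≤ A j) (sf j)) :
    ∃ s : Γ(X, V), ∀ i, res (hAV i) s = sf i := by
  obtain ⟨s, hs, -⟩ := X.sheaf.existsUnique_gluing' A V (fun i => homOfLE (hAV i)) hcover sf hsf
  exact ⟨s, hs⟩

lemma app_res {X Y : Scheme.{u}} (f : X ⟶ Y) {U V : Y.Opens} (h : V ≤ U) (s : Γ(Y, U)) :
    (f.app V).hom (res h s) = res (f.preimage_mono h) ((f.app U).hom s) := by
  have hn := f.naturality (homOfLE h).op
  have h2 := congrArg (fun φ => φ.hom s) hn
  exact h2

/-- `f.app` bijective on a basis ⇒ bijective everywhere. -/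
theorem bijective_app_of_basis {X Y : Scheme.{u}} (f : X ⟶ Y) (P : Y.Opens → Prop)
    (hP : ∀ (V : Y.Opens) (y : Y), y ∈ V → ∃ B : Y.Opens, P B ∧ y ∈ B ∧ B ≤ V)
    (h : ∀ B, P B → Function.Bijective (f.app B).hom) (V : Y.Opens) :
    Function.Bijective (f.app V).hom := by
  have hinj : ∀ V : Y.Opens, Function.Injective (f.app V).hom := by
    intro V s t hst
    refine ext_of_cover (fun i : {B : Y.Opens // P B ∧ B ≤ V} => i.1) V (fun i => i.2.2) ?_ s t ?_
    · intro y hy
      obtain ⟨B, hB, hyB, hBV⟩ := hP V y hy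
      exact Opens.mem_iSup.mpr ⟨⟨B, hB, hBV⟩, hyB⟩
    · intro i
      apply (h i.1 i.2.1).1
      rw [app_res, app_res, hst]
  refine ⟨hinj V, ?_⟩
  intro t
  have hcov : V ≤ iSup (fun i : {B : Y.Opens // P B ∧ B ≤ V} => i.1) := by
    intro y hy
    obtain ⟨B, hB, hyB, hBV⟩ := hP V y hy
    exact Opens.mem_iSup.mpr ⟨⟨B, hB, hBV⟩, hyB⟩
  have hex : ∀ i : {B : Y.Opens // P B ∧ B ≤ V},
      ∃ s : Γ(Y, i.1), (f.app i.1).hom s = res (f.preimage_mono i.2.2) t :=
    fun i => (h i.1 i.2.1).2 _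
  choose sf hsf using hex
  obtain ⟨s, hs⟩ := gluing_of_cover (fun i : {B : Y.Opens // P B ∧ B ≤ V} => i.1) V
    (fun i => i.2.2) hcov sf (by
      intro i j
      apply hinj
      rw [app_res, app_res, hsf i, hsf j, res_res, res_res])
  refine ⟨s, ?_⟩
  refine ext_of_cover (fun i : {B : Y.Opens // P B ∧ B ≤ V} => f ⁻¹ᵁ i.1) (f ⁻¹ᵁ V)
    (fun i => f.preimage_mono i.2.2) ?_ _ _ ?_
  · intro x hx
    obtain ⟨i, hi⟩ := Opens.mem_iSup.mp (hcov (show f x ∈ V from hx))
    exact Opens.mem_iSup.mpr ⟨i, hi⟩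
  · intro i
    rw [← app_res f i.2.2, hs i, hsf i]

/-- Flat base change of a fibration is a fibration. -/
theorem isIso_app_of_isPullback {X Y X' Y' : Scheme.{u}} {f : X ⟶ Y} {g : Y' ⟶ Y}
    {f' : X' ⟶ Y'} {g' : X' ⟶ X}
    (H : IsPullback g' f' f g) [Flat g] [QuasiCompact f] [QuasiSeparated f]
    (hfib : ∀ V : Y.Opens, IsIso (f.app V)) (V' : Y'.Opens) : IsIso (f'.app V') := by
  have key : ∀ B : Y'.Opens,
      (IsAffineOpen B ∧ ∃ W : Y.Opens, IsAffineOpen W ∧ B ≤ g ⁻¹ᵁ W) → IsIso (f'.app B) := by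
    rintro B ⟨hB, W, hW, hBW⟩
    have hUY : f' ⁻¹ᵁ B = g' ⁻¹ᵁ (f ⁻¹ᵁ W) ⊓ f' ⁻¹ᵁ B := by
      refine (inf_eq_right.mpr ?_).symm
      intro x hx
      have h1 : g (f' x) ∈ W := hBW hx
      have h2 : f (g' x) = g (f' x) := by
        have := congrArg (fun φ : X' ⟶ Y => φ x) H.w
        simpa using this
      show f (g' x) ∈ W
      rw [h2]; exact h1
    have hiso := isIso_pushoutSection_of_isQuasiSeparated_of_flat_right H hBW
      (le_refl (f ⁻¹ᵁ W)) hUY hW hB (f.isCompact_preimage hW.isCompact)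
      (f.isQuasiSeparated_preimage hW.isQuasiSeparated)
    have hpo := (isIso_pushoutSection_iff H hBW (le_refl (f ⁻¹ᵁ W)) hUY).mp hiso
    haveI : IsIso (f.appLE W (f ⁻¹ᵁ W) (le_refl _)) := by
      rw [Scheme.Hom.appLE_eq_app]; exact hfib W
    have h3 := hpo.isIso_inr_of_isIso
    rw [Scheme.Hom.app_eq_appLE]; exact h3
  have hbij : Function.Bijective (f'.app V').hom := by
    refine bijective_app_of_basis f'
      (fun B => IsAffineOpen B ∧ ∃ W : Y.Opens, IsAffineOpen W ∧ B ≤ g ⁻¹ᵁ W) ?_ ?_ V'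
    · intro V y hy
      obtain ⟨_, ⟨W, hW, rfl⟩, hyW, -⟩ :=
        Y.isBasis_affineOpens.exists_subset_of_mem_open (Set.mem_univ (g y)) isOpen_univ
      have hy2 : y ∈ g ⁻¹ᵁ W ⊓ V := ⟨hyW, hy⟩
      obtain ⟨_, ⟨B, hB, rfl⟩, hyB, hBle⟩ :=
        Y'.isBasis_affineOpens.exists_subset_of_mem_open hy2 (g ⁻¹ᵁ W ⊓ V).2
      exact ⟨B, ⟨hB, W, hW, fun z hz => (hBle hz).1⟩, hyB, fun z hz => (hBle hz).2⟩
    · intro B hB
      haveI := key B hB
      exact ConcreteCategory.bijective_of_isIso (f'.app B)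
  exact (ConcreteCategory.isIso_iff_bijective (f'.app V')).mpr hbij

/-- Base change of a fibration between proper schemes over a field `k` along a field extension. -/
theorem baseChange_field (k : Type u) [Field k] (X Y : Scheme.{u})
    [X.Over (Spec (CommRingCat.of k))] [Y.Over (Spec (CommRingCat.of k))]
    [IsProper (X ↘ Spec (CommRingCat.of k))] [IsProper (Y ↘ Spec (CommRingCat.of k))]
    (f : X ⟶ Y) (hf : f ≫ (Y ↘ Spec (CommRingCat.of k)) = X ↘ Spec (CommRingCat.of k))
    (hfib : ∀ V : Y.Opens, IsIso (f.app V))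
    {K : Type u} [Field K] (y : Spec (CommRingCat.of K) ⟶ Spec (CommRingCat.of k))
    {Z : Scheme.{u}} (fst : Z ⟶ Y) (snd : Z ⟶ Spec (CommRingCat.of K))
    (hZ : IsPullback fst snd (Y ↘ Spec (CommRingCat.of k)) y) :
    IsProper snd ∧ IsProper (pullback.snd f fst ≫ snd) ∧
      (∀ V' : Z.Opens, IsIso ((pullback.snd f fst).app V')) ∧
      IsPullback (pullback.fst f fst) (pullback.snd f fst ≫ snd)
        (X ↘ Spec (CommRingCat.of k)) y := by
  haveI hfp : IsProper f := by
    haveI : IsProper (f ≫ (Y ↘ Spec (CommRingCat.of k))) := by rw [hf]; infer_instance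
    exact IsProper.of_comp f (Y ↘ Spec (CommRingCat.of k))
  have H : IsPullback (pullback.fst f fst) (pullback.snd f fst) f fst :=
    IsPullback.of_hasPullback f fst
  haveI : Flat y := inferInstance
  haveI : Flat fst := MorphismProperty.of_isPullback (P := @Flat) hZ.flip inferInstance
  have Hbig : IsPullback (pullback.fst f fst) (pullback.snd f fst ≫ snd)
      (X ↘ Spec (CommRingCat.of k)) y := by
    have := H.paste_vert hZ
    rw [hf] at this; exact this
  refine ⟨MorphismProperty.of_isPullback (P := @IsProper) hZ inferInstance,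
    MorphismProperty.of_isPullback (P := @IsProper) Hbig inferInstance,
    isIso_app_of_isPullback H hfib, Hbig⟩

end Groth.Agent.Lib.Helper48.FibBaseChange
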