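/-
helper48: the dual `L^∨` of an invertible module `L` (sheaf of linear forms on the stalks that are
locally given by sections of `O_X`), the evaluation pairing, and `L ⊗ L^∨ ≅ O_X`.
* `dualMod L : X.Modules`, `pair L U m φ : Γ(X, U)`, `germ_pair`, `pair_eq`
* `dualGen he`, `isGenerator_dualGen`
* `exists_inverse : IsInvertible P → ∃ N, IsInvertible N ∧ Nonempty (P ⊗ N ≅ O_X)`
* `isFinLocFree_tensorMod : IsFinLocFree E → IsInvertible N → IsFinLocFree (E ⊗ N)`
-/
import Groth.Agent.Lib.Helper48.DivOfSection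
import Groth.Agent.Lib.Helper48.InvGen
import Groth.Agent.Lib.Ample.Helper50_GenPow
import Groth.Agent.Lib.QCoh.TensorPic
import Groth.Agent.Lib.QCoh.Helper74_LocFree

set_option autoImplicit false
universe u

open AlgebraicGeometry CategoryTheory TopologicalSpace Opposite

namespace Groth.Agent.Lib.Helper48.DualInv

open Groth.Agent.Lib.Ample Groth.Agent.Lib.Helper48.DivOfSection CohB1

variable {X : Scheme.{u}}

/-- linear forms on the stalk of `L` at `x` -/
abbrev DStalk (L : X.Modules) (x : X) : Type u :=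
  L.presheaf.stalk x →ₗ[X.presheaf.stalk x] X.presheaf.stalk x

/-- a family of linear forms on stalks is admissible when its values on sections of `L` are locally
the germs of sections of `O_X` -/
def IsLocSect (L : X.Modules) {U : X.Opens} (f : ∀ x : U, DStalk L x.1) : Prop :=
  ∀ (V : X.Opens) (i : V ⟶ U) (m : Γ(L, V)) (x : V),
    ∃ (W : X.Opens) (_ : x.1 ∈ W) (j : W ⟶ V) (a : Γ(X, W)),
      ∀ y : W, f ⟨y.1, i.le (j.le y.2)⟩ (L.presheaf.germ V y.1 (j.le y.2) m) =
        X.presheaf.germ W y.1 y.2 a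

/-- the local predicate of the dual -/
def dualLoc (L : X.Modules) : TopCat.LocalPredicate (fun x : X => DStalk L x) where
  pred {U} f := IsLocSect L f
  res {U' U} i f h := fun V i' m x => by
    obtain ⟨W, hxW, j, n, hW⟩ := h V (i' ≫ i) m x
    exact ⟨W, hxW, j, n, fun y => hW y⟩
  locality {U} f h := fun V i m x => by
    obtain ⟨U', hxU', i', h'⟩ := h ⟨x.1, i.le x.2⟩
    obtain ⟨W, hxW, j, n, hW⟩ :=
      h' (V ⊓ U') (homOfLE inf_le_right) (L.presheaf.map (homOfLE inf_le_left).op m)
        ⟨x.1, ⟨x.2, hxU'⟩⟩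
    refine ⟨W, hxW, j ≫ homOfLE inf_le_left, n, fun y => ?_⟩
    have e := hW y
    rw [TopCat.Presheaf.germ_res_apply] at e
    exact e

theorem dualLoc_zero (L : X.Modules) (U : X.Opens) :
    (dualLoc L).pred (0 : ∀ x : U, DStalk L x.1) :=
  fun V _ m x => ⟨V, x.2, 𝟙 V, 0, fun y => by rw [map_zero]; rfl⟩

theorem dualLoc_add (L : X.Modules) (U : X.Opens) (f g : ∀ x : U, DStalk L x.1)
    (hf : (dualLoc L).pred f) (hg : (dualLoc L).pred g) : (dualLoc L).pred (f + g) :=
  fun V i m x => by
  obtain ⟨Wa, ha, ja, na, wa⟩ := hf V i m x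
  obtain ⟨Wb, hb, jb, nb, wb⟩ := hg V i m x
  refine ⟨Wa ⊓ Wb, ⟨ha, hb⟩, homOfLE inf_le_left ≫ ja,
    X.presheaf.map (homOfLE inf_le_left).op na + X.presheaf.map (homOfLE inf_le_right).op nb,
    fun y => ?_⟩
  have ea := wa ⟨y.1, y.2.1⟩
  have eb := wb ⟨y.1, y.2.2⟩
  dsimp only at ea eb
  rw [Pi.add_apply, LinearMap.add_apply, ea, eb, map_add, TopCat.Presheaf.germ_res_apply,
    TopCat.Presheaf.germ_res_apply]

theorem dualLoc_smul (L : X.Modules) (U : X.Opens) (r : Γ(X, U)) (f : ∀ x : U, DStalk L x.1)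
    (hf : (dualLoc L).pred f) :
    (dualLoc L).pred fun x => X.presheaf.germ U x.1 x.2 r • f x := fun V i m x => by
  obtain ⟨W, hW, j, n, w⟩ := hf V i m x
  refine ⟨W, hW, j, X.presheaf.map (j ≫ i).op r * n, fun y => ?_⟩
  have e := w y
  dsimp only at e
  rw [LinearMap.smul_apply, e, smul_eq_mul, map_mul, TopCat.Presheaf.germ_res_apply]

instance (L : X.Modules) : Mero.IsModPred (dualLoc L) :=
  ⟨dualLoc_zero L, dualLoc_add L, dualLoc_smul L⟩

/-- the dual of `L` -/
noncomputable def dualMod (L : X.Modules) : X.Modules := Mero.modOf (dualLoc L)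

section Pair

variable (L : X.Modules) (U : X.Opens)

theorem exists_pair (m : Γ(L, U)) (φ : Γ(dualMod L, U)) :
    ∃ a : Γ(X, U), ∀ y : U,
      X.presheaf.germ U y.1 y.2 a = φ.1 y (L.presheaf.germ U y.1 y.2 m) := by
  have hφ : IsLocSect L φ.1 := φ.2
  choose W hyW j a ha using fun y : U => hφ U (𝟙 U) m y
  have hcompat : TopCat.Presheaf.IsCompatible X.sheaf.1 W a := by
    intro y y'
    have hloc : ∀ (z : X) (hz : z ∈ W y ⊓ W y'),
        X.presheaf.germ (W y ⊓ W y') z hz
          (X.presheaf.map (Opens.infLELeft (W y) (W y')).op (a y)) =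
        X.presheaf.germ (W y ⊓ W y') z hz
          (X.presheaf.map (Opens.infLERight (W y) (W y')).op (a y')) := by
      intro z hz
      rw [TopCat.Presheaf.germ_res_apply, TopCat.Presheaf.germ_res_apply]
      exact (ha y ⟨z, hz.1⟩).symm.trans (ha y' ⟨z, hz.2⟩)
    exact TopCat.Presheaf.section_ext X.sheaf _ _ _ hloc
  have hle : U ≤ iSup W := fun z hz => Opens.mem_iSup.mpr ⟨⟨z, hz⟩, hyW ⟨z, hz⟩⟩
  obtain ⟨g, hg, -⟩ := X.sheaf.existsUnique_gluing' W U (fun y => j y) hle a hcompat
  refine ⟨g, fun y => ?_⟩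
  have h1 : X.presheaf.germ U y.1 y.2 g = X.presheaf.germ (W y) y.1 (hyW y) (a y) := by
    rw [← hg y]
    exact (X.presheaf.germ_res_apply (j y) y.1 (hyW y) g).symm
  rw [h1]
  exact (ha y ⟨y.1, hyW y⟩).symm

/-- the evaluation pairing `L × L^∨ → O_X` on sections -/
noncomputable def pair (m : Γ(L, U)) (φ : Γ(dualMod L, U)) : Γ(X, U) :=
  Classical.choose (exists_pair L U m φ)

theorem germ_pair (m : Γ(L, U)) (φ : Γ(dualMod L, U)) (y : U) :
    X.presheaf.germ U y.1 y.2 (pair L U m φ) = φ.1 y (L.presheaf.germ U y.1 y.2 m) :=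
  Classical.choose_spec (exists_pair L U m φ) y

theorem pair_eq (m : Γ(L, U)) (φ : Γ(dualMod L, U)) (a : Γ(X, U))
    (h : ∀ y : U, X.presheaf.germ U y.1 y.2 a = φ.1 y (L.presheaf.germ U y.1 y.2 m)) :
    pair L U m φ = a :=
  TopCat.Presheaf.section_ext X.sheaf U _ _
    (fun y hy => (germ_pair L U m φ ⟨y, hy⟩).trans (h ⟨y, hy⟩).symm)

theorem pair_add_left (m m' : Γ(L, U)) (φ : Γ(dualMod L, U)) :
    pair L U (m + m') φ = pair L U m φ + pair L U m' φ := by
  refine pair_eq L U _ _ _ (fun y => ?_)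
  rw [map_add, germ_pair, germ_pair, germ_add, map_add]

theorem pair_smul_left (a : Γ(X, U)) (m : Γ(L, U)) (φ : Γ(dualMod L, U)) :
    pair L U (a • m) φ = a * pair L U m φ := by
  refine pair_eq L U _ _ _ (fun y => ?_)
  rw [map_mul, germ_pair, Mero.germ_smul, map_smul, smul_eq_mul]

theorem pair_add_right (m : Γ(L, U)) (φ φ' : Γ(dualMod L, U)) :
    pair L U m (φ + φ') = pair L U m φ + pair L U m φ' := by
  refine pair_eq L U _ _ _ (fun y => ?_)
  rw [map_add, germ_pair, germ_pair]
  rfl

theorem pair_smul_right (a : Γ(X, U)) (m : Γ(L, U)) (φ : Γ(dualMod L, U)) :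
    pair L U m (a • φ) = a * pair L U m φ := by
  refine pair_eq L U _ _ _ (fun y => ?_)
  rw [map_mul, germ_pair]
  rfl

theorem pair_res {V : X.Opens} (i : V ⟶ U) (m : Γ(L, U)) (φ : Γ(dualMod L, U)) :
    X.presheaf.map i.op (pair L U m φ) =
      pair L V (L.presheaf.map i.op m) ((dualMod L).presheaf.map i.op φ) := by
  symm
  refine pair_eq L V _ _ _ (fun y => ?_)
  rw [TopCat.Presheaf.germ_res_apply, TopCat.Presheaf.germ_res_apply]
  exact germ_pair L U m φ ⟨y.1, i.le y.2⟩

end Pair

section Gen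

variable {L : X.Modules} {U : X.Opens} {e : Γ(L, U)}

/-- the coefficient with respect to a generator, as a linear form -/
noncomputable def coefLin (he : IsGenerator L U e) (z : X) (hz : z ∈ U) : DStalk L z where
  toFun := coef he z hz
  map_add' := coef_add he z hz
  map_smul' := fun r μ => coef_smul he z hz r μ

theorem coefLin_apply (he : IsGenerator L U e) (z : X) (hz : z ∈ U) (μ : L.presheaf.stalk z) :
    coefLin he z hz μ = coef he z hz μ := rfl

theorem coef_germ_self (he : IsGenerator L U e) (z : X) (hz : z ∈ U) :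
    coef he z hz (L.presheaf.germ U z hz e) = 1 :=
  coef_eq he z hz _ 1 (one_smul _ _)

/-- the dual generator `e^∨` -/
noncomputable def dualGen (he : IsGenerator L U e) : Γ(dualMod L, U) :=
  ⟨fun y => coefLin he y.1 y.2, fun V i m x => by
    obtain ⟨a, ha⟩ := (he.bijective i.le).2 m
    have ha' : a • L.presheaf.map (homOfLE i.le).op e = m := ha
    refine ⟨V, x.2, 𝟙 V, a, fun y => ?_⟩
    show coef he y.1 _ (L.presheaf.germ V y.1 _ m) = X.presheaf.germ V y.1 y.2 a
    refine coef_eq he y.1 _ _ _ ?_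
    rw [← ha', Mero.germ_smul, TopCat.Presheaf.germ_res_apply]⟩

theorem dualGen_val (he : IsGenerator L U e) (y : U) :
    (dualGen he).1 y = coefLin he y.1 y.2 := rfl

theorem pair_dualGen (he : IsGenerator L U e) :
    pair L U e (dualGen he) = 1 := by
  refine pair_eq L U _ _ _ (fun y => ?_)
  rw [map_one, dualGen_val, coefLin_apply, coef_germ_self]

theorem isGenerator_dualGen (he : IsGenerator L U e) :
    IsGenerator (dualMod L) U (dualGen he) := by
  rw [isGenerator_iff]
  intro V h
  have key : ∀ (a : Γ(X, V)) (y : V) (μ : L.presheaf.stalk y.1),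
      (a • (dualMod L).presheaf.map (homOfLE h).op (dualGen he)).1 y μ =
        X.presheaf.germ V y.1 y.2 a * coef he y.1 (h y.2) μ := fun a y μ => rfl
  constructor
  · intro a a' haa
    have haa' : a • (dualMod L).presheaf.map (homOfLE h).op (dualGen he) =
        a' • (dualMod L).presheaf.map (homOfLE h).op (dualGen he) := haa
    refine TopCat.Presheaf.section_ext X.sheaf V _ _ (fun y hy => ?_)
    have h1 := key a ⟨y, hy⟩ (L.presheaf.germ U y (h hy) e)
    have h2 := key a' ⟨y, hy⟩ (L.presheaf.germ U y (h hy) e)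
    rw [coef_germ_self, mul_one] at h1 h2
    have h3 : (a • (dualMod L).presheaf.map (homOfLE h).op (dualGen he)).1 ⟨y, hy⟩
          (L.presheaf.germ U y (h hy) e) =
        (a' • (dualMod L).presheaf.map (homOfLE h).op (dualGen he)).1 ⟨y, hy⟩
          (L.presheaf.germ U y (h hy) e) := by rw [haa']
    exact h1.symm.trans (h3.trans h2)
  · intro ψ
    refine ⟨pair L V (L.presheaf.map (homOfLE h).op e) ψ, ?_⟩
    apply Subtype.ext
    funext y
    apply LinearMap.ext
    intro μ
    refine (key _ y μ).trans ?_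
    rw [germ_pair, TopCat.Presheaf.germ_res_apply]
    have h1 : ψ.1 y μ = ψ.1 y (coef he y.1 (h y.2) μ • L.presheaf.germ U y.1 (h y.2) e) := by
      rw [coef_spec]
    rw [h1, map_smul, smul_eq_mul, mul_comm]

end Gen

/-- an invertible module has a tensor inverse, namely its dual -/
theorem exists_inverse {P : X.Modules} (hP : PicF.IsInvertible P) :
    ∃ N : X.Modules, PicF.IsInvertible N ∧
      Nonempty (tensorMod P N ≅ Coh.structureModule X) := by
  refine ⟨dualMod P, ?_, ?_⟩
  · refine InvGen.isInvertible_of_isGenerator _ (fun x => ?_)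
    obtain ⟨U, hxU, e, he⟩ := exists_isGenerator_of_isInvertible hP x
    exact ⟨U, hxU, dualGen he, isGenerator_dualGen he⟩
  · obtain ⟨μ, hμ⟩ := TensorDesc.exists_desc P (dualMod P) (Coh.structureModule X)
      (fun U m φ => (show Γ(Coh.structureModule X, U) from pair P U m φ))
      (fun U m m' φ => pair_add_left P U m m' φ)
      (fun U a m φ => pair_smul_left P U a m φ)
      (fun U m φ φ' => pair_add_right P U m φ φ')
      (fun U a m φ => pair_smul_right P U a m φ)
      (fun U V i m φ => pair_res P U i m φ)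
    have hiso : IsIso μ := by
      refine TensorDesc.isIso_of_isGenerator μ (fun x => ?_)
      obtain ⟨U, hxU, e, he⟩ := exists_isGenerator_of_isInvertible hP x
      refine ⟨U, hxU, tmulSect P (dualMod P) e (dualGen he),
        he.tmul (isGenerator_dualGen he), ?_⟩
      have h2 : μ.app U (tmulSect P (dualMod P) e (dualGen he)) =
          (show Γ(Coh.structureModule X, U) from (1 : Γ(X, U))) :=
        (hμ U e (dualGen he)).trans (pair_dualGen he)
      rw [h2]
      exact isGenerator_one U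
    exact ⟨asIso μ⟩

open Groth.Agent.Lib.QCoh in
/-- tensoring a finite locally free module with an invertible module stays finite locally free -/
theorem isFinLocFree_tensorMod {E N : X.Modules} (hE : FlatMod.IsFinLocFree E)
    (hN : PicF.IsInvertible N) : FlatMod.IsFinLocFree (tensorMod E N) := by
  refine isFinLocFree_of_locally (fun x => ?_)
  obtain ⟨U, hxU, ⟨e2⟩⟩ := hN x
  refine ⟨↑U, U.ι, inferInstance, ?_, ?_⟩
  · rw [Scheme.Opens.range_ι]
    exact hxU
  · exact isFinLocFree_of_iso
      (restrictTensorModIso U.ι E N ≪≫ tensorModCongr (Iso.refl _) e2 ≪≫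
        tensorModRightUnitor _).symm (isFinLocFree_restrict U.ι hE)

end Groth.Agent.Lib.Helper48.DualInv
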