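/-
helper48: ample families of invertible modules and quotients of sums of inverse powers.
* `rho F P Q ev t : Q ⟶ F` : the map induced by a global section `t` of `F ⊗ P`, `P ⊗ Q ≅ O_X`
* `epi_of_factor` : a morphism `E ⟶ F` through which enough `rho`'s factor is an epimorphism
* `exists_data` : the local data (inverse, finite generating sets, finite cover)
-/
import Groth.Agent.Lib.Helper48.DualInv
import Groth.Agent.Lib.Ample.FinGen
import Groth.Agent.Lib.Ample.Helper50_SecTwist

set_option autoImplicit false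
universe u

open CategoryTheory CategoryTheory.Limits MonoidalCategory Opposite TensorProduct AlgebraicGeometry
  TopologicalSpace

namespace Groth.Agent.Lib.Helper48.AmpleFam

open Groth.Agent.Lib.QCoh CohB1 Scheme.Modules Groth.Agent.Lib.Ample

variable {X : Scheme.{u}}

/-- the braiding on pure tensors -/
lemma braiding_tmulSect (M N : X.Modules) {V : X.Opens} (x : Γ(M, V)) (y : Γ(N, V)) :
    (tensorModBraiding M N).hom.app V (tmulSect M N x y) = tmulSect N M y x :=
  shf_map_app_unit (β_ ((incl X).obj M) ((incl X).obj N)).hom V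
    ((show (((incl X).obj M).obj (op V) : Type u) from x) ⊗ₜ[Γ(X, V)]
      (show (((incl X).obj N).obj (op V) : Type u) from y))

section Rho

variable (F P Q : X.Modules) (ev : tensorMod P Q ≅ Coh.structureModule X)

/-- `(F ⊗ P) ⊗ Q ≅ F` -/
noncomputable def cancelIso : tensorMod (tensorMod F P) Q ≅ F :=
  tensorModAssoc F P Q ≪≫ tensorModCongr (Iso.refl F) ev ≪≫ tensorModRightUnitor F

/-- the map `Q ⟶ F` given by a global section `t` of `F ⊗ P` -/
noncomputable def rho (t : Γ(tensorMod F P, ⊤)) : Q ⟶ F :=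
  twistHom Q (Lift74.unitHomOfTop (tensorMod F P) t) ≫
    (tensorModBraiding Q (tensorMod F P)).hom ≫ (cancelIso F P Q ev).hom

theorem secOf_unitHomOfTop (G : X.Modules) (t : Γ(G, ⊤)) :
    secOf (Lift74.unitHomOfTop G t) = t :=
  Lift74.unitHomOfTop_app_one G t

/-- `c ↦ Φ(c ⊗ q)` -/
noncomputable def lam (V : X.Opens) (q : Γ(Q, V)) (c : Γ(tensorMod F P, V)) : Γ(F, V) :=
  (cancelIso F P Q ev).hom.app V (tmulSect (tensorMod F P) Q c q)

theorem rho_app (t : Γ(tensorMod F P, ⊤)) (V : X.Opens) (q : Γ(Q, V)) :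
    (rho F P Q ev t).app V q = lam F P Q ev V q (resTop (tensorMod F P) V t) := by
  show (cancelIso F P Q ev).hom.app V ((tensorModBraiding Q (tensorMod F P)).hom.app V
    ((twistHom Q (Lift74.unitHomOfTop (tensorMod F P) t)).app V q)) = _
  rw [twistHom_app, braiding_tmulSect]
  have h : secOn (Lift74.unitHomOfTop (tensorMod F P) t) V = resTop (tensorMod F P) V t := by
    unfold secOn
    rw [secOf_unitHomOfTop]
  rw [h]
  rfl

theorem lam_add (V : X.Opens) (q : Γ(Q, V)) (c c' : Γ(tensorMod F P, V)) :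
    lam F P Q ev V q (c + c') = lam F P Q ev V q c + lam F P Q ev V q c' := by
  unfold lam
  rw [tmulSect_add_left, map_add]

theorem lam_smul (V : X.Opens) (q : Γ(Q, V)) (r : Γ(X, V)) (c : Γ(tensorMod F P, V)) :
    lam F P Q ev V q (r • c) = r • lam F P Q ev V q c := by
  unfold lam
  rw [tmulSect_smul_left, Scheme.Modules.Hom.app_smul]

theorem lam_zero (V : X.Opens) (q : Γ(Q, V)) :
    lam F P Q ev V q 0 = 0 := by
  have h := lam_smul F P Q ev V q 0 0
  rw [zero_smul, zero_smul] at h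
  exact h

theorem lam_surjective {U' : X.Opens} {q' : Γ(Q, U')} (hq' : IsGenerator Q U' q') {V : X.Opens}
    (hV : V ≤ U') :
    Function.Surjective (lam F P Q ev V (Q.presheaf.map (homOfLE hV).op q')) := by
  have h1 : Function.Bijective ((cancelIso F P Q ev).hom.app V) :=
    ConcreteCategory.bijective_of_isIso _
  have h2 := bijective_tmulSect_of_isGenerator (F := tensorMod F P) hq' hV
  exact h1.2.comp h2.2

end Rho

/-- a morphism `E ⟶ F` through which enough of the maps `rho` factor is an epimorphism -/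
theorem epi_of_factor (F : X.Modules) (P Q : X → X.Modules)
    (hQ : ∀ x, PicF.IsInvertible (Q x))
    (ev : ∀ x, tensorMod (P x) (Q x) ≅ Coh.structureModule X)
    (hq : ∀ x, (tensorMod F (P x)).IsQuasicoherent)
    (W : X → X.Opens) (hW : ∀ x, IsAffineOpen (W x))
    (S : ∀ x, Finset Γ(tensorMod F (P x), ⊤))
    (hS : ∀ x, Submodule.span Γ(X, W x)
      (Set.range fun j : {m // m ∈ S x} => resTop (tensorMod F (P x)) (W x) j.1) = ⊤)
    (T : Finset X) (hT : Set.univ ⊆ ⋃ x ∈ T, ((W x : X.Opens) : Set X))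
    {E : X.Modules} (ρ : E ⟶ F)
    (hρ : ∀ x ∈ T, ∀ t ∈ S x, ∃ κ : Q x ⟶ E, κ ≫ ρ = rho F (P x) (Q x) (ev x) t) : Epi ρ := by
  refine epi_of_surjective_of_isBasis
    (fun i : {V : X.Opens // ∃ (x : X) (_ : x ∈ T) (g : Γ(X, W x)) (U' : X.Opens)
        (q' : Γ(Q x, U')), V = X.basicOpen g ∧ V ≤ U' ∧ IsGenerator (Q x) U' q'} => i.1) ?_ ρ ?_
  · rw [Opens.isBasis_iff_nbhd]
    intro U y hyU
    have hy : y ∈ ⋃ i ∈ T, ((W i : X.Opens) : Set X) := hT (Set.mem_univ y)
    simp only [Set.mem_iUnion] at hy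
    obtain ⟨x, hxT, hyx⟩ := hy
    obtain ⟨U', hyU', q', hq'⟩ := exists_isGenerator_of_isInvertible (hQ x) y
    obtain ⟨g, hgU, hyg⟩ := (hW x).exists_basicOpen_le (V := U ⊓ U') ⟨y, ⟨hyU, hyU'⟩⟩ hyx
    exact ⟨_, ⟨⟨X.basicOpen g, x, hxT, g, U', q', rfl, hgU.trans inf_le_right, hq'⟩, rfl⟩, hyg,
      hgU.trans inf_le_left⟩
  · rintro ⟨V, x, hxT, g, U', q', rfl, hVU', hq'⟩ y
    haveI := hq x
    obtain ⟨c, rfl⟩ := lam_surjective F (P x) (Q x) (ev x) hq' hVU' y
    have hc : c ∈ Submodule.span Γ(X, X.basicOpen g)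
        (Set.range fun j : {m // m ∈ S x} =>
          resTop (tensorMod F (P x)) (X.basicOpen g) j.1) := by
      rw [span_family_basicOpen_eq_top (tensorMod F (P x)) (fun j : {m // m ∈ S x} => j.1)
        (hW x) (hS x) g]
      trivial
    induction hc using Submodule.span_induction with
    | mem c hc =>
      obtain ⟨j, rfl⟩ := hc
      obtain ⟨κ, hκ⟩ := hρ x hxT j.1 j.2
      refine ⟨κ.app _ ((Q x).presheaf.map (homOfLE hVU').op q'), ?_⟩
      have h := congrArg (fun φ : Q x ⟶ F =>
        φ.app (X.basicOpen g) ((Q x).presheaf.map (homOfLE hVU').op q')) hκ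
      exact h.trans (rho_app F (P x) (Q x) (ev x) j.1 _ _)
    | zero => exact ⟨0, by rw [map_zero, lam_zero]⟩
    | add c c' _ _ hc hc' =>
      obtain ⟨z, hz⟩ := hc
      obtain ⟨z', hz'⟩ := hc'
      exact ⟨z + z', by rw [map_add, hz, hz', lam_add]⟩
    | smul r c _ hc =>
      obtain ⟨z, hz⟩ := hc
      exact ⟨r • z, by rw [Scheme.Modules.Hom.app_smul, hz, lam_smul]⟩

/-- the local data: inverses, finite generating families of global sections, a finite cover -/
theorem exists_data [CompactSpace X] (F : X.Modules) [F.IsQuasicoherent] [F.IsFiniteType]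
    (P : X → X.Modules) (hP : ∀ x, PicF.IsInvertible (P x))
    (W : X → X.Opens) (hW : ∀ x, IsAffineOpen (W x)) (hxW : ∀ x, x ∈ W x)
    (hgen : ∀ x, GenOn (tensorMod F (P x)) (W x)) :
    ∃ (Q : X → X.Modules) (_ : ∀ x, PicF.IsInvertible (Q x))
      (_ : ∀ x, Nonempty (tensorMod (P x) (Q x) ≅ Coh.structureModule X))
      (_ : ∀ x, (tensorMod F (P x)).IsQuasicoherent)
      (S : ∀ x, Finset Γ(tensorMod F (P x), ⊤)) (T : Finset X),
      (∀ x, Submodule.span Γ(X, W x)
        (Set.range fun j : {m // m ∈ S x} => resTop (tensorMod F (P x)) (W x) j.1) = ⊤) ∧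
      Set.univ ⊆ ⋃ x ∈ T, ((W x : X.Opens) : Set X) := by
  classical
  have hinv : ∀ x, ∃ Q : X.Modules, PicF.IsInvertible Q ∧
      Nonempty (tensorMod (P x) Q ≅ Coh.structureModule X) :=
    fun x => DualInv.exists_inverse (hP x)
  choose Q hQ hev using hinv
  have hq : ∀ x, (tensorMod F (P x)).IsQuasicoherent := fun x => by
    haveI : (P x).IsQuasicoherent := isQuasicoherent_of_isInvertible (hP x)
    exact isQuasicoherent_tensorMod _ _
  have key : ∀ x : X, ∃ S : Finset Γ(tensorMod F (P x), ⊤),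
      Submodule.span Γ(X, W x)
        (Set.range fun j : {m // m ∈ S} => resTop (tensorMod F (P x)) (W x) j.1) = ⊤ := by
    intro x
    haveI : (P x).IsQuasicoherent := isQuasicoherent_of_isInvertible (hP x)
    haveI : (P x).IsFiniteType := isFiniteType_of_isInvertible (hP x)
    haveI : (tensorMod F (P x)).IsQuasicoherent := isQuasicoherent_tensorMod _ _
    haveI : (tensorMod F (P x)).IsFiniteType := isFiniteType_tensorMod _ _
    have hfin : Module.Finite Γ(X, W x) Γ(tensorMod F (P x), W x) :=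
      finite_Γ_of_isAffineOpen (hW x) _
    have hfg : (Submodule.span Γ(X, W x)
        (Set.range (resTop (tensorMod F (P x)) (W x)))).FG := by
      rw [hgen x]
      exact hfin.1
    obtain ⟨s', hs's, hss'⟩ := (Submodule.fg_span_iff_fg_span_finset_subset _).1 hfg
    choose! pre hpre using fun y (hy : y ∈ (s' : Set Γ(tensorMod F (P x), W x))) => hs's hy
    refine ⟨s'.image pre, ?_⟩
    rw [eq_top_iff, ← hgen x, hss']
    refine Submodule.span_mono ?_
    intro y hy
    exact ⟨⟨pre y, Finset.mem_image_of_mem pre hy⟩, hpre y hy⟩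
  choose S hS using key
  obtain ⟨T, hT⟩ := isCompact_univ.elim_finite_subcover
    (fun x : X => ((W x : X.Opens) : Set X)) (fun x => (W x).isOpen)
    (fun y _ => Set.mem_iUnion.2 ⟨y, hxW y⟩)
  exact ⟨Q, hQ, hev, hq, S, T, hS, hT⟩

end Groth.Agent.Lib.Helper48.AmpleFam
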