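/-
helper48: the canonical section of `O(D)` for an effective Cartier divisor `D` (ideal sheaf `I`).
* `ideal_eq_top_of_le_compl` : `I` is the unit ideal on affine opens disjoint from its support
* `exists_section_genLocus_eq_compl` : an invertible module `N` (an inverse of `I`) and a section
  `τ : O_X ⟶ N` with `X_τ = X ∖ Supp D`
-/
import Groth.Agent.Lib.Ample.Helper50_IdealTwist
import Groth.Agent.Lib.QCoh.Helper50_FTIdeal
import Groth.Agent.Lib.QCoh.Helper74_EffCartier
import Groth.Agent.Lib.Helper48.DualInv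

set_option autoImplicit false
universe u

open CategoryTheory CategoryTheory.Limits MonoidalCategory Opposite TensorProduct AlgebraicGeometry
  TopologicalSpace

namespace Groth.Agent.Lib.Helper48.CartierSection

open Groth.Agent.Lib.QCoh CohB1 Scheme.Modules Groth.Agent.Lib.Ample
open Groth.Agent.Lib.QCoh.FTIdeal Groth.Agent.Lib.Ample.SpanGen Groth.Agent.Lib.Ample.IdealTwist

variable {X : Scheme.{u}}

/-- an ideal sheaf is the unit ideal on affine opens disjoint from its support -/
theorem ideal_eq_top_of_le_compl (I : X.IdealSheafData) {W : X.Opens} (hW : IsAffineOpen W)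
    (hWI : W ≤ I.support.compl) : I.ideal ⟨W, hW⟩ = ⊤ := by
  by_contra h
  obtain ⟨m, hm, hle⟩ := Ideal.exists_le_maximal _ h
  obtain ⟨p, hp⟩ : ∃ p : PrimeSpectrum Γ(X, W), p.asIdeal = m := ⟨⟨m, hm.isPrime⟩, rfl⟩
  have hxW : hW.fromSpec p ∈ W := by
    have h1 : hW.fromSpec p ∈ Set.range hW.fromSpec := ⟨p, rfl⟩
    rw [hW.range_fromSpec] at h1
    exact h1
  have hsupp : hW.fromSpec p ∈ I.support := by
    rw [Scheme.IdealSheafData.mem_support_iff_of_mem (U := ⟨W, hW⟩) hxW, Scheme.mem_zeroLocus_iff]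
    intro f hf hxf
    have h2 : p ∈ hW.fromSpec ⁻¹ᵁ X.basicOpen f := hxf
    rw [hW.fromSpec_preimage_basicOpen f] at h2
    have h3 : f ∉ p.asIdeal := h2
    rw [hp] at h3
    exact h3 (hle hf)
  exact hWI hxW hsupp

/-- **the canonical section of `O(D)`**: an inverse `N` of the ideal sheaf of an effective Cartier
divisor has a section whose generating locus is the complement of the support -/
theorem exists_section_genLocus_eq_compl (I : X.IdealSheafData) (hI : BlowUp.IsEffCartierIdeal I) :
    ∃ (N : X.Modules) (τ : Coh.structureModule X ⟶ N),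
      PicF.IsInvertible N ∧ genLocus N τ = I.support.compl := by
  have hinv : PicF.IsInvertible (ClSub.idealMod I) :=
    (EffCartier74.isInvertible_idealMod_iff I).2 hI
  obtain ⟨N, hN, ⟨ev⟩⟩ := Groth.Agent.Lib.Helper48.DualInv.exists_inverse hinv
  have hsupp : (I.support : Set X) = ((I.support.compl : X.Opens) : Set X)ᶜ :=
    (compl_compl _).symm
  have htop : ∀ (W : X.Opens) (hW : IsAffineOpen W), W ≤ I.support.compl →
      I.ideal ⟨W, hW⟩ = ⊤ := fun W hW h => ideal_eq_top_of_le_compl I hW h
  obtain ⟨p₀, hp₀⟩ : ∃ p₀ : freeModule X PUnit.{u + 1} ⟶ Coh.structureModule X,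
      SheafOfModules.ιFree (R := X.ringCatSheaf) PUnit.unit ≫ p₀ = 𝟙 _ :=
    ⟨Sigma.desc (fun _ => 𝟙 _), Sigma.ι_desc _ _⟩
  haveI : IsSplitEpi p₀ := IsSplitEpi.mk' ⟨_, hp₀⟩
  obtain ⟨p, hpdef⟩ : ∃ p : freeModule X PUnit.{u + 1} ⟶ tensorMod (ClSub.idealMod I) N,
      p = p₀ ≫ ev.inv := ⟨_, rfl⟩
  haveI : Epi p := by rw [hpdef]; exact epi_comp _ _
  refine ⟨N, ev.inv ≫ idealTwistHom I N, hN,
    le_antisymm (genLocus_le_of_support hN hsupp ev.inv) ?_⟩
  intro x hx
  let t : PUnit.{u + 1} → (Coh.structureModule X ⟶ N) :=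
    fun i => (SheafOfModules.ιFree (R := X.ringCatSheaf) i ≫ p) ≫ idealTwistHom I N
  have hspanJ := span_germ_eq_top_of_epi_free p x
  have hsurj := stalkMap_idealTwistHom_surjective hN htop x hx
  have hspan : Submodule.span (X.presheaf.stalk x) (Set.range fun i : PUnit.{u + 1} =>
      stalkMap (t i) x (germOne x)) = ⊤ := by
    have h1 : Submodule.map (stalkMapₗ (idealTwistHom I N) x)
        (Submodule.span (X.presheaf.stalk x) (Set.range fun i : PUnit.{u + 1} =>
          stalkMap (SheafOfModules.ιFree i ≫ p) x (germOne x))) = ⊤ := by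
      rw [hspanJ, Submodule.map_top, LinearMap.range_eq_top]
      exact hsurj
    rw [Submodule.map_span, ← Set.range_comp] at h1
    rw [← h1]
    congr 2
    funext i
    have e3 : (stalkFunctor X x).map (t i) =
        (stalkFunctor X x).map (SheafOfModules.ιFree i ≫ p) ≫
          (stalkFunctor X x).map (idealTwistHom I N) :=
      (stalkFunctor X x).map_comp _ _
    exact (ConcreteCategory.congr_hom e3 (germOne x)).trans (ConcreteCategory.comp_apply _ _ _)
  obtain ⟨i, hi⟩ := exists_mem_genLocus_of_span_eq_top hN t x hspan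
  have hti : t i = ev.inv ≫ idealTwistHom I N := by
    cases i
    have h1 : SheafOfModules.ιFree (R := X.ringCatSheaf) PUnit.unit ≫ p = ev.inv := by
      rw [hpdef]
      exact (Category.assoc _ _ _).symm.trans
        ((congrArg (fun q => q ≫ ev.inv) hp₀).trans (Category.id_comp _))
    exact congrArg (fun q => q ≫ idealTwistHom I N) h1
  rw [← hti]
  exact hi

end Groth.Agent.Lib.Helper48.CartierSection
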