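import Mathlib

/-!
# Parity grading on `R[u,v]` and square-subalgebra computations (helper48)

`P R = R[u², v²] ⊆ R[u,v]`; `R[u,v]` is free over `P R` on `1, u, v, uv`.
We prove the independence (`indep`), the decomposition (`exists_decomp`) and a presentation lemma
(`ker_eq_span`) for maps `R[a,b,c] → R[u,v]`, `a ↦ u²`, `b ↦ v²`, `c ↦ g`.
-/

namespace Groth.Agent.Lib.Helper48.Char2Grading

open MvPolynomial

variable {R : Type*} [CommRing R]

/-- the parity weights -/
def w : Fin 2 → ZMod 2 × ZMod 2 := ![(1, 0), (0, 1)]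

/-- `R[u², v²]` -/
noncomputable def P (R : Type*) [CommRing R] : Subalgebra R (MvPolynomial (Fin 2) R) :=
  Algebra.adjoin R {X 0 ^ 2, X 1 ^ 2}

lemma X0sq_mem : (X 0 ^ 2 : MvPolynomial (Fin 2) R) ∈ P R :=
  Algebra.subset_adjoin (by simp)

lemma X1sq_mem : (X 1 ^ 2 : MvPolynomial (Fin 2) R) ∈ P R :=
  Algebra.subset_adjoin (by simp)

lemma C_mem (r : R) : (C r : MvPolynomial (Fin 2) R) ∈ P R :=
  (P R).algebraMap_mem r

lemma homog_of_mem_P {p : MvPolynomial (Fin 2) R} (hp : p ∈ P R) :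
    IsWeightedHomogeneous w p 0 := by
  induction hp using Algebra.adjoin_induction with
  | mem x hx =>
    rcases hx with rfl | rfl
    · have := (isWeightedHomogeneous_X R w 0).pow 2
      have h0 : (2 : ℕ) • w 0 = 0 := by decide
      rwa [h0] at this
    · have := (isWeightedHomogeneous_X R w 1).pow 2
      have h0 : (2 : ℕ) • w 1 = 0 := by decide
      rwa [h0] at this
  | algebraMap r => exact isWeightedHomogeneous_C w r
  | add x y _ _ hx hy => exact hx.add hy
  | mul x y _ _ hx hy => simpa using hx.mul hy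

/-- `1, u, v, uv` are independent over `R[u², v²]`. -/
theorem indep {q0 q1 q2 q3 : MvPolynomial (Fin 2) R} (h0 : q0 ∈ P R) (h1 : q1 ∈ P R)
    (h2 : q2 ∈ P R) (h3 : q3 ∈ P R)
    (h : q0 + q1 * X 0 + q2 * X 1 + q3 * (X 0 * X 1) = 0) :
    q0 = 0 ∧ q1 = 0 ∧ q2 = 0 ∧ q3 = 0 := by
  have H0 : IsWeightedHomogeneous w q0 ((0, 0) : ZMod 2 × ZMod 2) := homog_of_mem_P h0
  have H1 : IsWeightedHomogeneous w (q1 * X 0) ((1, 0) : ZMod 2 × ZMod 2) := by
    have := (homog_of_mem_P h1).mul (isWeightedHomogeneous_X R w 0)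
    have e : (0 : ZMod 2 × ZMod 2) + w 0 = (1, 0) := by decide
    rwa [e] at this
  have H2 : IsWeightedHomogeneous w (q2 * X 1) ((0, 1) : ZMod 2 × ZMod 2) := by
    have := (homog_of_mem_P h2).mul (isWeightedHomogeneous_X R w 1)
    have e : (0 : ZMod 2 × ZMod 2) + w 1 = (0, 1) := by decide
    rwa [e] at this
  have H3 : IsWeightedHomogeneous w (q3 * (X 0 * X 1)) ((1, 1) : ZMod 2 × ZMod 2) := by
    have := (homog_of_mem_P h3).mul
      ((isWeightedHomogeneous_X R w 0).mul (isWeightedHomogeneous_X R w 1))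
    have e : (0 : ZMod 2 × ZMod 2) + (w 0 + w 1) = (1, 1) := by decide
    rwa [e] at this
  have key : ∀ d : ZMod 2 × ZMod 2,
      weightedHomogeneousComponent w d q0 + weightedHomogeneousComponent w d (q1 * X 0) +
        weightedHomogeneousComponent w d (q2 * X 1) +
        weightedHomogeneousComponent w d (q3 * (X 0 * X 1)) = 0 := by
    intro d
    have := congrArg (weightedHomogeneousComponent w d) h
    simpa only [map_add, map_zero] using this
  have k0 := key (0, 0)
  rw [H0.weightedHomogeneousComponent_same, H1.weightedHomogeneousComponent_ne _ (by decide),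
    H2.weightedHomogeneousComponent_ne _ (by decide),
    H3.weightedHomogeneousComponent_ne _ (by decide)] at k0
  have k1 := key (1, 0)
  rw [H1.weightedHomogeneousComponent_same, H0.weightedHomogeneousComponent_ne _ (by decide),
    H2.weightedHomogeneousComponent_ne _ (by decide),
    H3.weightedHomogeneousComponent_ne _ (by decide)] at k1
  have k2 := key (0, 1)
  rw [H2.weightedHomogeneousComponent_same, H0.weightedHomogeneousComponent_ne _ (by decide),
    H1.weightedHomogeneousComponent_ne _ (by decide),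
    H3.weightedHomogeneousComponent_ne _ (by decide)] at k2
  have k3 := key (1, 1)
  rw [H3.weightedHomogeneousComponent_same, H0.weightedHomogeneousComponent_ne _ (by decide),
    H1.weightedHomogeneousComponent_ne _ (by decide),
    H2.weightedHomogeneousComponent_ne _ (by decide)] at k3
  refine ⟨by simpa using k0, ?_, ?_, ?_⟩
  · have : q1 * X 0 = 0 := by simpa using k1
    exact (isRegular_X (n := (0 : Fin 2)) (R := R)).right.eq_iff.mp (by simpa using this)
  · have : q2 * X 1 = 0 := by simpa using k2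
    exact (isRegular_X (n := (1 : Fin 2)) (R := R)).right.eq_iff.mp (by simpa using this)
  · have : q3 * (X 0 * X 1) = 0 := by simpa using k3
    have hreg : IsRegular (X 0 * X 1 : MvPolynomial (Fin 2) R) := isRegular_X.mul isRegular_X
    exact hreg.right.eq_iff.mp (by simpa using this)

/-- Every polynomial is a `R[u², v²]`-combination of `1, u, v, uv`. -/
theorem exists_decomp (p : MvPolynomial (Fin 2) R) :
    ∃ p0 ∈ P R, ∃ p1 ∈ P R, ∃ p2 ∈ P R, ∃ p3 ∈ P R,
      p = p0 + p1 * X 0 + p2 * X 1 + p3 * (X 0 * X 1) := by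
  induction p using MvPolynomial.induction_on with
  | C r => exact ⟨C r, C_mem r, 0, zero_mem _, 0, zero_mem _, 0, zero_mem _, by ring⟩
  | add p q hp hq =>
    obtain ⟨p0, hp0, p1, hp1, p2, hp2, p3, hp3, rfl⟩ := hp
    obtain ⟨q0, hq0, q1, hq1, q2, hq2, q3, hq3, rfl⟩ := hq
    exact ⟨p0 + q0, add_mem hp0 hq0, p1 + q1, add_mem hp1 hq1, p2 + q2, add_mem hp2 hq2,
      p3 + q3, add_mem hp3 hq3, by ring⟩
  | mul_X p i hp =>
    obtain ⟨p0, hp0, p1, hp1, p2, hp2, p3, hp3, rfl⟩ := hp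
    fin_cases i
    · exact ⟨p1 * X 0 ^ 2, mul_mem hp1 X0sq_mem, p0, hp0, p3 * X 0 ^ 2, mul_mem hp3 X0sq_mem,
        p2, hp2, by simp only [Fin.zero_eta]; ring⟩
    · exact ⟨p2 * X 1 ^ 2, mul_mem hp2 X1sq_mem, p3 * X 1 ^ 2, mul_mem hp3 X1sq_mem, p0, hp0,
        p1, hp1, by simp only [Fin.mk_one]; ring⟩

lemma two_eq_zero (σ : Type*) [CharP R 2] : (2 : MvPolynomial σ R) = 0 := by
  have : ((2 : ℕ) : MvPolynomial σ R) = 0 := CharP.cast_eq_zero _ 2
  simpa using this

/-- any derivation kills `R[u², v²]` in characteristic 2 -/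
lemma deriv_eq_zero_of_mem_P [CharP R 2] (D : Derivation R (MvPolynomial (Fin 2) R) (MvPolynomial (Fin 2) R))
    {p : MvPolynomial (Fin 2) R} (hp : p ∈ P R) : D p = 0 := by
  have h2 := two_eq_zero (R := R) (Fin 2)
  have : Set.EqOn D (0 : Derivation R (MvPolynomial (Fin 2) R) (MvPolynomial (Fin 2) R))
      ({X 0 ^ 2, X 1 ^ 2} : Set (MvPolynomial (Fin 2) R)) := by
    rintro x (rfl | rfl)
    · rw [Derivation.leibniz_pow]
      simp only [Derivation.coe_zero, Pi.zero_apply, nsmul_eq_mul, Nat.cast_ofNat, h2, zero_mul]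
    · rw [Derivation.leibniz_pow]
      simp only [Derivation.coe_zero, Pi.zero_apply, nsmul_eq_mul, Nat.cast_ofNat, h2, zero_mul]
  exact Derivation.eqOn_adjoin this hp

lemma mem_P_iff {p : MvPolynomial (Fin 2) R} :
    p ∈ P R ↔ ∃ r : MvPolynomial (Fin 2) R, aeval (R := R) ![(X 0 ^ 2 : MvPolynomial (Fin 2) R), X 1 ^ 2] r = p := by
  have : ({X 0 ^ 2, X 1 ^ 2} : Set (MvPolynomial (Fin 2) R)) =
      Set.range ![(X 0 ^ 2 : MvPolynomial (Fin 2) R), X 1 ^ 2] := by
    simp [Matrix.range_cons, Matrix.range_empty, Set.pair_comm]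
  rw [P, this, Algebra.adjoin_range_eq_range_aeval]
  rfl

lemma aeval_sq_eq_expand (r : MvPolynomial (Fin 2) R) :
    aeval (R := R) ![(X 0 ^ 2 : MvPolynomial (Fin 2) R), X 1 ^ 2] r = expand 2 r := by
  have : (![(X 0 ^ 2 : MvPolynomial (Fin 2) R), X 1 ^ 2]) = fun i => X i ^ 2 := by
    funext i; fin_cases i <;> rfl
  rw [this]
  rfl

lemma aeval_sq_mem (r : MvPolynomial (Fin 2) R) :
    aeval (R := R) ![(X 0 ^ 2 : MvPolynomial (Fin 2) R), X 1 ^ 2] r ∈ P R :=
  mem_P_iff.mpr ⟨r, rfl⟩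

lemma aeval_rename3 {S : Type*} [CommRing S] [Algebra R S] (a b c : S) (r : MvPolynomial (Fin 2) R) :
    aeval (R := R) ![a, b, c] (rename (![0, 1] : Fin 2 → Fin 3) r) = aeval (R := R) ![a, b] r := by
  rw [aeval_rename]
  have : ((![a, b, c] : Fin 3 → S) ∘ (![0, 1] : Fin 2 → Fin 3)) = ![a, b] := by
    funext i; fin_cases i <;> rfl
  rw [this]

/-- Presentation lemma: if `g = g1 u + g2 v + g3 uv` with `g_i ∈ R[u²,v²]`, `g3` regular, and
`G0(u², v²) = -g²`, then the kernel of `a ↦ u², b ↦ v², c ↦ g` is generated by `c² + G0(a,b)`. -/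
theorem ker_eq_span (g g1 g2 g3 : MvPolynomial (Fin 2) R) (h1 : g1 ∈ P R) (h2 : g2 ∈ P R)
    (h3 : g3 ∈ P R) (hreg : IsRegular g3) (hg : g = g1 * X 0 + g2 * X 1 + g3 * (X 0 * X 1))
    (G0 : MvPolynomial (Fin 2) R)
    (hG : g ^ 2 + aeval (R := R) ![(X 0 ^ 2 : MvPolynomial (Fin 2) R), X 1 ^ 2] G0 = 0) :
    RingHom.ker (aeval (R := R) (S₁ := MvPolynomial (Fin 2) R) ![X 0 ^ 2, X 1 ^ 2, g]) =
      Ideal.span {(X 2 ^ 2 + rename (![0, 1] : Fin 2 → Fin 3) G0 : MvPolynomial (Fin 3) R)} := by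
  set φ := aeval (R := R) (S₁ := MvPolynomial (Fin 2) R) ![X 0 ^ 2, X 1 ^ 2, g] with hφ
  set ι : Fin 2 → Fin 3 := ![0, 1] with hι
  set F : MvPolynomial (Fin 3) R := X 2 ^ 2 + rename ι G0 with hF
  have hφF : φ F = 0 := by
    rw [hF, map_add, map_pow, hφ, aeval_X, aeval_rename3]
    simpa using hG
  have hle : Ideal.span {F} ≤ RingHom.ker φ := by
    rw [Ideal.span_le]
    rintro x rfl
    exact hφF
  refine le_antisymm ?_ hle
  -- division with remainder
  have hdiv : ∀ f : MvPolynomial (Fin 3) R, ∃ r0 r1 : MvPolynomial (Fin 2) R,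
      f - (rename ι r0 + rename ι r1 * X 2) ∈ Ideal.span {F} := by
    intro f
    induction f using MvPolynomial.induction_on with
    | C r => exact ⟨C r, 0, by simp⟩
    | add p q hp hq =>
      obtain ⟨r0, r1, hr⟩ := hp
      obtain ⟨s0, s1, hs⟩ := hq
      refine ⟨r0 + s0, r1 + s1, ?_⟩
      have := Ideal.add_mem _ hr hs
      convert this using 1
      simp only [map_add]; ring
    | mul_X p i hp =>
      obtain ⟨r0, r1, hr⟩ := hp
      fin_cases i
      · refine ⟨r0 * X 0, r1 * X 0, ?_⟩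
        have := Ideal.mul_mem_right (X 0) _ hr
        convert this using 1
        simp only [map_mul, rename_X, hι, Matrix.cons_val_zero, Fin.zero_eta]; ring
      · refine ⟨r0 * X 1, r1 * X 1, ?_⟩
        have := Ideal.mul_mem_right (X 1) _ hr
        convert this using 1
        simp only [map_mul, rename_X, hι, Matrix.cons_val_one, Matrix.cons_val_zero,
          Fin.mk_one]; ring
      · refine ⟨-(r1 * G0), r0, ?_⟩
        have h1' := Ideal.mul_mem_right (X 2) _ hr
        have h2' := Ideal.mul_mem_left _ (rename ι r1) (Ideal.subset_span (Set.mem_singleton F))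
        have := Ideal.add_mem _ h1' h2'
        convert this using 1
        simp only [map_neg, map_mul, hF]
        have : (⟨2, by decide⟩ : Fin 3) = 2 := rfl
        rw [this]; ring
  intro f hf
  obtain ⟨r0, r1, hr⟩ := hdiv f
  have hfφ : φ f = 0 := hf
  have hdφ : φ (f - (rename ι r0 + rename ι r1 * X 2)) = 0 := hle hr
  rw [map_sub, hfφ, zero_sub, neg_eq_zero, map_add, map_mul] at hdφ
  have e2 : φ (X 2) = g := by rw [hφ, aeval_X]; rfl
  rw [hφ, aeval_rename3, aeval_rename3, ← hφ, e2] at hdφ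
  set e0 := aeval (R := R) ![(X 0 ^ 2 : MvPolynomial (Fin 2) R), X 1 ^ 2] r0 with he0
  set e1 := aeval (R := R) ![(X 0 ^ 2 : MvPolynomial (Fin 2) R), X 1 ^ 2] r1 with he1
  have m0 : e0 ∈ P R := aeval_sq_mem r0
  have m1 : e1 ∈ P R := aeval_sq_mem r1
  have hcomb : e0 + (e1 * g1) * X 0 + (e1 * g2) * X 1 + (e1 * g3) * (X 0 * X 1) = 0 := by
    rw [← hdφ, hg]; ring
  obtain ⟨z0, -, -, z3⟩ := indep m0 (mul_mem m1 h1) (mul_mem m1 h2) (mul_mem m1 h3) hcomb
  have z1 : e1 = 0 := hreg.right.eq_iff.mp (by simpa using z3)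
  have hr0 : r0 = 0 := by
    rw [he0, aeval_sq_eq_expand] at z0
    exact (expand_eq_zero (by norm_num)).mp z0
  have hr1 : r1 = 0 := by
    rw [he1, aeval_sq_eq_expand] at z1
    exact (expand_eq_zero (by norm_num)).mp z1
  simpa [hr0, hr1] using hr

end Groth.Agent.Lib.Helper48.Char2Grading
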