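import Mathlib
import Groth.Prelude.Def_CAlg
import Groth.Prelude.Def_MeroDiv

/-!
# Points of depth one detecting non-divisibility (general, non-integral case)

`a ∉ b O_x` with `b` regular ⟹ there is a generization `z` of `x` with `depth O_z = 1` and
`a ∉ b O_z`.  Pure commutative algebra via "saturated colon ideals", then transfer to stalks.
-/

set_option autoImplicit false
universe u

open CategoryTheory AlgebraicGeometry TopologicalSpace

namespace Groth.Agent.Lib.Helper48.DepthOneGen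

section colon

variable {A : Type*} [CommRing A]

/-- the contraction to `A` of the colon ideal `(b A_P : g)` -/
def satColon (P : Ideal A) [hP : P.IsPrime] (b g : A) : Ideal A where
  carrier := {r | ∃ s : A, s ∉ P ∧ s * r * g ∈ Ideal.span {b}}
  zero_mem' := ⟨1, (Ideal.ne_top_iff_one P).mp hP.ne_top, by simp⟩
  add_mem' := by
    rintro r r' ⟨s, hs, h⟩ ⟨s', hs', h'⟩
    refine ⟨s * s', fun hh => (hP.mem_or_mem hh).elim hs hs', ?_⟩
    have e : s * s' * (r + r') * g = s' * (s * r * g) + s * (s' * r' * g) := by ring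
    rw [e]
    exact Ideal.add_mem _ (Ideal.mul_mem_left _ _ h) (Ideal.mul_mem_left _ _ h')
  smul_mem' := by
    rintro c r ⟨s, hs, h⟩
    refine ⟨s, hs, ?_⟩
    have e : s * (c • r) * g = c * (s * r * g) := by rw [smul_eq_mul]; ring
    rw [e]
    exact Ideal.mul_mem_left _ _ h

theorem mem_satColon {P : Ideal A} [P.IsPrime] {b g r : A} :
    r ∈ satColon P b g ↔ ∃ s : A, s ∉ P ∧ s * r * g ∈ Ideal.span {b} := Iff.rfl

theorem satColon_le_of_ne_top {P : Ideal A} [hP : P.IsPrime] {b g : A}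
    (h : satColon P b g ≠ ⊤) : satColon P b g ≤ P := by
  intro r hr
  by_contra hrP
  obtain ⟨s, hs, hsr⟩ := hr
  apply h
  rw [Ideal.eq_top_iff_one]
  refine ⟨s * r, fun hh => (hP.mem_or_mem hh).elim hs hrP, ?_⟩
  rw [mul_one]
  exact hsr

theorem satColon_mul_le {P : Ideal A} [P.IsPrime] (b g x : A) :
    satColon P b g ≤ satColon P b (x * g) := by
  rintro r ⟨s, hs, h⟩
  refine ⟨s, hs, ?_⟩
  have e : s * r * (x * g) = x * (s * r * g) := by ring
  rw [e]
  exact Ideal.mul_mem_left _ _ h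

/-- a maximal proper saturated colon ideal is prime -/
theorem exists_prime_satColon [IsNoetherianRing A] (P : Ideal A) [P.IsPrime] (a b : A)
    (h : satColon P b a ≠ ⊤) :
    ∃ c : A, (satColon P b (c * a)).IsPrime := by
  have H : IsNoetherianRing A := inferInstance
  let S : Set (Ideal A) := {I | ∃ c : A, satColon P b (c * a) ≠ ⊤ ∧ I = satColon P b (c * a)}
  have hne : S.Nonempty := ⟨satColon P b (1 * a), 1, by rwa [one_mul], rfl⟩
  obtain ⟨J, ⟨c, hc, rfl⟩, hmax⟩ := set_has_maximal_iff_noetherian.mpr H S hne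
  refine ⟨c, ?_⟩
  rw [Ideal.isPrime_iff]
  refine ⟨hc, ?_⟩
  intro x y hxy
  rw [or_iff_not_imp_left]
  intro hx
  have hx' : satColon P b (x * c * a) ≠ ⊤ := by
    intro htop
    apply hx
    have h1 : (1 : A) ∈ satColon P b (x * c * a) := by rw [htop]; trivial
    obtain ⟨s, hs, hs1⟩ := h1
    refine ⟨s, hs, ?_⟩
    have e : s * x * (c * a) = s * 1 * (x * c * a) := by ring
    rw [e]
    exact hs1
  have hle : satColon P b (c * a) ≤ satColon P b (x * c * a) := by
    have := satColon_mul_le (P := P) b (c * a) x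
    rwa [← mul_assoc] at this
  have hmem : satColon P b (x * c * a) ∈ S := ⟨x * c, hx', rfl⟩
  have heq : satColon P b (c * a) = satColon P b (x * c * a) := by
    by_contra hne'
    exact hmax _ hmem (lt_of_le_of_ne hle hne')
  rw [heq]
  obtain ⟨s, hs, hs1⟩ := hxy
  refine ⟨s, hs, ?_⟩
  have e : s * y * (x * c * a) = s * (x * y) * (c * a) := by ring
  rw [e]
  exact hs1

end colon

section depth

/-- a local ring with a regular element `b` and an element `g ∉ bR` with `𝔪 g ⊆ bR` has depth one -/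
theorem depth_eq_one_of_colon {R : Type u} [CommRing R] [IsLocalRing R] {g b : R}
    (hb : b ∈ nonZeroDivisors R) (hg : g ∉ Ideal.span {b})
    (hm : ∀ t ∈ IsLocalRing.maximalIdeal R, t * g ∈ Ideal.span {b}) :
    LocCoh.depth R R = 1 := by
  unfold LocCoh.depth LocCoh.idealDepth
  have htop : IsLocalRing.maximalIdeal R • (⊤ : Submodule R R) ≠ ⊤ := by
    rw [smul_eq_mul, Ideal.mul_top]
    exact (IsLocalRing.maximalIdeal.isMaximal R).ne_top
  rw [if_neg htop]
  have hbm : b ∈ IsLocalRing.maximalIdeal R := by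
    rw [IsLocalRing.mem_maximalIdeal]
    intro hu
    apply hg
    rw [Ideal.span_singleton_eq_top.mpr hu]
    trivial
  have hbreg : IsSMulRegular R b :=
    isSMulRegular_iff_right_eq_zero_of_smul.mpr fun m hm' =>
      (mul_right_mem_nonZeroDivisors_eq_zero_iff hb).mp ((mul_comm m b).trans hm')
  apply le_antisymm
  · apply iSup₂_le
    rintro rs ⟨hreg, hmem⟩
    match rs, hreg, hmem with
    | [], _, _ => simp
    | [r], _, _ => simp
    | r1 :: r2 :: rest, hreg, hmem =>
      exfalso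
      rw [RingTheory.Sequence.isWeaklyRegular_cons_iff] at hreg
      obtain ⟨h1, hreg'⟩ := hreg
      rw [RingTheory.Sequence.isWeaklyRegular_cons_iff] at hreg'
      obtain ⟨h2, -⟩ := hreg'
      have hr1m : r1 ∈ IsLocalRing.maximalIdeal R := hmem r1 (by simp)
      have hr2m : r2 ∈ IsLocalRing.maximalIdeal R := hmem r2 (by simp)
      obtain ⟨u, hu⟩ := Ideal.mem_span_singleton'.mp (hm r1 hr1m)
      obtain ⟨v, hv⟩ := Ideal.mem_span_singleton'.mp (hm r2 hr2m)
      have huv : r2 * u = r1 * v := by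
        have e0 : (r2 * u - r1 * v) * b = 0 := by
          have e1 : r2 * u * b = r2 * (r1 * g) := by rw [mul_assoc, hu]
          have e2 : r1 * v * b = r1 * (r2 * g) := by rw [mul_assoc, hv]
          rw [sub_mul, e1, e2]; ring
        exact sub_eq_zero.mp ((mul_right_mem_nonZeroDivisors_eq_zero_iff hb).mp e0)
      have hzero : (Submodule.Quotient.mk u : QuotSMulTop r1 R) = 0 := by
        apply h2
        show r2 • (Submodule.Quotient.mk u : QuotSMulTop r1 R) = r2 • 0
        rw [smul_zero, ← Submodule.Quotient.mk_smul, Submodule.Quotient.mk_eq_zero, smul_eq_mul, huv]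
        exact Submodule.smul_mem_pointwise_smul v r1 ⊤ trivial
      rw [Submodule.Quotient.mk_eq_zero, Submodule.mem_smul_pointwise_iff_exists] at hzero
      obtain ⟨w, -, hw⟩ := hzero
      apply hg
      rw [Ideal.mem_span_singleton']
      refine ⟨w, ?_⟩
      have hw' : r1 * w = u := hw
      have h3 : r1 • (w * b) = r1 • g := by
        rw [smul_eq_mul, smul_eq_mul, ← mul_assoc, hw', hu]
      exact h1 h3
  · refine le_iSup₂_of_le [b] ⟨?_, ?_⟩ (by simp)
    · rw [RingTheory.Sequence.isWeaklyRegular_cons_iff]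
      exact ⟨hbreg, RingTheory.Sequence.IsWeaklyRegular.nil _ _⟩
    · intro r hr
      rw [List.mem_singleton] at hr
      rw [hr]; exact hbm

end depth

section transfer

variable {A : Type*} [CommRing A]

theorem transfer (P Q : Ideal A) [hP : P.IsPrime] [hQp : Q.IsPrime] (hQP : Q ≤ P)
    (b g : A) (hQ : Q = satColon P b g)
    (Rz : Type*) [CommRing Rz] [IsLocalRing Rz] [Algebra A Rz] [IsLocalization.AtPrime Rz Q] :
    algebraMap A Rz g ∉ Ideal.span {algebraMap A Rz b} ∧
      ∀ t ∈ IsLocalRing.maximalIdeal Rz, t * algebraMap A Rz g ∈ Ideal.span {algebraMap A Rz b} := by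
  have key : ∀ r : A, r ∈ satColon P b g → r ∈ Q := fun r hr => by rw [hQ]; exact hr
  constructor
  · intro hmem
    obtain ⟨t, ht⟩ := Ideal.mem_span_singleton'.mp hmem
    obtain ⟨t', s', rfl⟩ := IsLocalization.exists_mk'_eq Q.primeCompl t
    have e1 : algebraMap A Rz (t' * b) = algebraMap A Rz ((s' : A) * g) := by
      rw [map_mul, map_mul, ← ht, ← mul_assoc, IsLocalization.mk'_spec']
    obtain ⟨s'', hs''⟩ := (IsLocalization.eq_iff_exists Q.primeCompl Rz).mp e1
    have hmemQ : (s'' : A) * (s' : A) ∈ Q := by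
      apply key
      refine ⟨1, (Ideal.ne_top_iff_one P).mp hP.ne_top, ?_⟩
      rw [Ideal.mem_span_singleton']
      refine ⟨s'' * t', ?_⟩
      have e2 : (1 : A) * ((s'' : A) * (s' : A)) * g = (s'' : A) * ((s' : A) * g) := by ring
      rw [e2, ← hs'']
      ring
    rcases hQp.mem_or_mem hmemQ with h | h
    · exact s''.2 h
    · exact s'.2 h
  · intro t ht
    obtain ⟨t', s', rfl⟩ := IsLocalization.exists_mk'_eq Q.primeCompl t
    have e1 := IsLocalization.mk'_spec Rz t' s'
    have ht'Q : t' ∈ Q := by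
      rw [← IsLocalization.AtPrime.to_map_mem_maximal_iff Rz Q t', ← e1]
      exact Ideal.mul_mem_right _ _ ht
    have ht'S : t' ∈ satColon P b g := hQ ▸ ht'Q
    obtain ⟨s, hs, hsg⟩ := ht'S
    obtain ⟨w, hw⟩ := Ideal.mem_span_singleton'.mp hsg
    have hsQ : s ∉ Q := fun h => hs (hQP h)
    rw [Ideal.mem_span_singleton']
    refine ⟨IsLocalization.mk' Rz w ((⟨s, hsQ⟩ : Q.primeCompl) * s'), ?_⟩
    have hunit : IsUnit (algebraMap A Rz (((⟨s, hsQ⟩ : Q.primeCompl) * s' : Q.primeCompl) : A)) :=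
      IsLocalization.map_units Rz _
    apply hunit.mul_left_cancel
    have c1 : algebraMap A Rz (((⟨s, hsQ⟩ : Q.primeCompl) * s' : Q.primeCompl) : A) *
        (IsLocalization.mk' Rz w ((⟨s, hsQ⟩ : Q.primeCompl) * s') * algebraMap A Rz b) =
        algebraMap A Rz (w * b) := by
      rw [← mul_assoc, IsLocalization.mk'_spec', map_mul]
    have c2 : algebraMap A Rz (((⟨s, hsQ⟩ : Q.primeCompl) * s' : Q.primeCompl) : A) *
        (IsLocalization.mk' Rz t' s' * algebraMap A Rz g) = algebraMap A Rz (s * t' * g) := by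
      have e3 : (((⟨s, hsQ⟩ : Q.primeCompl) * s' : Q.primeCompl) : A) = s * (s' : A) := rfl
      rw [e3, map_mul, map_mul, map_mul]
      have e4 : algebraMap A Rz (s' : A) * IsLocalization.mk' Rz t' s' = algebraMap A Rz t' :=
        IsLocalization.mk'_spec' Rz t' s'
      rw [← e4]
      ring
    rw [c1, c2, hw]

end transfer

section scheme

variable {X : Scheme.{u}}

/-- **key lemma** (general form): if `a ∉ b O_x` with `b` a regular section over the affine open `U`,
there is a generization `z ∈ U` of `x` with `depth O_z = 1` and `a ∉ b O_z`. -/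
theorem exists_depth_one_generization [IsLocallyNoetherian X]
    {U : X.Opens} (hU : IsAffineOpen U) {x : X} (hxU : x ∈ U) (a b : Γ(X, U))
    (hb : b ∈ Mero.regSub X U)
    (hf : ¬ ∃ T : X.presheaf.stalk x,
      X.presheaf.germ U x hxU a = X.presheaf.germ U x hxU b * T) :
    ∃ (z : X) (hz : z ∈ U), z ⤳ x ∧
      LocCoh.depth (X.presheaf.stalk z) (X.presheaf.stalk z) = 1 ∧
      ¬ ∃ T : X.presheaf.stalk z,
        X.presheaf.germ U z hz a = X.presheaf.germ U z hz b * T := by
  haveI : IsNoetherianRing Γ(X, U) := IsLocallyNoetherian.component_noetherian ⟨U, hU⟩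
  letI ax : Algebra Γ(X, U) (X.presheaf.stalk x) :=
    TopCat.Presheaf.algebra_section_stalk X.presheaf ⟨x, hxU⟩
  haveI lx : IsLocalization.AtPrime (X.presheaf.stalk x) (hU.primeIdealOf ⟨x, hxU⟩).asIdeal :=
    hU.isLocalization_stalk ⟨x, hxU⟩
  have hPtop : satColon (hU.primeIdealOf ⟨x, hxU⟩).asIdeal b a ≠ ⊤ := by
    intro htop
    have h1 : (1 : Γ(X, U)) ∈ satColon (hU.primeIdealOf ⟨x, hxU⟩).asIdeal b a := by
      rw [htop]; trivial
    obtain ⟨s, hs, hs1⟩ := h1
    obtain ⟨w, hw⟩ := Ideal.mem_span_singleton'.mp hs1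
    apply hf
    have hunit : IsUnit (X.presheaf.germ U x hxU s) :=
      IsLocalization.map_units (X.presheaf.stalk x)
        (⟨s, hs⟩ : (hU.primeIdealOf ⟨x, hxU⟩).asIdeal.primeCompl)
    obtain ⟨σ, hσ⟩ := hunit
    refine ⟨X.presheaf.germ U x hxU w * ((σ⁻¹ : (X.presheaf.stalk x)ˣ) : X.presheaf.stalk x), ?_⟩
    have hg : X.presheaf.germ U x hxU w * X.presheaf.germ U x hxU b =
        (σ : X.presheaf.stalk x) * X.presheaf.germ U x hxU a := by
      rw [← map_mul, hw, mul_one, map_mul, ← hσ]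
    calc X.presheaf.germ U x hxU a
        = ((σ⁻¹ : (X.presheaf.stalk x)ˣ) : X.presheaf.stalk x) *
            ((σ : X.presheaf.stalk x) * X.presheaf.germ U x hxU a) := by
          rw [← mul_assoc, Units.inv_mul, one_mul]
      _ = _ := by rw [← hg]; ring
  obtain ⟨c, hc⟩ := exists_prime_satColon (hU.primeIdealOf ⟨x, hxU⟩).asIdeal a b hPtop
  let y : PrimeSpectrum Γ(X, U) := ⟨satColon (hU.primeIdealOf ⟨x, hxU⟩).asIdeal b (c * a), hc⟩
  have hQP : y.asIdeal ≤ (hU.primeIdealOf ⟨x, hxU⟩).asIdeal := satColon_le_of_ne_top hc.ne_top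
  have hz : hU.fromSpec y ∈ U := by
    have := hU.range_fromSpec
    rw [← SetLike.mem_coe, ← this]
    exact Set.mem_range_self y
  letI az : Algebra Γ(X, U) (X.presheaf.stalk (hU.fromSpec y)) :=
    TopCat.Presheaf.algebra_section_stalk X.presheaf ⟨hU.fromSpec y, hz⟩
  haveI lz : IsLocalization.AtPrime (X.presheaf.stalk (hU.fromSpec y)) y.asIdeal :=
    hU.isLocalization_stalk' y hz
  obtain ⟨t1, t2⟩ := transfer (hU.primeIdealOf ⟨x, hxU⟩).asIdeal y.asIdeal hQP b (c * a) rfl
    (X.presheaf.stalk (hU.fromSpec y))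
  refine ⟨hU.fromSpec y, hz, ?_, ?_, ?_⟩
  · have h1 : y ⤳ hU.primeIdealOf ⟨x, hxU⟩ :=
      (PrimeSpectrum.le_iff_specializes y (hU.primeIdealOf ⟨x, hxU⟩)).mp hQP
    have h2 := h1.map hU.fromSpec.continuous
    rwa [hU.fromSpec_primeIdealOf ⟨x, hxU⟩] at h2
  · exact depth_eq_one_of_colon (hb ⟨hU.fromSpec y, hz⟩) t1 t2
  · rintro ⟨T, hT⟩
    apply t1
    rw [Ideal.mem_span_singleton']
    refine ⟨X.presheaf.germ U _ hz c * T, ?_⟩
    show X.presheaf.germ U _ hz c * T * X.presheaf.germ U _ hz b = X.presheaf.germ U _ hz (c * a)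
    rw [map_mul, hT]; ring

end scheme

end Groth.Agent.Lib.Helper48.DepthOneGen
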