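/-
helper48: gluing lemmas for the prelude's sheaf of meromorphic functions `Mero.kmod X`.
* `toK_injective`, `toK_res`
* `mk_mem_range_iff`
* `exists_local_lift`, `exists_toK_eq` : a section of `K_X` all of whose values lie in the local rings
  comes from a unique section of the structure sheaf.
* `invReg`, `toK_mul_invReg` : the inverse `1/b` of a regular section.
-/
import Mathlib
import Groth.Prelude.Def_MeroDiv

set_option autoImplicit false
universe u

open AlgebraicGeometry CategoryTheory TopologicalSpace Opposite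

namespace Groth.Agent.Lib.Helper48.MeroGlue

variable {X : Scheme.{u}}

theorem algebraMap_eq_mk (x : X) (r : X.presheaf.stalk x) :
    algebraMap (X.presheaf.stalk x) (Mero.KStalk X x) r = LocalizedModule.mk r 1 := rfl

theorem mk_mem_range_iff (x : X) (A : X.presheaf.stalk x) (B : Mero.regStalk X x) :
    (LocalizedModule.mk A B : Mero.KStalk X x) ∈
        (algebraMap (X.presheaf.stalk x) (Mero.KStalk X x)).range ↔
      ∃ T : X.presheaf.stalk x, A = (B : X.presheaf.stalk x) * T := by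
  constructor
  · rintro ⟨T, hT⟩
    refine ⟨T, ?_⟩
    rw [algebraMap_eq_mk] at hT
    obtain ⟨u, hu⟩ := LocalizedModule.mk_eq.mp hT
    simp only [Submonoid.smul_def, smul_eq_mul, Submonoid.coe_one, one_mul] at hu
    exact ((mul_cancel_left_mem_nonZeroDivisors
      (Mero.regStalk_le_nonZeroDivisors x u.2)).mp hu).symm
  · rintro ⟨T, hT⟩
    refine ⟨T, ?_⟩
    rw [algebraMap_eq_mk, LocalizedModule.mk_eq]
    refine ⟨1, ?_⟩
    simp only [Submonoid.smul_def, smul_eq_mul, Submonoid.coe_one, one_mul]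
    exact hT.symm

theorem toK_injective (V : X.Opens) : Function.Injective (Mero.toK X V) := by
  intro r r' h
  have hloc : ∀ (z : X) (hz : z ∈ V), X.presheaf.germ V z hz r = X.presheaf.germ V z hz r' := by
    intro z hz
    apply Mero.algebraMap_KStalk_injective z
    exact congrArg (fun w : Γ(Mero.kmod X, V) => w.1 ⟨z, hz⟩) h
  exact TopCat.Presheaf.section_ext X.sheaf V r r' hloc

theorem toK_res {U V : X.Opens} (i : V ⟶ U) (r : Γ(X, U)) :
    (Mero.kmod X).presheaf.map i.op (Mero.toK X U r) = Mero.toK X V (X.presheaf.map i.op r) := by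
  apply Subtype.ext
  funext z
  exact Mero.mk_congr (TopCat.Presheaf.germ_res_apply X.presheaf i z.1 z.2 r).symm rfl

theorem exists_local_lift {V : X.Opens} (w : Γ(Mero.kmod X, V)) (y : V)
    (hy : w.1 y ∈ (algebraMap (X.presheaf.stalk y.1) (Mero.KStalk X y.1)).range) :
    ∃ (W : X.Opens) (_ : y.1 ∈ W) (hWV : W ≤ V) (r : Γ(X, W)),
      ∀ (z : X) (hz : z ∈ W),
        w.1 ⟨z, hWV hz⟩ = LocalizedModule.mk (X.presheaf.germ W z hz r) 1 := by
  obtain ⟨W, mW, i, a, b, hw⟩ := w.2 y
  have hwW : ∀ (z : X) (hz : z ∈ W), w.1 ⟨z, i.le hz⟩ =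
      LocalizedModule.mk (X.presheaf.germ W z hz a) (Mero.regGerm ⟨z, hz⟩ b) :=
    fun z hz => hw ⟨z, hz⟩
  have hy' : w.1 ⟨y.1, i.le mW⟩ ∈
      (algebraMap (X.presheaf.stalk y.1) (Mero.KStalk X y.1)).range := hy
  rw [hwW y.1 mW, mk_mem_range_iff] at hy'
  obtain ⟨T, hT⟩ := hy'
  obtain ⟨W', hW'W, mW', t', ht'⟩ := X.presheaf.exists_le_germ_eq T mW
  have heq : X.presheaf.germ W' y.1 mW' (X.presheaf.map (homOfLE hW'W).op a) =
      X.presheaf.germ W' y.1 mW' (X.presheaf.map (homOfLE hW'W).op b.1 * t') := by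
    rw [map_mul, TopCat.Presheaf.germ_res_apply, TopCat.Presheaf.germ_res_apply, ht']
    exact hT
  obtain ⟨W'', mW'', i1, i2, e⟩ := X.presheaf.germ_eq y.1 mW' mW' _ _ heq
  refine ⟨W'', mW'', (i1.le.trans hW'W).trans i.le, X.presheaf.map i1.op t', ?_⟩
  intro z hz
  have hzW' : z ∈ W' := i1.le hz
  have hzW : z ∈ W := hW'W hzW'
  refine (hwW z hzW).trans ?_
  rw [LocalizedModule.mk_eq]
  refine ⟨1, ?_⟩
  have e' := congrArg (X.presheaf.germ W'' z hz) e
  simp only [map_mul, TopCat.Presheaf.germ_res_apply] at e'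
  simp only [Submonoid.smul_def, smul_eq_mul, one_mul, Submonoid.coe_one,
    TopCat.Presheaf.germ_res_apply]
  exact e'

/-- A section of `K_X` over `V` all of whose values lie in the local rings is `r/1` for a section `r`
of the structure sheaf. -/
theorem exists_toK_eq (V : X.Opens) (w : Γ(Mero.kmod X, V))
    (h : ∀ y : V, w.1 y ∈ (algebraMap (X.presheaf.stalk y.1) (Mero.KStalk X y.1)).range) :
    ∃ r : Γ(X, V), Mero.toK X V r = w := by
  choose W hyW hWV r hr using fun y : V => exists_local_lift w y (h y)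
  have hcompat : TopCat.Presheaf.IsCompatible X.sheaf.1 W r := by
    intro y y'
    have hloc : ∀ (z : X) (hz : z ∈ W y ⊓ W y'),
        X.presheaf.germ (W y ⊓ W y') z hz
          (X.presheaf.map (Opens.infLELeft (W y) (W y')).op (r y)) =
        X.presheaf.germ (W y ⊓ W y') z hz
          (X.presheaf.map (Opens.infLERight (W y) (W y')).op (r y')) := by
      intro z hz
      rw [TopCat.Presheaf.germ_res_apply, TopCat.Presheaf.germ_res_apply]
      apply Mero.algebraMap_KStalk_injective z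
      show (LocalizedModule.mk (X.presheaf.germ (W y) z hz.1 (r y)) 1 : Mero.KStalk X z) =
        LocalizedModule.mk (X.presheaf.germ (W y') z hz.2 (r y')) 1
      rw [← hr y z hz.1, ← hr y' z hz.2]
    exact TopCat.Presheaf.section_ext X.sheaf _ _ _ hloc
  have hle : V ≤ iSup W := fun z hz => Opens.mem_iSup.mpr ⟨⟨z, hz⟩, hyW ⟨z, hz⟩⟩
  obtain ⟨g, hg, -⟩ := X.sheaf.existsUnique_gluing' W V (fun y => homOfLE (hWV y)) hle r hcompat
  refine ⟨g, ?_⟩
  apply Subtype.ext
  funext z
  show (LocalizedModule.mk (X.presheaf.germ V z.1 z.2 g) 1 : Mero.KStalk X z.1) = w.1 z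
  have h1 : X.presheaf.germ V z.1 z.2 g = X.presheaf.germ (W z) z.1 (hyW z) (r z) := by
    rw [← hg z]
    exact (X.presheaf.germ_res_apply (homOfLE (hWV z)) z.1 (hyW z) g).symm
  rw [h1]
  exact (hr z z.1 (hyW z)).symm

/-- The inverse `1/b` of a regular section `b`, a section of `K_X`. -/
noncomputable def invReg (U : X.Opens) (b : Mero.regSub X U) : Γ(Mero.kmod X, U) :=
  ⟨fun y => LocalizedModule.mk 1 (Mero.regGerm y b),
    fun x => ⟨U, x.2, 𝟙 _, 1, b, fun y => Mero.mk_congr (by rw [map_one]) rfl⟩⟩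

theorem toK_mul_invReg (U : X.Opens) (b : Mero.regSub X U) :
    Mero.toK X U b.1 * invReg U b = 1 := by
  apply Subtype.ext
  funext y
  show (LocalizedModule.mk (X.presheaf.germ U y.1 y.2 b.1) 1 : Mero.KStalk X y.1) *
      LocalizedModule.mk 1 (Mero.regGerm y b) = 1
  refine LocalizedModule.mk_mul_mk.trans ?_
  refine (Mero.mk_congr (mul_one _) ?_).trans (Mero.mk_self_eq_one (Mero.regGerm y b))
  show ((1 * Mero.regGerm y b : Mero.regStalk X y.1) : X.presheaf.stalk y.1) = _
  rw [one_mul]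

theorem isUnit_toK_of_regSub (U : X.Opens) (b : Γ(X, U)) (hb : b ∈ Mero.regSub X U) :
    IsUnit (Mero.toK X U b) :=
  IsUnit.of_mul_eq_one _ (toK_mul_invReg U ⟨b, hb⟩)

end Groth.Agent.Lib.Helper48.MeroGlue
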