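import Mathlib
import Groth.Prelude.Def_CAlg
import Groth.Prelude.Def_MeroDiv
import Groth.Agent.Lib.Helper48.MeroGlue
import Groth.Agent.Lib.Helper48.DepthOneGen

/-!
# Divisors (localized-stalk model, arbitrary locally Noetherian schemes) are controlled by the
points of depth one
-/

set_option autoImplicit false
universe u

open CategoryTheory AlgebraicGeometry TopologicalSpace

namespace Groth.Agent.Lib.Helper48.DivDepth

open Groth.Agent.Lib.Helper48 Groth.Agent.Lib.Helper48.DepthOneGen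

variable {X : Scheme.{u}}

section Local

variable {z : X} (A B : Mero.regStalk X z) (F : (Mero.KStalk X z)ˣ)

theorem inv_val
    (hF : (F : Mero.KStalk X z) = LocalizedModule.mk (A : X.presheaf.stalk z) B) :
    ((F⁻¹ : (Mero.KStalk X z)ˣ) : Mero.KStalk X z) =
      LocalizedModule.mk (B : X.presheaf.stalk z) A := by
  apply Units.inv_eq_of_mul_eq_one_right
  rw [hF]
  refine LocalizedModule.mk_mul_mk.trans ?_
  exact (Mero.mk_congr (mul_comm _ _) rfl).trans (Mero.mk_self_eq_one (B * A))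

theorem dvd_of_eq_one
    (hF : (F : Mero.KStalk X z) = LocalizedModule.mk (A : X.presheaf.stalk z) B)
    (h : (QuotientGroup.mk F : Mero.Germ X z) = 1) :
    (∃ T : X.presheaf.stalk z, (A : X.presheaf.stalk z) = B * T) ∧
      ∃ T : X.presheaf.stalk z, (B : X.presheaf.stalk z) = A * T := by
  have hmem : F ∈ Mero.stalkUnits X z := (QuotientGroup.eq_one_iff F).mp h
  have hmem' : F⁻¹ ∈ Mero.stalkUnits X z := (Mero.stalkUnits X z).inv_mem hmem
  obtain ⟨u, hu⟩ := hmem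
  obtain ⟨v, hv⟩ := hmem'
  have hu' : algebraMap (X.presheaf.stalk z) (Mero.KStalk X z) (u : X.presheaf.stalk z) =
      (F : Mero.KStalk X z) := congrArg Units.val hu
  have hv' : algebraMap (X.presheaf.stalk z) (Mero.KStalk X z) (v : X.presheaf.stalk z) =
      ((F⁻¹ : (Mero.KStalk X z)ˣ) : Mero.KStalk X z) := congrArg Units.val hv
  constructor
  · apply (MeroGlue.mk_mem_range_iff z (A : X.presheaf.stalk z) B).mp
    rw [← hF]; exact ⟨u, hu'⟩
  · apply (MeroGlue.mk_mem_range_iff z (B : X.presheaf.stalk z) A).mp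
    rw [← inv_val A B F hF]; exact ⟨v, hv'⟩

theorem eq_one_of_dvd
    (hF : (F : Mero.KStalk X z) = LocalizedModule.mk (A : X.presheaf.stalk z) B)
    (h1 : ∃ T : X.presheaf.stalk z, (A : X.presheaf.stalk z) = B * T)
    (h2 : ∃ T : X.presheaf.stalk z, (B : X.presheaf.stalk z) = A * T) :
    (QuotientGroup.mk F : Mero.Germ X z) = 1 := by
  obtain ⟨T, hT⟩ := h1
  obtain ⟨T', hT'⟩ := h2
  have hBnz := Mero.regStalk_le_nonZeroDivisors z B.2
  have hTT' : T * T' = 1 := by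
    have e : (B : X.presheaf.stalk z) * (T * T') = B * 1 := by
      rw [← mul_assoc, ← hT, ← hT', mul_one]
    exact (mul_cancel_left_mem_nonZeroDivisors hBnz).mp e
  rw [QuotientGroup.eq_one_iff]
  refine ⟨⟨T, T', hTT', (mul_comm T' T).trans hTT'⟩, ?_⟩
  apply Units.ext
  show algebraMap (X.presheaf.stalk z) (Mero.KStalk X z) T = (F : Mero.KStalk X z)
  rw [hF, MeroGlue.algebraMap_eq_mk, LocalizedModule.mk_eq]
  refine ⟨1, ?_⟩
  simp only [Submonoid.smul_def, smul_eq_mul, Submonoid.coe_one, one_mul]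
  exact hT.symm

theorem dvd_of_effective
    (hF : (F : Mero.KStalk X z) = LocalizedModule.mk (A : X.presheaf.stalk z) B)
    (e : Mero.regStalk X z)
    (h : (QuotientGroup.mk F : Mero.Germ X z) =
      QuotientGroup.mk (IsLocalization.map_units (Mero.KStalk X z) e).unit) :
    ∃ T : X.presheaf.stalk z, (A : X.presheaf.stalk z) = B * T := by
  rw [QuotientGroup.eq] at h
  obtain ⟨u, hu⟩ := h
  have hu' : algebraMap (X.presheaf.stalk z) (Mero.KStalk X z) (u : X.presheaf.stalk z) =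
      ((F⁻¹ : (Mero.KStalk X z)ˣ) : Mero.KStalk X z) *
        algebraMap (X.presheaf.stalk z) (Mero.KStalk X z) (e : X.presheaf.stalk z) :=
    congrArg Units.val hu
  apply (MeroGlue.mk_mem_range_iff z (A : X.presheaf.stalk z) B).mp
  rw [← hF]
  refine ⟨(e : X.presheaf.stalk z) * ((u⁻¹ : (X.presheaf.stalk z)ˣ) : X.presheaf.stalk z), ?_⟩
  have h3 : algebraMap (X.presheaf.stalk z) (Mero.KStalk X z) (u : X.presheaf.stalk z) *
      algebraMap (X.presheaf.stalk z) (Mero.KStalk X z)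
        ((u⁻¹ : (X.presheaf.stalk z)ˣ) : X.presheaf.stalk z) = 1 := by
    rw [← map_mul, Units.mul_inv, map_one]
  have h4 : (F : Mero.KStalk X z) *
      algebraMap (X.presheaf.stalk z) (Mero.KStalk X z) (u : X.presheaf.stalk z) =
      algebraMap (X.presheaf.stalk z) (Mero.KStalk X z) (e : X.presheaf.stalk z) := by
    rw [hu', ← mul_assoc, Units.mul_inv, one_mul]
  rw [map_mul, ← h4, mul_assoc, h3, mul_one]

theorem effective_of_dvd
    (hF : (F : Mero.KStalk X z) = LocalizedModule.mk (A : X.presheaf.stalk z) B)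
    (h1 : ∃ T : X.presheaf.stalk z, (A : X.presheaf.stalk z) = B * T) :
    ∃ e : Mero.regStalk X z, (QuotientGroup.mk F : Mero.Germ X z) =
      QuotientGroup.mk (IsLocalization.map_units (Mero.KStalk X z) e).unit := by
  obtain ⟨T, hT⟩ := h1
  have hTreg : T ∈ Mero.regStalk X z := by
    obtain ⟨U1, hz1, f1, hf1, hA⟩ := A.2
    obtain ⟨U2, hz2, f2, hf2, hB⟩ := B.2
    obtain ⟨U3, hz3, τ, hτ⟩ := TopCat.Presheaf.exists_germ_eq X.presheaf T
    have hzW0 : z ∈ U1 ⊓ U2 ⊓ U3 := ⟨⟨hz1, hz2⟩, hz3⟩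
    let i1 : U1 ⊓ U2 ⊓ U3 ⟶ U1 := homOfLE (inf_le_left.trans inf_le_left)
    let i2 : U1 ⊓ U2 ⊓ U3 ⟶ U2 := homOfLE (inf_le_left.trans inf_le_right)
    let i3 : U1 ⊓ U2 ⊓ U3 ⟶ U3 := homOfLE inf_le_right
    have heq : X.presheaf.germ (U1 ⊓ U2 ⊓ U3) z hzW0 (X.presheaf.map i1.op f1) =
        X.presheaf.germ (U1 ⊓ U2 ⊓ U3) z hzW0
          (X.presheaf.map i2.op f2 * X.presheaf.map i3.op τ) := by
      rw [map_mul, TopCat.Presheaf.germ_res_apply, TopCat.Presheaf.germ_res_apply,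
        TopCat.Presheaf.germ_res_apply, hA, hB, hτ]
      exact hT
    obtain ⟨W, hzW, j1, j2, e⟩ := X.presheaf.germ_eq z hzW0 hzW0 _ _ heq
    refine ⟨W, hzW, X.presheaf.map j2.op (X.presheaf.map i3.op τ), ?_, ?_⟩
    · intro y
      show X.presheaf.germ W y.1 y.2 (X.presheaf.map j2.op (X.presheaf.map i3.op τ)) ∈
        nonZeroDivisors (X.presheaf.stalk y.1)
      have e_y := congrArg (X.presheaf.germ W y.1 y.2) e
      have hA_y : X.presheaf.germ W y.1 y.2
          (X.presheaf.map j2.op (X.presheaf.map i2.op f2 * X.presheaf.map i3.op τ)) ∈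
          nonZeroDivisors (X.presheaf.stalk y.1) := by
        rw [← e_y, TopCat.Presheaf.germ_res_apply, TopCat.Presheaf.germ_res_apply]
        exact hf1 ⟨y.1, i1.le (j1.le y.2)⟩
      rw [map_mul, map_mul] at hA_y
      exact (mul_mem_nonZeroDivisors.mp hA_y).2
    · rw [TopCat.Presheaf.germ_res_apply, TopCat.Presheaf.germ_res_apply]
      exact hτ
  refine ⟨⟨T, hTreg⟩, ?_⟩
  congr 1
  apply Units.ext
  show (F : Mero.KStalk X z) = algebraMap (X.presheaf.stalk z) (Mero.KStalk X z) T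
  rw [hF, MeroGlue.algebraMap_eq_mk, LocalizedModule.mk_eq]
  refine ⟨1, ?_⟩
  simp only [Submonoid.smul_def, smul_eq_mul, Submonoid.coe_one, one_mul]
  exact hT

end Local

/-- local representation of a divisor as `a/b` with `a, b` regular sections over an affine open -/
theorem exists_rep (D : Mero.Divisor X) (x : X) :
    ∃ (U : X.Opens) (_ : IsAffineOpen U) (_ : x ∈ U) (a b : Mero.regSub X U),
      ∀ (z : X) (hz : z ∈ U), ∃ F : (Mero.KStalk X z)ˣ, D.1 z = QuotientGroup.mk F ∧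
        (F : Mero.KStalk X z) =
          LocalizedModule.mk (X.presheaf.germ U z hz a.1) (Mero.regGerm ⟨z, hz⟩ b) := by
  obtain ⟨U', hxU', f, hf⟩ := D.2 x
  obtain ⟨W, mW, i, a, b, hw⟩ := (f : Γ(Mero.kmod X, U')).2 ⟨x, hxU'⟩
  obtain ⟨W', mW', i', c, d, hw'⟩ :=
    ((f⁻¹ : (Γ(Mero.kmod X, U'))ˣ) : Γ(Mero.kmod X, U')).2 ⟨x, hxU'⟩
  obtain ⟨U, hUaff, hxU, hUle⟩ := Opens.isBasis_iff_nbhd.1 X.isBasis_affineOpens
    (show x ∈ W ⊓ W' from ⟨mW, mW'⟩)
  have hUW : U ≤ W := hUle.trans inf_le_left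
  have hUW' : U ≤ W' := hUle.trans inf_le_right
  have hval : ∀ (z : X) (hz : z ∈ U), (f : Γ(Mero.kmod X, U')).1 ⟨z, i.le (hUW hz)⟩ =
      LocalizedModule.mk (X.presheaf.germ W z (hUW hz) a) (Mero.regGerm ⟨z, hUW hz⟩ b) :=
    fun z hz => hw ⟨z, hUW hz⟩
  have hval' : ∀ (z : X) (hz : z ∈ U),
      ((f⁻¹ : (Γ(Mero.kmod X, U'))ˣ) : Γ(Mero.kmod X, U')).1 ⟨z, i.le (hUW hz)⟩ =
      LocalizedModule.mk (X.presheaf.germ W' z (hUW' hz) c) (Mero.regGerm ⟨z, hUW' hz⟩ d) :=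
    fun z hz => hw' ⟨z, hUW' hz⟩
  have ha : X.presheaf.map (homOfLE hUW).op a ∈ Mero.regSub X U := by
    intro y
    show X.presheaf.germ U y.1 y.2 (X.presheaf.map (homOfLE hUW).op a) ∈
      nonZeroDivisors (X.presheaf.stalk y.1)
    rw [TopCat.Presheaf.germ_res_apply]
    have h1 : (f : Γ(Mero.kmod X, U')).1 ⟨y.1, i.le (hUW y.2)⟩ *
        ((f⁻¹ : (Γ(Mero.kmod X, U'))ˣ) : Γ(Mero.kmod X, U')).1 ⟨y.1, i.le (hUW y.2)⟩ = 1 :=
      congrArg (fun w : Γ(Mero.kmod X, U') => w.1 ⟨y.1, i.le (hUW y.2)⟩) (Units.mul_inv f)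
    rw [hval y.1 y.2, hval' y.1 y.2] at h1
    have h2 := (LocalizedModule.mk_mul_mk.symm.trans h1).trans
      (Mero.mk_self_eq_one (1 : Mero.regStalk X y.1)).symm
    obtain ⟨s, hs⟩ := LocalizedModule.mk_eq.mp h2
    simp only [Submonoid.smul_def, smul_eq_mul, Submonoid.coe_one, one_mul, mul_one,
      Submonoid.coe_mul] at hs
    have h3 := (mul_cancel_left_mem_nonZeroDivisors
      (Mero.regStalk_le_nonZeroDivisors y.1 s.2)).mp hs
    have h4 : X.presheaf.germ W y.1 (hUW y.2) a * X.presheaf.germ W' y.1 (hUW' y.2) c ∈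
        nonZeroDivisors (X.presheaf.stalk y.1) := by
      rw [h3]
      exact mul_mem (b.2 ⟨y.1, hUW y.2⟩) (d.2 ⟨y.1, hUW' y.2⟩)
    exact (mul_mem_nonZeroDivisors.mp h4).1
  refine ⟨U, hUaff, hxU, ⟨X.presheaf.map (homOfLE hUW).op a, ha⟩,
    ⟨X.presheaf.map (homOfLE hUW).op b.1, Mero.regSub_res _ b.2⟩, fun z hz => ?_⟩
  refine ⟨Units.map (Mero.evalK X U' ⟨z, i.le (hUW hz)⟩).toMonoidHom f,
    hf ⟨z, i.le (hUW hz)⟩, ?_⟩
  refine (hval z hz).trans (Mero.mk_congr ?_ ?_)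
  · exact (TopCat.Presheaf.germ_res_apply X.presheaf (homOfLE hUW) z hz a).symm
  · exact (TopCat.Presheaf.germ_res_apply X.presheaf (homOfLE hUW) z hz b.1).symm

/-- general form of "effective at the depth-one points ⟹ effective" -/
theorem isEffective_of_depth_one [IsLocallyNoetherian X] (D : Mero.Divisor X)
    (h : ∀ x : X, LocCoh.depth (X.presheaf.stalk x) (X.presheaf.stalk x) = 1 →
      Mero.IsEffectiveAt D x) : Mero.IsEffective D := by
  intro x
  obtain ⟨U, hU, hxU, a, b, hrep⟩ := exists_rep D x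
  obtain ⟨F, hDF, hF⟩ := hrep x hxU
  by_cases hdiv : ∃ T : X.presheaf.stalk x,
      X.presheaf.germ U x hxU a.1 = X.presheaf.germ U x hxU b.1 * T
  · obtain ⟨e, he⟩ := effective_of_dvd (Mero.regGerm ⟨x, hxU⟩ a) (Mero.regGerm ⟨x, hxU⟩ b)
      F hF hdiv
    exact ⟨e, hDF.trans he⟩
  · exfalso
    obtain ⟨z, hz, -, hdepth, hndiv⟩ :=
      exists_depth_one_generization hU hxU a.1 b.1 b.2 hdiv
    obtain ⟨F', hDF', hF'⟩ := hrep z hz
    obtain ⟨e, he⟩ := h z hdepth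
    exact hndiv (dvd_of_effective (Mero.regGerm ⟨z, hz⟩ a) (Mero.regGerm ⟨z, hz⟩ b) F' hF' e
      (hDF'.symm.trans he))

/-- the germ at `x` is trivial as soon as the germs at all depth-one generizations of `x` are -/
theorem germ_eq_one_of_depth_one [IsLocallyNoetherian X] (D : Mero.Divisor X) (x : X)
    (h : ∀ z : X, z ⤳ x → LocCoh.depth (X.presheaf.stalk z) (X.presheaf.stalk z) = 1 →
      D.1 z = 1) : D.1 x = 1 := by
  obtain ⟨U, hU, hxU, a, b, hrep⟩ := exists_rep D x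
  obtain ⟨F, hDF, hF⟩ := hrep x hxU
  by_contra hne
  have hcase : (¬ ∃ T : X.presheaf.stalk x,
        X.presheaf.germ U x hxU a.1 = X.presheaf.germ U x hxU b.1 * T) ∨
      (¬ ∃ T : X.presheaf.stalk x,
        X.presheaf.germ U x hxU b.1 = X.presheaf.germ U x hxU a.1 * T) := by
    by_contra hcon
    rw [not_or, not_not, not_not] at hcon
    exact hne (hDF.trans (eq_one_of_dvd (Mero.regGerm ⟨x, hxU⟩ a) (Mero.regGerm ⟨x, hxU⟩ b)
      F hF hcon.1 hcon.2))
  rcases hcase with hdiv | hdiv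
  · obtain ⟨z, hz, hzx, hdepth, hndiv⟩ :=
      exists_depth_one_generization hU hxU a.1 b.1 b.2 hdiv
    obtain ⟨F', hDF', hF'⟩ := hrep z hz
    have h1 : (QuotientGroup.mk F' : Mero.Germ X z) = 1 := hDF'.symm.trans (h z hzx hdepth)
    exact hndiv (dvd_of_eq_one (Mero.regGerm ⟨z, hz⟩ a) (Mero.regGerm ⟨z, hz⟩ b) F' hF' h1).1
  · obtain ⟨z, hz, hzx, hdepth, hndiv⟩ :=
      exists_depth_one_generization hU hxU b.1 a.1 a.2 hdiv
    obtain ⟨F', hDF', hF'⟩ := hrep z hz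
    have h1 : (QuotientGroup.mk F' : Mero.Germ X z) = 1 := hDF'.symm.trans (h z hzx hdepth)
    exact hndiv (dvd_of_eq_one (Mero.regGerm ⟨z, hz⟩ a) (Mero.regGerm ⟨z, hz⟩ b) F' hF' h1).2

theorem eq_one_of_depth_one [IsLocallyNoetherian X] (D : Mero.Divisor X)
    (h : ∀ x : X, LocCoh.depth (X.presheaf.stalk x) (X.presheaf.stalk x) = 1 → D.1 x = 1) :
    D = 1 :=
  Subtype.ext (funext fun x => germ_eq_one_of_depth_one D x fun z _ hd => h z hd)

theorem depth_eq_one_of_maximal [IsLocallyNoetherian X] (D : Mero.Divisor X) (x : X)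
    (hx : x ∈ Mero.supp D) (hmax : ∀ z : X, z ∈ Mero.supp D → z ⤳ x → z = x) :
    LocCoh.depth (X.presheaf.stalk x) (X.presheaf.stalk x) = 1 := by
  by_contra hd
  apply hx
  apply germ_eq_one_of_depth_one D x
  intro z hzx hdz
  by_contra hz1
  have hzx' : z = x := hmax z hz1 hzx
  rw [hzx'] at hdz
  exact hd hdz

end Groth.Agent.Lib.Helper48.DivDepth
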