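import Mathlib
import Groth.Prelude.Def_MeroDiv
import Groth.Agent.Lib.Helper48.MeroGlue
import Groth.Agent.Lib.Helper48.DivDepth

/-!
# Divisors on absolute curves are the finitely supported families of germs at closed points
-/

set_option autoImplicit false
universe u

open CategoryTheory AlgebraicGeometry TopologicalSpace

namespace Groth.Agent.Lib.Helper48.CurveDiv

open Groth.Agent.Lib.Helper48 Groth.Agent.Lib.Helper48.DivDepth

variable {C : Scheme.{u}}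

theorem exists_closed_specialization [CompactSpace C] (z : C) :
    ∃ y : C, IsClosed ({y} : Set C) ∧ z ⤳ y := by
  obtain ⟨y, hy, hyc⟩ := (isClosed_closure (s := ({z} : Set C))).exists_closed_singleton
    ⟨z, subset_closure rfl⟩
  exact ⟨y, hyc, specializes_iff_mem_closure.mpr hy⟩

theorem krullDim_stalk_eq_zero [CompactSpace C]
    (hC : ∀ x : C, IsClosed ({x} : Set C) → ringKrullDim (C.presheaf.stalk x) = 1)
    (z : C) (hz : ¬ IsClosed ({z} : Set C)) : ringKrullDim (C.presheaf.stalk z) = 0 := by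
  obtain ⟨y, hyc, hzy⟩ := exists_closed_specialization z
  have hne : z ≠ y := fun h => hz (h ▸ hyc)
  have hlt : y < z := by
    refine lt_of_le_not_ge (Scheme.le_iff_specializes.mpr hzy) ?_
    intro hle
    exact IsClosed.not_specializes hyc rfl hne (Scheme.le_iff_specializes.mp hle)
  have h1 := Order.coheight_add_one_le hlt
  have hy1 : ((Order.coheight y : ℕ∞) : WithBot ℕ∞) = 1 := by
    rw [← ringKrullDim_stalk_eq_coheight]; exact hC y hyc
  have hy1' : Order.coheight y = 1 := by exact_mod_cast hy1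
  rw [hy1'] at h1
  have hz0 : Order.coheight z = 0 :=
    ENat.lt_one_iff_eq_zero.mp ((ENat.add_one_le_iff' ENat.one_ne_top).mp h1)
  rw [ringKrullDim_stalk_eq_coheight, hz0]; rfl

theorem isUnit_of_mem_nonZeroDivisors {R : Type*} [CommRing R] [IsLocalRing R]
    (hdim : ringKrullDim R = 0) {α : R} (hα : α ∈ nonZeroDivisors R) : IsUnit α := by
  haveI : Ring.KrullDimLE 0 R := Ring.krullDimLE_iff.mpr (le_of_eq hdim)
  by_contra hnu
  have hmem : α ∈ IsLocalRing.maximalIdeal R := (IsLocalRing.mem_maximalIdeal α).mpr hnu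
  obtain ⟨n, hn⟩ := Ring.KrullDimLE.isNilpotent_iff_mem_maximalIdeal.mpr hmem
  have h1 : α ^ n ∈ nonZeroDivisors R := pow_mem hα n
  rw [hn] at h1
  exact zero_notMem_nonZeroDivisors h1

theorem eq_one_of_isUnit {z : C} (A B : Mero.regStalk C z) (F : (Mero.KStalk C z)ˣ)
    (hF : (F : Mero.KStalk C z) = LocalizedModule.mk (A : C.presheaf.stalk z) B)
    (hA : IsUnit (A : C.presheaf.stalk z)) (hB : IsUnit (B : C.presheaf.stalk z)) :
    (QuotientGroup.mk F : Mero.Germ C z) = 1 := by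
  refine eq_one_of_dvd A B F hF ?_ ?_
  · obtain ⟨β, hβ⟩ := hB
    exact ⟨((β⁻¹ : (C.presheaf.stalk z)ˣ) : C.presheaf.stalk z) * A, by
      rw [← hβ, ← mul_assoc, Units.mul_inv, one_mul]⟩
  · obtain ⟨α, hα⟩ := hA
    exact ⟨((α⁻¹ : (C.presheaf.stalk z)ˣ) : C.presheaf.stalk z) * B, by
      rw [← hα, ← mul_assoc, Units.mul_inv, one_mul]⟩

/-- the non-unit locus of a regular section over an affine open of an absolute curve is finite -/
theorem finite_nonunit_locus [IsNoetherian C]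
    (hC : ∀ x : C, IsClosed ({x} : Set C) → ringKrullDim (C.presheaf.stalk x) = 1)
    {U : C.Opens} (hU : IsAffineOpen U) (a : Γ(C, U)) (ha : a ∈ Mero.regSub C U) :
    {z : C | ∃ hz : z ∈ U, ¬ IsUnit (C.presheaf.germ U z hz a)}.Finite := by
  haveI : IsNoetherianRing Γ(C, U) := IsLocallyNoetherian.component_noetherian ⟨U, hU⟩
  have hfin := Ideal.finite_minimalPrimes_of_isNoetherianRing Γ(C, U) (Ideal.span {a})
  have hclosed : ∀ (z : C) (hz : z ∈ U), ¬ IsUnit (C.presheaf.germ U z hz a) →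
      IsClosed ({z} : Set C) := by
    intro z hz hnu
    by_contra hncl
    exact hnu (isUnit_of_mem_nonZeroDivisors (krullDim_stalk_eq_zero hC z hncl) (ha ⟨z, hz⟩))
  have hunit_iff : ∀ (y : PrimeSpectrum Γ(C, U)) (hy : hU.fromSpec y ∈ U),
      IsUnit (C.presheaf.germ U (hU.fromSpec y) hy a) ↔ a ∉ y.asIdeal := by
    intro y hy
    letI az : Algebra Γ(C, U) (C.presheaf.stalk (hU.fromSpec y)) :=
      TopCat.Presheaf.algebra_section_stalk C.presheaf ⟨hU.fromSpec y, hy⟩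
    haveI lz : IsLocalization.AtPrime (C.presheaf.stalk (hU.fromSpec y)) y.asIdeal :=
      hU.isLocalization_stalk' y hy
    exact IsLocalization.AtPrime.isUnit_to_map_iff (C.presheaf.stalk (hU.fromSpec y)) y.asIdeal a
  have hmemU : ∀ y : PrimeSpectrum Γ(C, U), hU.fromSpec y ∈ U := by
    intro y
    have := hU.range_fromSpec
    rw [← SetLike.mem_coe, ← this]
    exact Set.mem_range_self y
  let φ : Ideal Γ(C, U) → Set C := fun P => {z | ∃ h : P.IsPrime, hU.fromSpec ⟨P, h⟩ = z}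
  refine Set.Finite.subset (hfin.biUnion (t := φ) fun P _ => ?_) ?_
  · apply Set.Subsingleton.finite
    rintro z ⟨h, rfl⟩ z' ⟨h', rfl⟩
    rfl
  · rintro z ⟨hz, hnu⟩
    obtain ⟨y, rfl⟩ : ∃ y, hU.fromSpec y = z :=
      ⟨hU.primeIdealOf ⟨z, hz⟩, hU.fromSpec_primeIdealOf ⟨z, hz⟩⟩
    have hay : a ∈ y.asIdeal := by
      by_contra hnot
      exact hnu ((hunit_iff y hz).mpr hnot)
    have hmin : y.asIdeal ∈ (Ideal.span {a}).minimalPrimes := by
      refine ⟨⟨y.isPrime, (Ideal.span_singleton_le_iff_mem _).mpr hay⟩, ?_⟩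
      rintro Q ⟨hQprime, hQa⟩ hQy
      have haQ : a ∈ Q := (Ideal.span_singleton_le_iff_mem _).mp hQa
      have hqnu : ¬ IsUnit (C.presheaf.germ U (hU.fromSpec ⟨Q, hQprime⟩) (hmemU ⟨Q, hQprime⟩) a) :=
        fun hu => ((hunit_iff ⟨Q, hQprime⟩ (hmemU ⟨Q, hQprime⟩)).mp hu) haQ
      have hqcl : IsClosed ({hU.fromSpec ⟨Q, hQprime⟩} : Set C) :=
        hclosed _ (hmemU ⟨Q, hQprime⟩) hqnu
      have hsp : (⟨Q, hQprime⟩ : PrimeSpectrum Γ(C, U)) ⤳ y :=
        (PrimeSpectrum.le_iff_specializes ⟨Q, hQprime⟩ y).mp hQy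
      have hsp' : hU.fromSpec ⟨Q, hQprime⟩ ⤳ hU.fromSpec y := hsp.map hU.fromSpec.continuous
      have heq : hU.fromSpec y = hU.fromSpec ⟨Q, hQprime⟩ := hsp'.mem_closed hqcl rfl
      have hqy : y = ⟨Q, hQprime⟩ := hU.fromSpec.isOpenEmbedding.injective heq
      rw [hqy]
    simp only [Set.mem_iUnion]
    exact ⟨y.asIdeal, hmin, y.isPrime, rfl⟩

theorem germ_eq_one_of_not_closed [IsNoetherian C]
    (hC : ∀ x : C, IsClosed ({x} : Set C) → ringKrullDim (C.presheaf.stalk x) = 1)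
    (D : Mero.Divisor C) (x : C) (hx : ¬ IsClosed ({x} : Set C)) : D.1 x = 1 := by
  obtain ⟨U, hU, hxU, a, b, hrep⟩ := exists_rep D x
  obtain ⟨F, hDF, hF⟩ := hrep x hxU
  have hdim := krullDim_stalk_eq_zero hC x hx
  exact hDF.trans (eq_one_of_isUnit (Mero.regGerm ⟨x, hxU⟩ a) (Mero.regGerm ⟨x, hxU⟩ b) F hF
    (isUnit_of_mem_nonZeroDivisors hdim (a.2 ⟨x, hxU⟩))
    (isUnit_of_mem_nonZeroDivisors hdim (b.2 ⟨x, hxU⟩)))

theorem finite_supp [IsNoetherian C]
    (hC : ∀ x : C, IsClosed ({x} : Set C) → ringKrullDim (C.presheaf.stalk x) = 1)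
    (D : Mero.Divisor C) : {x : C | D.1 x ≠ 1}.Finite := by
  choose U hU hxU a b hrep using fun x => exists_rep D x
  obtain ⟨t, ht⟩ := isCompact_univ.elim_finite_subcover (fun x => (U x : Set C))
    (fun x => (U x).isOpen) (fun x _ => Set.mem_iUnion.mpr ⟨x, hxU x⟩)
  refine Set.Finite.subset (t.finite_toSet.biUnion (t := fun x =>
    {z : C | ∃ hz : z ∈ U x, ¬ IsUnit (C.presheaf.germ (U x) z hz (a x).1)} ∪
    {z : C | ∃ hz : z ∈ U x, ¬ IsUnit (C.presheaf.germ (U x) z hz (b x).1)}) fun x _ =>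
    (finite_nonunit_locus hC (hU x) (a x).1 (a x).2).union
      (finite_nonunit_locus hC (hU x) (b x).1 (b x).2)) ?_
  intro z hz
  obtain ⟨x, hxt, hzx⟩ : ∃ x ∈ t, z ∈ U x := by
    have := ht (Set.mem_univ z)
    simpa using this
  simp only [Set.mem_iUnion]
  refine ⟨x, hxt, ?_⟩
  by_contra hnot
  apply hz
  obtain ⟨F, hDF, hF⟩ := hrep x z hzx
  have hau : IsUnit (C.presheaf.germ (U x) z hzx (a x).1) := by
    by_contra h; exact hnot (Or.inl ⟨hzx, h⟩)
  have hbu : IsUnit (C.presheaf.germ (U x) z hzx (b x).1) := by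
    by_contra h; exact hnot (Or.inr ⟨hzx, h⟩)
  exact hDF.trans (eq_one_of_isUnit (Mero.regGerm ⟨z, hzx⟩ (a x)) (Mero.regGerm ⟨z, hzx⟩ (b x))
    F hF hau hbu)

/-- a unit of `K_{C,x}` is `a/b` with `a, b` regular sections over an affine neighbourhood -/
theorem exists_rep_unit (x : C) (φ : (Mero.KStalk C x)ˣ) :
    ∃ (V : C.Opens) (_ : IsAffineOpen V) (hx : x ∈ V) (a b : Mero.regSub C V),
      (φ : Mero.KStalk C x) =
        LocalizedModule.mk (C.presheaf.germ V x hx a.1) (Mero.regGerm ⟨x, hx⟩ b) := by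
  obtain ⟨α, β, hφ⟩ : ∃ (α : C.presheaf.stalk x) (β : Mero.regStalk C x),
      (φ : Mero.KStalk C x) = LocalizedModule.mk α β :=
    LocalizedModule.induction_on (fun m s => ⟨m, s, rfl⟩) (φ : Mero.KStalk C x)
  obtain ⟨γ, δ, hψ⟩ : ∃ (γ : C.presheaf.stalk x) (δ : Mero.regStalk C x),
      ((φ⁻¹ : (Mero.KStalk C x)ˣ) : Mero.KStalk C x) = LocalizedModule.mk γ δ :=
    LocalizedModule.induction_on (fun m s => ⟨m, s, rfl⟩)
      ((φ⁻¹ : (Mero.KStalk C x)ˣ) : Mero.KStalk C x)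
  have h1 : (φ : Mero.KStalk C x) * ((φ⁻¹ : (Mero.KStalk C x)ˣ) : Mero.KStalk C x) = 1 :=
    Units.mul_inv φ
  rw [hφ, hψ] at h1
  have h2 := (LocalizedModule.mk_mul_mk.symm.trans h1).trans
    (Mero.mk_self_eq_one (1 : Mero.regStalk C x)).symm
  obtain ⟨s, hs⟩ := LocalizedModule.mk_eq.mp h2
  simp only [Submonoid.smul_def, smul_eq_mul, Submonoid.coe_one, one_mul, mul_one,
    Submonoid.coe_mul] at hs
  have h3 : α * γ = (β : C.presheaf.stalk x) * δ :=
    (mul_cancel_left_mem_nonZeroDivisors (Mero.regStalk_le_nonZeroDivisors x s.2)).mp hs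
  obtain ⟨V1, hx1, b0, hb0, hβ⟩ := β.2
  obtain ⟨V2, hx2, d0, hd0, hδ⟩ := δ.2
  obtain ⟨V3, hx3, a0, hα⟩ := TopCat.Presheaf.exists_germ_eq C.presheaf α
  obtain ⟨V4, hx4, c0, hγ⟩ := TopCat.Presheaf.exists_germ_eq C.presheaf γ
  have hxW0 : x ∈ V1 ⊓ V2 ⊓ V3 ⊓ V4 := ⟨⟨⟨hx1, hx2⟩, hx3⟩, hx4⟩
  let i1 : V1 ⊓ V2 ⊓ V3 ⊓ V4 ⟶ V1 := homOfLE ((inf_le_left.trans inf_le_left).trans inf_le_left)
  let i2 : V1 ⊓ V2 ⊓ V3 ⊓ V4 ⟶ V2 := homOfLE ((inf_le_left.trans inf_le_left).trans inf_le_right)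
  let i3 : V1 ⊓ V2 ⊓ V3 ⊓ V4 ⟶ V3 := homOfLE (inf_le_left.trans inf_le_right)
  let i4 : V1 ⊓ V2 ⊓ V3 ⊓ V4 ⟶ V4 := homOfLE inf_le_right
  have heq : C.presheaf.germ (V1 ⊓ V2 ⊓ V3 ⊓ V4) x hxW0
        (C.presheaf.map i3.op a0 * C.presheaf.map i4.op c0) =
      C.presheaf.germ (V1 ⊓ V2 ⊓ V3 ⊓ V4) x hxW0
        (C.presheaf.map i1.op b0 * C.presheaf.map i2.op d0) := by
    rw [map_mul, map_mul, TopCat.Presheaf.germ_res_apply, TopCat.Presheaf.germ_res_apply,
      TopCat.Presheaf.germ_res_apply, TopCat.Presheaf.germ_res_apply, hα, hγ, hβ, hδ]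
    exact h3
  obtain ⟨W, hxW, j1, j2, e⟩ := C.presheaf.germ_eq x hxW0 hxW0 _ _ heq
  obtain ⟨V, hVaff, hxV, hVW⟩ := Opens.isBasis_iff_nbhd.1 C.isBasis_affineOpens hxW
  have l1 : V ≤ V1 := (hVW.trans j1.le).trans i1.le
  have l2 : V ≤ V2 := (hVW.trans j1.le).trans i2.le
  have l3 : V ≤ V3 := (hVW.trans j1.le).trans i3.le
  have l4 : V ≤ V4 := (hVW.trans j1.le).trans i4.le
  have hgerm : ∀ (y : C) (hy : y ∈ V),
      C.presheaf.germ V3 y (l3 hy) a0 * C.presheaf.germ V4 y (l4 hy) c0 =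
        C.presheaf.germ V1 y (l1 hy) b0 * C.presheaf.germ V2 y (l2 hy) d0 := by
    intro y hy
    have e' := congrArg (C.presheaf.germ W y (hVW hy)) e
    simp only [map_mul, TopCat.Presheaf.germ_res_apply] at e'
    exact e'
  have ha : C.presheaf.map (homOfLE l3).op a0 ∈ Mero.regSub C V := by
    intro y
    show C.presheaf.germ V y.1 y.2 (C.presheaf.map (homOfLE l3).op a0) ∈
      nonZeroDivisors (C.presheaf.stalk y.1)
    rw [TopCat.Presheaf.germ_res_apply]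
    have h4 : C.presheaf.germ V3 y.1 (l3 y.2) a0 * C.presheaf.germ V4 y.1 (l4 y.2) c0 ∈
        nonZeroDivisors (C.presheaf.stalk y.1) := by
      rw [hgerm y.1 y.2]
      exact mul_mem (hb0 ⟨y.1, l1 y.2⟩) (hd0 ⟨y.1, l2 y.2⟩)
    exact (mul_mem_nonZeroDivisors.mp h4).1
  refine ⟨V, hVaff, hxV, ⟨C.presheaf.map (homOfLE l3).op a0, ha⟩,
    ⟨C.presheaf.map (homOfLE l1).op b0, Mero.regSub_res _ hb0⟩, ?_⟩
  refine hφ.trans (Mero.mk_congr ?_ ?_)
  · exact hα.symm.trans (TopCat.Presheaf.germ_res_apply C.presheaf (homOfLE l3) x hxV a0).symm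
  · exact hβ.symm.trans (TopCat.Presheaf.germ_res_apply C.presheaf (homOfLE l1) x hxV b0).symm

/-- the unit `a/b` of `Γ(U, K_C)` attached to two regular sections -/
noncomputable def fracUnit (U : C.Opens) (a b : Mero.regSub C U) : (Γ(Mero.kmod C, U))ˣ where
  val := Mero.toK C U a.1 * MeroGlue.invReg U b
  inv := Mero.toK C U b.1 * MeroGlue.invReg U a
  val_inv := by
    rw [mul_mul_mul_comm, mul_comm (MeroGlue.invReg U b), mul_mul_mul_comm,
      MeroGlue.toK_mul_invReg, MeroGlue.toK_mul_invReg, one_mul]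
  inv_val := by
    rw [mul_mul_mul_comm, mul_comm (MeroGlue.invReg U a), mul_mul_mul_comm,
      MeroGlue.toK_mul_invReg, MeroGlue.toK_mul_invReg, one_mul]

theorem fracUnit_val (U : C.Opens) (a b : Mero.regSub C U) (y : U) :
    ((Units.map (Mero.evalK C U y).toMonoidHom (fracUnit U a b) : (Mero.KStalk C y.1)ˣ) :
      Mero.KStalk C y.1) =
      LocalizedModule.mk (C.presheaf.germ U y.1 y.2 a.1) (Mero.regGerm y b) := by
  show (LocalizedModule.mk (C.presheaf.germ U y.1 y.2 a.1) 1 : Mero.KStalk C y.1) *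
      LocalizedModule.mk 1 (Mero.regGerm y b) = _
  refine LocalizedModule.mk_mul_mk.trans ?_
  refine Mero.mk_congr (mul_one _) ?_
  show ((1 * Mero.regGerm y b : Mero.regStalk C y.1) : C.presheaf.stalk y.1) = _
  rw [one_mul]

theorem mem_divisorGroup_of_finite [IsNoetherian C]
    (hC : ∀ x : C, IsClosed ({x} : Set C) → ringKrullDim (C.presheaf.stalk x) = 1)
    (g : ∀ x : C, Mero.Germ C x)
    (hfin : {x : C | g x ≠ 1}.Finite) (hncl : ∀ x : C, ¬ IsClosed ({x} : Set C) → g x = 1) :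
    g ∈ Mero.divisorGroup C := by
  intro x
  obtain ⟨φ, hφ⟩ := QuotientGroup.mk_surjective (g x)
  obtain ⟨V, hV, hxV, a, b, hab⟩ := exists_rep_unit x φ
  set T : Set C := ({y | g y ≠ 1} ∪
    {z | ∃ hz : z ∈ V, ¬ IsUnit (C.presheaf.germ V z hz a.1)} ∪
    {z | ∃ hz : z ∈ V, ¬ IsUnit (C.presheaf.germ V z hz b.1)}) \ {x} with hT
  have hTfin : T.Finite := ((hfin.union (finite_nonunit_locus hC hV a.1 a.2)).union
    (finite_nonunit_locus hC hV b.1 b.2)).subset Set.diff_subset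
  have hTcl : ∀ y ∈ T, IsClosed ({y} : Set C) := by
    rintro y ⟨hy, -⟩
    by_contra hcl
    rcases hy with (hy | ⟨hz, hnu⟩) | ⟨hz, hnu⟩
    · exact hy (hncl y hcl)
    · exact hnu (isUnit_of_mem_nonZeroDivisors (krullDim_stalk_eq_zero hC y hcl) (a.2 ⟨y, hz⟩))
    · exact hnu (isUnit_of_mem_nonZeroDivisors (krullDim_stalk_eq_zero hC y hcl) (b.2 ⟨y, hz⟩))
  have hTclosed : IsClosed T := by
    have e : T = ⋃ y ∈ T, ({y} : Set C) := (Set.biUnion_of_singleton T).symm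
    rw [e]
    exact hTfin.isClosed_biUnion hTcl
  let U : C.Opens := V ⊓ ⟨Tᶜ, hTclosed.isOpen_compl⟩
  have hxU : x ∈ U := ⟨hxV, fun hxT => hxT.2 rfl⟩
  have hUV : U ≤ V := inf_le_left
  let a' : Mero.regSub C U := ⟨C.presheaf.map (homOfLE hUV).op a.1, Mero.regSub_res _ a.2⟩
  let b' : Mero.regSub C U := ⟨C.presheaf.map (homOfLE hUV).op b.1, Mero.regSub_res _ b.2⟩
  refine ⟨U, hxU, fracUnit U a' b', ?_⟩
  rintro ⟨y, hyU⟩
  have hval := fracUnit_val U a' b' ⟨y, hyU⟩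
  have hga : C.presheaf.germ U y hyU a'.1 = C.presheaf.germ V y (hUV hyU) a.1 :=
    TopCat.Presheaf.germ_res_apply C.presheaf (homOfLE hUV) y hyU a.1
  have hgb : C.presheaf.germ U y hyU b'.1 = C.presheaf.germ V y (hUV hyU) b.1 :=
    TopCat.Presheaf.germ_res_apply C.presheaf (homOfLE hUV) y hyU b.1
  by_cases hyx : y = x
  · subst hyx
    show g y = QuotientGroup.mk (Units.map (Mero.evalK C U ⟨y, hyU⟩).toMonoidHom (fracUnit U a' b'))
    rw [← hφ]
    congr 1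
    apply Units.ext
    refine hab.trans (Eq.trans (Mero.mk_congr hga.symm hgb.symm) hval.symm)
  · have hyT : y ∉ T := hyU.2
    have hgy : g y = 1 := by
      by_contra h
      exact hyT ⟨Or.inl (Or.inl h), hyx⟩
    have hau : IsUnit (C.presheaf.germ U y hyU a'.1) := by
      rw [hga]
      by_contra h
      exact hyT ⟨Or.inl (Or.inr ⟨hUV hyU, h⟩), hyx⟩
    have hbu : IsUnit (C.presheaf.germ U y hyU b'.1) := by
      rw [hgb]
      by_contra h
      exact hyT ⟨Or.inr ⟨hUV hyU, h⟩, hyx⟩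
    show g y = QuotientGroup.mk (Units.map (Mero.evalK C U ⟨y, hyU⟩).toMonoidHom (fracUnit U a' b'))
    rw [hgy]
    exact (eq_one_of_isUnit (Mero.regGerm ⟨y, hyU⟩ a') (Mero.regGerm ⟨y, hyU⟩ b') _ hval
      hau hbu).symm

end Groth.Agent.Lib.Helper48.CurveDiv
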