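/-
helper48: morphisms between the fractional ideals `Mero.divMod D` given by multiplication with a
meromorphic function.
* `mulHom D D' f hf : divMod D ⟶ divMod D'`, `mulHom_app_val`
* `nonempty_iso_of_mul` : multiplication by a unit `f` of `Γ(X, K_X)` is an isomorphism.
* `divCond_of_eq_mk`, `germ_eq_mk_evalK`.
-/
import Mathlib
import Groth.Prelude.Def_MeroDiv

set_option autoImplicit false
universe u

open AlgebraicGeometry CategoryTheory TopologicalSpace Opposite

namespace Groth.Agent.Lib.Helper48.MeroDivMod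

variable {X : Scheme.{u}}

/-- `DivCond` may be tested on one representative. -/
theorem divCond_of_eq_mk (D : Mero.Divisor X) (x : X) (g : (Mero.KStalk X x)ˣ)
    (hg : D.1 x = QuotientGroup.mk g) (t : Mero.KStalk X x)
    (ht : t * g ∈ (algebraMap (X.presheaf.stalk x) (Mero.KStalk X x)).range) :
    Mero.DivCond D x t := by
  intro k hk
  have hk' : (QuotientGroup.mk g : Mero.Germ X x) = QuotientGroup.mk k := hg.symm.trans hk
  rw [QuotientGroup.eq] at hk'
  obtain ⟨u, hu⟩ := hk'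
  have hu' : algebraMap (X.presheaf.stalk x) (Mero.KStalk X x) (u : X.presheaf.stalk x) =
      ((g⁻¹ * k : (Mero.KStalk X x)ˣ) : Mero.KStalk X x) := congrArg Units.val hu
  have hk2 : (k : Mero.KStalk X x) = g * ((g⁻¹ * k : (Mero.KStalk X x)ˣ) : Mero.KStalk X x) := by
    rw [← Units.val_mul, mul_inv_cancel_left]
  rw [hk2, ← mul_assoc, ← hu']
  exact mul_mem ht ⟨_, rfl⟩

/-- multiplication by a meromorphic function as a morphism `O(D) ⟶ O(D')` -/
noncomputable def mulHom (D D' : Mero.Divisor X) (f : Γ(Mero.kmod X, ⊤))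
    (hf : ∀ (x : X) (t : Mero.KStalk X x), Mero.DivCond D x t →
      Mero.DivCond D' x (t * f.1 ⟨x, trivial⟩)) :
    Mero.divMod D ⟶ Mero.divMod D' :=
  ⟨PresheafOfModules.homMk (M₁ := (Mero.divMod D).val) (M₂ := (Mero.divMod D').val)
    { app := fun U => AddCommGrpCat.ofHom
        { toFun := fun (t : Γ(Mero.divMod D, U.unop)) =>
            (⟨fun y => t.1 y * f.1 ⟨y.1, trivial⟩,
              ⟨Mero.kLoc_mul X U.unop t.1 (fun y => f.1 ⟨y.1, trivial⟩) t.2.1
                ((Mero.kmod X).presheaf.map (homOfLE le_top : U.unop ⟶ ⊤).op f).2,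
               fun y => hf y.1 (t.1 y) (t.2.2 y)⟩⟩ : Γ(Mero.divMod D', U.unop))
          map_zero' := Subtype.ext (funext fun y => zero_mul _)
          map_add' := fun t t' => Subtype.ext (funext fun y => add_mul _ _ _) }
      naturality := by intros; rfl }
    (fun U r t => Subtype.ext (funext fun y => smul_mul_assoc _ _ _))⟩

theorem mulHom_app_val (D D' : Mero.Divisor X) (f : Γ(Mero.kmod X, ⊤))
    (hf : ∀ (x : X) (t : Mero.KStalk X x), Mero.DivCond D x t →
      Mero.DivCond D' x (t * f.1 ⟨x, trivial⟩))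
    (U : X.Opens) (t : Γ(Mero.divMod D, U)) (y : U) :
    ((mulHom D D' f hf).app U t).1 y = t.1 y * f.1 ⟨y.1, trivial⟩ := rfl

theorem nonempty_iso_of_mul (D D' : Mero.Divisor X) (f : (Γ(Mero.kmod X, ⊤))ˣ)
    (hf : ∀ (x : X) (t : Mero.KStalk X x), Mero.DivCond D x t →
      Mero.DivCond D' x (t * (f : Γ(Mero.kmod X, ⊤)).1 ⟨x, trivial⟩))
    (hf' : ∀ (x : X) (t : Mero.KStalk X x), Mero.DivCond D' x t →
      Mero.DivCond D x (t * (↑f⁻¹ : Γ(Mero.kmod X, ⊤)).1 ⟨x, trivial⟩)) :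
    Nonempty (Mero.divMod D ≅ Mero.divMod D') := by
  have h1 : ∀ x : X, (f : Γ(Mero.kmod X, ⊤)).1 ⟨x, trivial⟩ *
      (↑f⁻¹ : Γ(Mero.kmod X, ⊤)).1 ⟨x, trivial⟩ = 1 := fun x =>
    congrArg (fun w : Γ(Mero.kmod X, ⊤) => w.1 ⟨x, trivial⟩) f.mul_inv
  have h2 : ∀ x : X, (↑f⁻¹ : Γ(Mero.kmod X, ⊤)).1 ⟨x, trivial⟩ *
      (f : Γ(Mero.kmod X, ⊤)).1 ⟨x, trivial⟩ = 1 := fun x =>
    congrArg (fun w : Γ(Mero.kmod X, ⊤) => w.1 ⟨x, trivial⟩) f.inv_mul
  haveI : IsIso (mulHom D D' f hf) := by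
    rw [Scheme.Modules.Hom.isIso_iff_isIso_app]
    intro U
    rw [ConcreteCategory.isIso_iff_bijective]
    constructor
    · intro t t' htt'
      apply Subtype.ext
      funext y
      have := congrArg (fun w : Γ(Mero.divMod D', U) => w.1 y *
        (↑f⁻¹ : Γ(Mero.kmod X, ⊤)).1 ⟨y.1, trivial⟩) htt'
      simp only [mulHom_app_val, mul_assoc, h1, mul_one] at this
      exact this
    · intro t'
      refine ⟨(mulHom D' D ↑f⁻¹ hf').app U t', ?_⟩
      apply Subtype.ext
      funext y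
      rw [mulHom_app_val, mulHom_app_val, mul_assoc, h2, mul_one]
  exact ⟨asIso (mulHom D D' f hf)⟩

end Groth.Agent.Lib.Helper48.MeroDivMod
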