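/-
helper48: `O_X(D)` is invertible: where `D` is the class of a unit `f` of `Γ(U, K_X)`, the section
`f⁻¹` is a free generator of `Mero.divMod D` over `U`.
-/
import Groth.Agent.Lib.Helper48.InvGen
import Groth.Agent.Lib.Helper48.MeroGlue
import Groth.Agent.Lib.Helper48.MeroDivMod

set_option autoImplicit false
universe u

open AlgebraicGeometry CategoryTheory TopologicalSpace Opposite

namespace Groth.Agent.Lib.Helper48.MeroInv

open Groth.Agent.Lib.Ample Groth.Agent.Lib.Helper48.MeroGlue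

variable {X : Scheme.{u}}

theorem divCond_inv_of_germOf {U : X.Opens} (D : Mero.Divisor X) (f : (Γ(Mero.kmod X, U))ˣ)
    (y : U) (hf : D.1 y.1 = Mero.germOf f y) :
    Mero.DivCond D y.1 ((↑f⁻¹ : Γ(Mero.kmod X, U)).1 y) := by
  intro k hk
  have hk' : (QuotientGroup.mk (Units.map (Mero.evalK X U y).toMonoidHom f) : Mero.Germ X y.1) =
      QuotientGroup.mk k := hf.symm.trans hk
  rw [QuotientGroup.eq] at hk'
  obtain ⟨u, hu⟩ := hk'
  refine ⟨(u : X.presheaf.stalk y.1), ?_⟩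
  have := congrArg Units.val hu
  exact this

/-- Where `D` is the class of the unit `f` of `Γ(U, K_X)`, `f⁻¹` is a free generator of `O_X(D)`. -/
theorem exists_isGenerator (D : Mero.Divisor X) (U : X.Opens) (f : (Γ(Mero.kmod X, U))ˣ)
    (hf : ∀ y : U, D.1 y.1 = Mero.germOf f y) :
    ∃ e : Γ(Mero.divMod D, U), (∀ y : U, e.1 y = (↑f⁻¹ : Γ(Mero.kmod X, U)).1 y) ∧
      IsGenerator (Mero.divMod D) U e := by
  have hinv : ∀ y : U, (f : Γ(Mero.kmod X, U)).1 y * (↑f⁻¹ : Γ(Mero.kmod X, U)).1 y = 1 :=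
    fun y => congrArg (fun w : Γ(Mero.kmod X, U) => w.1 y) f.mul_inv
  have hinv' : ∀ y : U, (↑f⁻¹ : Γ(Mero.kmod X, U)).1 y * (f : Γ(Mero.kmod X, U)).1 y = 1 :=
    fun y => congrArg (fun w : Γ(Mero.kmod X, U) => w.1 y) f.inv_mul
  obtain ⟨e₀, he₀⟩ : ∃ e₀ : Γ(Mero.divMod D, U),
      ∀ y : U, e₀.1 y = (↑f⁻¹ : Γ(Mero.kmod X, U)).1 y :=
    ⟨⟨(↑f⁻¹ : Γ(Mero.kmod X, U)).1, ⟨(↑f⁻¹ : Γ(Mero.kmod X, U)).2,
      fun y => divCond_inv_of_germOf D f y (hf y)⟩⟩, fun y => rfl⟩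
  refine ⟨e₀, he₀, ?_⟩
  rw [isGenerator_iff]
  intro V hV
  have e1 : ∀ (b : Γ(X, V)) (z : X) (hz : z ∈ V),
      (b • (Mero.divMod D).presheaf.map (homOfLE hV).op e₀).1 ⟨z, hz⟩ *
        (f : Γ(Mero.kmod X, U)).1 ⟨z, hV hz⟩ =
      algebraMap (X.presheaf.stalk z) (Mero.KStalk X z) (X.presheaf.germ V z hz b) := by
    intro b z hz
    show (X.presheaf.germ V z hz b • e₀.1 ⟨z, hV hz⟩) * (f : Γ(Mero.kmod X, U)).1 ⟨z, hV hz⟩ = _
    rw [he₀, smul_mul_assoc, hinv' ⟨z, hV hz⟩, Algebra.algebraMap_eq_smul_one]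
  constructor
  · intro a a' haa'
    have hloc : ∀ (z : X) (hz : z ∈ V),
        X.presheaf.germ V z hz a = X.presheaf.germ V z hz a' := by
      intro z hz
      apply Mero.algebraMap_KStalk_injective z
      rw [← e1 a z hz, ← e1 a' z hz]
      exact congrArg (fun w : Γ(Mero.divMod D, V) => w.1 ⟨z, hz⟩ *
        (f : Γ(Mero.kmod X, U)).1 ⟨z, hV hz⟩) haa'
    exact TopCat.Presheaf.section_ext X.sheaf V a a' hloc
  · intro t
    obtain ⟨r, hr⟩ := exists_toK_eq V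
      (⟨fun y => t.1 y * (f : Γ(Mero.kmod X, U)).1 ⟨y.1, hV y.2⟩,
        Mero.kLoc_mul X V t.1 (fun y => (f : Γ(Mero.kmod X, U)).1 ⟨y.1, hV y.2⟩) t.2.1
          ((Mero.kmod X).presheaf.map (homOfLE hV).op (f : Γ(Mero.kmod X, U))).2⟩ :
        Γ(Mero.kmod X, V))
      (fun y => t.2.2 y (Units.map (Mero.evalK X U ⟨y.1, hV y.2⟩).toMonoidHom f)
        (hf ⟨y.1, hV y.2⟩))
    refine ⟨r, ?_⟩
    apply Subtype.ext
    funext y
    have hry : algebraMap (X.presheaf.stalk y.1) (Mero.KStalk X y.1)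
        (X.presheaf.germ V y.1 y.2 r) =
        t.1 y * (f : Γ(Mero.kmod X, U)).1 ⟨y.1, hV y.2⟩ :=
      congrArg (fun w : Γ(Mero.kmod X, V) => w.1 y) hr
    show X.presheaf.germ V y.1 y.2 r • e₀.1 ⟨y.1, hV y.2⟩ = t.1 y
    rw [he₀, Algebra.smul_def, hry, mul_assoc, hinv ⟨y.1, hV y.2⟩, mul_one]

/-- `O_X(D)` is an invertible module. -/
theorem isInvertible_divMod (D : Mero.Divisor X) : PicF.IsInvertible (Mero.divMod D) := by
  refine Groth.Agent.Lib.Helper48.InvGen.isInvertible_of_isGenerator _ (fun x => ?_)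
  obtain ⟨U, hxU, f, hf⟩ := D.2 x
  obtain ⟨e, -, he⟩ := exists_isGenerator D U f hf
  exact ⟨U, hxU, e, he⟩

end Groth.Agent.Lib.Helper48.MeroInv
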