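/-
helper48: the divisor of a section `s` of an invertible module `L`, given local trivializations
`(U_x, e_x, c_x)` with `s = c_x • e_x` and `c_x` regular: the divisor `divOf T` (classes of the `c_x`),
the morphism `divHom T : L ⟶ O_X(D)` ("division by `s`") and that it is an isomorphism carrying `s`
to `1`.
-/
import Groth.Agent.Lib.Helper48.ZeroScheme
import Groth.Agent.Lib.Helper48.MeroInv
import Groth.Agent.Lib.Helper48.TensorDesc

set_option autoImplicit false
universe u

open AlgebraicGeometry CategoryTheory TopologicalSpace Opposite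

namespace Groth.Agent.Lib.Helper48.DivOfSection

open Groth.Agent.Lib.Ample Groth.Agent.Lib.Helper48.MeroGlue

variable {X : Scheme.{u}}

/-- cross-multiplication of coefficients with respect to two generators -/
theorem cross_mul {R M : Type*} [CommRing R] [AddCommGroup M] [Module R M] (ε ε' : M)
    (hinj : ∀ r r' : R, r • ε' = r' • ε' → r = r')
    (a a' c c' : R) (μ σ : M) (h1 : a • ε = μ) (h2 : a' • ε' = μ) (h3 : c • ε = σ)
    (h4 : c' • ε' = σ) : c' * a = c * a' := by
  apply hinj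
  calc (c' * a) • ε' = a • (c' • ε') := by rw [mul_comm, mul_smul]
    _ = a • (c • ε) := by rw [h4, h3]
    _ = c • (a • ε) := smul_comm a c ε
    _ = c • (a' • ε') := by rw [h1, h2]
    _ = (c * a') • ε' := (mul_smul _ _ _).symm

section Stalk

variable {L : X.Modules} {U : X.Opens} {e : Γ(L, U)}

theorem germ_smul_inj (he : IsGenerator L U e) (z : X) (hz : z ∈ U)
    (α α' : X.presheaf.stalk z)
    (h : α • L.presheaf.germ U z hz e = α' • L.presheaf.germ U z hz e) : α = α' := by
  obtain ⟨V₁, hV₁U, hzV₁, a₁, rfl⟩ := X.presheaf.exists_le_germ_eq α hz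
  obtain ⟨V, hVV₁, hzV, a₂, rfl⟩ := X.presheaf.exists_le_germ_eq α' hzV₁
  have hVU : V ≤ U := hVV₁.trans hV₁U
  have e1 : X.presheaf.germ V₁ z hzV₁ a₁ =
      X.presheaf.germ V z hzV (X.presheaf.map (homOfLE hVV₁).op a₁) :=
    (TopCat.Presheaf.germ_res_apply X.presheaf (homOfLE hVV₁) z hzV a₁).symm
  have e2 : L.presheaf.germ U z hz e =
      L.presheaf.germ V z hzV (L.presheaf.map (homOfLE hVU).op e) :=
    (TopCat.Presheaf.germ_res_apply L.presheaf (homOfLE hVU) z hzV e).symm
  rw [e1, e2, ← Mero.germ_smul, ← Mero.germ_smul] at h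
  obtain ⟨W, hzW, i1, i2, hW⟩ := L.presheaf.germ_eq z hzV hzV _ _ h
  obtain rfl : i1 = i2 := Subsingleton.elim _ _
  have hWU : W ≤ U := i1.le.trans hVU
  have hW' : X.presheaf.map i1.op (X.presheaf.map (homOfLE hVV₁).op a₁) •
        L.presheaf.map (homOfLE hWU).op e =
      X.presheaf.map i1.op a₂ • L.presheaf.map (homOfLE hWU).op e := by
    have h3 := hW
    rw [L.map_smul, L.map_smul] at h3
    have h4 : L.presheaf.map i1.op (L.presheaf.map (homOfLE hVU).op e) =
        L.presheaf.map (homOfLE hWU).op e :=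
      Groth.Agent.Lib.QCoh.map_map_apply L _ _ _ e
    rw [h4] at h3
    exact h3
  have h5 := (he.bijective hWU).1 hW'
  rw [e1, ← TopCat.Presheaf.germ_res_apply X.presheaf i1 z hzW,
    ← TopCat.Presheaf.germ_res_apply X.presheaf i1 z hzW a₂, h5]

theorem germ_smul_surj (he : IsGenerator L U e) (z : X) (hz : z ∈ U)
    (μ : L.presheaf.stalk z) :
    ∃ α : X.presheaf.stalk z, α • L.presheaf.germ U z hz e = μ := by
  obtain ⟨V, hVU, hzV, m, rfl⟩ := L.presheaf.exists_le_germ_eq μ hz
  obtain ⟨a, ha⟩ := (he.bijective hVU).2 m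
  refine ⟨X.presheaf.germ V z hzV a, ?_⟩
  have ha' : a • L.presheaf.map (homOfLE hVU).op e = m := ha
  rw [← ha', Mero.germ_smul, TopCat.Presheaf.germ_res_apply]

/-- the coefficient of a germ with respect to the germ of a generator -/
noncomputable def coef (he : IsGenerator L U e) (z : X) (hz : z ∈ U) (μ : L.presheaf.stalk z) :
    X.presheaf.stalk z := Classical.choose (germ_smul_surj he z hz μ)

theorem coef_spec (he : IsGenerator L U e) (z : X) (hz : z ∈ U) (μ : L.presheaf.stalk z) :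
    coef he z hz μ • L.presheaf.germ U z hz e = μ := Classical.choose_spec (germ_smul_surj he z hz μ)

theorem coef_eq (he : IsGenerator L U e) (z : X) (hz : z ∈ U) (μ : L.presheaf.stalk z)
    (α : X.presheaf.stalk z) (h : α • L.presheaf.germ U z hz e = μ) : coef he z hz μ = α :=
  germ_smul_inj he z hz _ _ ((coef_spec he z hz μ).trans h.symm)

theorem coef_zero (he : IsGenerator L U e) (z : X) (hz : z ∈ U) : coef he z hz 0 = 0 :=
  coef_eq he z hz 0 0 (zero_smul _ _)

theorem coef_add (he : IsGenerator L U e) (z : X) (hz : z ∈ U) (μ μ' : L.presheaf.stalk z) :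
    coef he z hz (μ + μ') = coef he z hz μ + coef he z hz μ' :=
  coef_eq he z hz _ _ (by rw [add_smul, coef_spec, coef_spec])

theorem coef_smul (he : IsGenerator L U e) (z : X) (hz : z ∈ U) (r : X.presheaf.stalk z)
    (μ : L.presheaf.stalk z) : coef he z hz (r • μ) = r * coef he z hz μ :=
  coef_eq he z hz _ _ (by rw [mul_smul, coef_spec])

end Stalk

theorem smul_mk_one (z : X) (α : X.presheaf.stalk z) (b : Mero.regStalk X z) :
    α • (LocalizedModule.mk 1 b : Mero.KStalk X z) = LocalizedModule.mk α b := by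
  rw [Algebra.smul_def, algebraMap_eq_mk]
  refine LocalizedModule.mk_mul_mk.trans (Mero.mk_congr (mul_one _) ?_)
  show ((1 * b : Mero.regStalk X z) : X.presheaf.stalk z) = b
  rw [one_mul]

/-- a local trivialization of `(L, s)` at `x` with regular coefficient -/
structure Triv (L : X.Modules) (s : Coh.structureModule X ⟶ L) (x : X) where
  U : X.Opens
  hx : x ∈ U
  e : Γ(L, U)
  c : Γ(X, U)
  he : IsGenerator L U e
  hc : (SecTwist.val s U : Γ(L, U)) = c • e
  hreg : c ∈ Mero.regSub X U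

section Main

variable {L : X.Modules} {s : Coh.structureModule X ⟶ L}

theorem germ_val (U : X.Opens) (z : X) (hz : z ∈ U) :
    L.presheaf.germ U z hz (SecTwist.val s U : Γ(L, U)) =
      L.presheaf.germ ⊤ z trivial (SecTwist.val s ⊤ : Γ(L, ⊤)) := by
  have h := SecTwist.map_val s (homOfLE (le_top : U ≤ ⊤))
  have h2 : L.presheaf.map (homOfLE (le_top : U ≤ ⊤)).op (SecTwist.val s ⊤ : Γ(L, ⊤)) =
      (SecTwist.val s U : Γ(L, U)) := h
  rw [← h2, TopCat.Presheaf.germ_res_apply]

/-- germ form of `s = c • e` -/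
theorem germ_hc {U : X.Opens} {e : Γ(L, U)} {c : Γ(X, U)}
    (hc : (SecTwist.val s U : Γ(L, U)) = c • e) (z : X) (hz : z ∈ U) :
    X.presheaf.germ U z hz c • L.presheaf.germ U z hz e =
      L.presheaf.germ ⊤ z trivial (SecTwist.val s ⊤ : Γ(L, ⊤)) := by
  rw [← germ_val U z hz, hc, Mero.germ_smul]

theorem germ_add (V : X.Opens) (z : X) (hz : z ∈ V) (m m' : Γ(L, V)) :
    L.presheaf.germ V z hz (m + m') = L.presheaf.germ V z hz m + L.presheaf.germ V z hz m' :=
  map_add _ _ _

variable (T : ∀ x : X, Triv L s x)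

/-- "division by `s`" on stalks -/
noncomputable def value (z : X) (μ : L.presheaf.stalk z) : Mero.KStalk X z :=
  coef (T z).he z (T z).hx μ •
    (LocalizedModule.mk 1 (Mero.regGerm ⟨z, (T z).hx⟩ ⟨(T z).c, (T z).hreg⟩) : Mero.KStalk X z)

theorem value_zero (z : X) : value T z 0 = 0 := by
  unfold value
  rw [coef_zero, zero_smul]

theorem value_add (z : X) (μ μ' : L.presheaf.stalk z) :
    value T z (μ + μ') = value T z μ + value T z μ' := by
  unfold value
  rw [coef_add, add_smul]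

theorem value_smul (z : X) (r : X.presheaf.stalk z) (μ : L.presheaf.stalk z) :
    value T z (r • μ) = r • value T z μ := by
  unfold value
  rw [coef_smul, mul_smul]

/-- `value` may be computed in any trivialization -/
theorem value_eq {U : X.Opens} (e : Γ(L, U)) (c : Γ(X, U)) (he : IsGenerator L U e)
    (hc : (SecTwist.val s U : Γ(L, U)) = c • e) (hreg : c ∈ Mero.regSub X U)
    (z : X) (hz : z ∈ U) (μ : L.presheaf.stalk z) (α : X.presheaf.stalk z)
    (hα : α • L.presheaf.germ U z hz e = μ) :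
    value T z μ = LocalizedModule.mk α (Mero.regGerm ⟨z, hz⟩ ⟨c, hreg⟩) := by
  unfold value
  rw [smul_mk_one, LocalizedModule.mk_eq]
  refine ⟨1, ?_⟩
  have hx := cross_mul (L.presheaf.germ U z hz e) (L.presheaf.germ (T z).U z (T z).hx (T z).e)
    (fun r r' h => germ_smul_inj (T z).he z (T z).hx r r' h)
    α (coef (T z).he z (T z).hx μ) (X.presheaf.germ U z hz c)
    (X.presheaf.germ (T z).U z (T z).hx (T z).c) μ
    (L.presheaf.germ ⊤ z trivial (SecTwist.val s ⊤ : Γ(L, ⊤)))
    hα (coef_spec _ _ _ _) (germ_hc hc z hz) (germ_hc (T z).hc z (T z).hx)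
  simp only [Submonoid.smul_def, smul_eq_mul, Submonoid.coe_one, one_mul]
  exact hx.symm

/-- the family of germs of the divisor of `s` -/
noncomputable def divFam (x : X) : Mero.Germ X x :=
  QuotientGroup.mk (IsLocalization.map_units (Mero.KStalk X x)
    (Mero.regGerm ⟨x, (T x).hx⟩ ⟨(T x).c, (T x).hreg⟩)).unit

/-- the germs of the divisor may be computed in any trivialization -/
theorem divFam_eq {U : X.Opens} (e : Γ(L, U)) (c : Γ(X, U)) (he : IsGenerator L U e)
    (hc : (SecTwist.val s U : Γ(L, U)) = c • e) (hreg : c ∈ Mero.regSub X U)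
    (z : X) (hz : z ∈ U) :
    divFam T z = QuotientGroup.mk (IsLocalization.map_units (Mero.KStalk X z)
      (Mero.regGerm ⟨z, hz⟩ ⟨c, hreg⟩)).unit := by
  unfold divFam
  rw [QuotientGroup.eq]
  -- `ε = υ • ε'`, `ε' = υ' • ε`
  obtain ⟨υ, hυ⟩ := germ_smul_surj (T z).he z (T z).hx (L.presheaf.germ U z hz e)
  obtain ⟨υ', hυ'⟩ := germ_smul_surj he z hz (L.presheaf.germ (T z).U z (T z).hx (T z).e)
  have h1 : υ' * υ = 1 := by
    apply germ_smul_inj (T z).he z (T z).hx
    rw [mul_smul, hυ, hυ', one_smul]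
  have h2 : X.presheaf.germ U z hz c * υ = X.presheaf.germ (T z).U z (T z).hx (T z).c := by
    apply germ_smul_inj (T z).he z (T z).hx
    rw [mul_smul, hυ, germ_hc hc z hz, germ_hc (T z).hc z (T z).hx]
  refine ⟨Units.mkOfMulEqOne υ' υ h1, ?_⟩
  rw [eq_inv_mul_iff_mul_eq]
  apply Units.ext
  show algebraMap _ (Mero.KStalk X z) (X.presheaf.germ (T z).U z (T z).hx (T z).c) *
    algebraMap _ (Mero.KStalk X z) υ' = algebraMap _ (Mero.KStalk X z) (X.presheaf.germ U z hz c)
  rw [← map_mul, ← h2, mul_assoc, mul_comm υ υ', h1, mul_one]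

/-- the divisor of `s` -/
noncomputable def divOf : Mero.Divisor X :=
  ⟨divFam T, fun x => ⟨(T x).U, (T x).hx, (isUnit_toK_of_regSub (T x).U (T x).c (T x).hreg).unit,
    fun y => (divFam_eq T (T x).e (T x).c (T x).he (T x).hc (T x).hreg y.1 y.2).trans
      (congrArg _ (Units.ext rfl))⟩⟩

theorem divOf_eq {U : X.Opens} (e : Γ(L, U)) (c : Γ(X, U)) (he : IsGenerator L U e)
    (hc : (SecTwist.val s U : Γ(L, U)) = c • e) (hreg : c ∈ Mero.regSub X U)
    (z : X) (hz : z ∈ U) :
    (divOf T).1 z = QuotientGroup.mk (IsLocalization.map_units (Mero.KStalk X z)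
      (Mero.regGerm ⟨z, hz⟩ ⟨c, hreg⟩)).unit := divFam_eq T e c he hc hreg z hz

/-- the values of "division by `s`" on a section satisfy the local fraction condition -/
theorem kLoc_value (V : X.Opens) (m : Γ(L, V)) :
    (Mero.kLoc X).pred (fun y : V => value T y.1 (L.presheaf.germ V y.1 y.2 m)) := by
  intro y
  obtain ⟨W, hW⟩ : ∃ W : X.Opens, W = V ⊓ (T y.1).U := ⟨_, rfl⟩
  have hWV : W ≤ V := hW ▸ inf_le_left
  have hWU : W ≤ (T y.1).U := hW ▸ inf_le_right
  have hyW : y.1 ∈ W := hW ▸ ⟨y.2, (T y.1).hx⟩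
  obtain ⟨a, ha⟩ := ((T y.1).he.bijective hWU).2 (L.presheaf.map (homOfLE hWV).op m)
  have ha' : a • L.presheaf.map (homOfLE hWU).op (T y.1).e = L.presheaf.map (homOfLE hWV).op m := ha
  refine ⟨W, hyW, homOfLE hWV, a,
    ⟨X.presheaf.map (homOfLE hWU).op (T y.1).c, Mero.regSub_res (homOfLE hWU) (T y.1).hreg⟩,
    fun z => ?_⟩
  have hα : X.presheaf.germ W z.1 z.2 a • L.presheaf.germ (T y.1).U z.1 (hWU z.2) (T y.1).e =
      L.presheaf.germ V z.1 (hWV z.2) m := by
    rw [← TopCat.Presheaf.germ_res_apply L.presheaf (homOfLE hWU) z.1 z.2 (T y.1).e,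
      ← Mero.germ_smul, ha', TopCat.Presheaf.germ_res_apply]
  refine (value_eq T (T y.1).e (T y.1).c (T y.1).he (T y.1).hc (T y.1).hreg z.1 (hWU z.2) _ _
    hα).trans ?_
  exact Mero.mk_congr rfl
    (TopCat.Presheaf.germ_res_apply X.presheaf (homOfLE hWU) z.1 z.2 (T y.1).c).symm

theorem divCond_value (z : X) (μ : L.presheaf.stalk z) :
    Mero.DivCond (divOf T) z (value T z μ) := by
  refine MeroDivMod.divCond_of_eq_mk (divOf T) z _ rfl _ ?_
  refine ⟨coef (T z).he z (T z).hx μ, ?_⟩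
  unfold value
  rw [smul_mk_one, algebraMap_eq_mk]
  symm
  refine LocalizedModule.mk_mul_mk.trans ?_
  rw [LocalizedModule.mk_eq]
  refine ⟨1, ?_⟩
  simp only [Submonoid.smul_def, smul_eq_mul, Submonoid.coe_one, one_mul, mul_one]
  exact mul_comm _ _

/-- "division by `s`" on sections -/
noncomputable def divFun (V : X.Opens) (m : Γ(L, V)) : Γ(Mero.divMod (divOf T), V) :=
  ⟨fun y => value T y.1 (L.presheaf.germ V y.1 y.2 m),
    ⟨kLoc_value T V m, fun y => divCond_value T y.1 _⟩⟩

/-- "division by `s`" : `L ⟶ O_X(D)` -/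
noncomputable def divHom : L ⟶ Mero.divMod (divOf T) :=
  ⟨PresheafOfModules.homMk (M₁ := L.val) (M₂ := (Mero.divMod (divOf T)).val)
    { app := fun V => AddCommGrpCat.ofHom
        { toFun := fun (m : Γ(L, V.unop)) => divFun T V.unop m
          map_zero' := Subtype.ext (funext fun y => by
            show value T y.1 (L.presheaf.germ V.unop y.1 y.2 (0 : Γ(L, V.unop))) = 0
            rw [map_zero, value_zero])
          map_add' := fun m m' => Subtype.ext (funext fun y => by
            show value T y.1 (L.presheaf.germ V.unop y.1 y.2 (m + m')) =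
              value T y.1 (L.presheaf.germ V.unop y.1 y.2 m) +
                value T y.1 (L.presheaf.germ V.unop y.1 y.2 m')
            exact (congrArg (value T y.1) (germ_add V.unop y.1 y.2 m m')).trans
              (value_add T y.1 _ _)) }
      naturality := fun {V W} i => by
        ext m
        refine Subtype.ext (funext fun y => ?_)
        exact congrArg (value T y.1) (TopCat.Presheaf.germ_res_apply' L.presheaf i y.1 y.2 m) }
    (fun V r m => Subtype.ext <| funext fun y => by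
        show value T y.1 (L.presheaf.germ V.unop y.1 y.2 (r • m)) =
          X.presheaf.germ V.unop y.1 y.2 r • value T y.1 (L.presheaf.germ V.unop y.1 y.2 m)
        exact (congrArg (value T y.1) (Mero.germ_smul L V.unop y.1 y.2 r m)).trans
          (value_smul T y.1 _ _))⟩

theorem divHom_app_val (V : X.Opens) (m : Γ(L, V)) (y : V) :
    ((divHom T).app V m).1 y = value T y.1 (L.presheaf.germ V y.1 y.2 m) := rfl

/-- `divHom T` is an isomorphism -/
theorem isIso_divHom : IsIso (divHom T) := by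
  refine TensorDesc.isIso_of_isGenerator (divHom T) (fun x => ?_)
  obtain ⟨f, hf⟩ : ∃ f : (Γ(Mero.kmod X, (T x).U))ˣ,
      f = (isUnit_toK_of_regSub (T x).U (T x).c (T x).hreg).unit := ⟨_, rfl⟩
  have hfD : ∀ y : (T x).U, (divOf T).1 y.1 = Mero.germOf f y := fun y =>
    (divFam_eq T (T x).e (T x).c (T x).he (T x).hc (T x).hreg y.1 y.2).trans
      (congrArg _ (Units.ext (by rw [hf]; rfl)))
  obtain ⟨e₀, he₀, g₀⟩ := MeroInv.exists_isGenerator (divOf T) (T x).U f hfD
  have hinv : (↑f⁻¹ : Γ(Mero.kmod X, (T x).U)) = invReg (T x).U ⟨(T x).c, (T x).hreg⟩ := by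
    apply Units.inv_eq_of_mul_eq_one_right
    rw [hf, IsUnit.unit_spec]
    exact toK_mul_invReg (T x).U ⟨(T x).c, (T x).hreg⟩
  refine ⟨(T x).U, (T x).hx, (T x).e, (T x).he, ?_⟩
  have e1 : (divHom T).app (T x).U (T x).e = e₀ := by
    apply Subtype.ext
    funext y
    rw [he₀, hinv, divHom_app_val]
    refine (value_eq T (T x).e (T x).c (T x).he (T x).hc (T x).hreg y.1 y.2 _ 1
      (one_smul _ _)).trans ?_
    rfl
  rw [e1]
  exact g₀

/-- `divHom T` carries `s` to `1` -/
theorem divHom_val :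
    (Mero.divModι (divOf T)).app ⊤ ((divHom T).app ⊤ (SecTwist.val s ⊤ : Γ(L, ⊤))) = 1 := by
  apply Subtype.ext
  funext y
  show value T y.1 (L.presheaf.germ ⊤ y.1 y.2 (SecTwist.val s ⊤ : Γ(L, ⊤))) = 1
  refine (value_eq T (T y.1).e (T y.1).c (T y.1).he (T y.1).hc (T y.1).hreg y.1 (T y.1).hx _
    (X.presheaf.germ (T y.1).U y.1 (T y.1).hx (T y.1).c) (germ_hc (T y.1).hc y.1 (T y.1).hx)).trans ?_
  exact Mero.mk_self_eq_one (Mero.regGerm ⟨y.1, (T y.1).hx⟩ ⟨(T y.1).c, (T y.1).hreg⟩)

/-- the divisor of `s` is the divisor of the zero scheme of `s` -/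
theorem isDivOfIdeal_divOf (hL : PicF.IsInvertible L) :
    Mero.IsDivOfIdeal (divOf T) (PicF2.zeroScheme L s) := by
  intro x
  obtain ⟨U, hUaff, hxU, hUle⟩ := Opens.isBasis_iff_nbhd.1 X.isBasis_affineOpens (T x).hx
  have hc' : (SecTwist.val s U : Γ(L, U)) =
      X.presheaf.map (homOfLE hUle).op (T x).c • L.presheaf.map (homOfLE hUle).op (T x).e := by
    have h := SecTwist.map_val s (homOfLE hUle)
    have h2 : L.presheaf.map (homOfLE hUle).op (SecTwist.val s (T x).U : Γ(L, (T x).U)) =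
        (SecTwist.val s U : Γ(L, U)) := h
    rw [← h2, (T x).hc, L.map_smul]
  have hreg' := Mero.regSub_res (homOfLE hUle) (T x).hreg
  refine ⟨⟨U, hUaff⟩, hxU, X.presheaf.map (homOfLE hUle).op (T x).c, hreg', ?_, fun y => ?_⟩
  · exact ZeroScheme.ideal_zeroScheme_eq_span L hL s ⟨U, hUaff⟩ _ ((T x).he.res hUle) _ hc'
  · exact divFam_eq T _ _ ((T x).he.res hUle) hc' hreg' y.1 y.2

end Main

section Integral

variable {L : X.Modules}

theorem exists_triv0 (hL : PicF.IsInvertible L) (s : Coh.structureModule X ⟶ L) (x : X) :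
    ∃ (U : X.Opens) (_ : x ∈ U) (e : Γ(L, U)) (c : Γ(X, U)),
      IsGenerator L U e ∧ (SecTwist.val s U : Γ(L, U)) = c • e := by
  obtain ⟨U, hxU, e, he⟩ := exists_isGenerator_of_isInvertible hL x
  obtain ⟨c, hc⟩ := (he.bijective (le_refl U)).2 (SecTwist.val s U)
  have hid : L.presheaf.map (homOfLE (le_refl U)).op e = e := by
    have h2 : (homOfLE (le_refl U)) = 𝟙 U := rfl
    rw [h2, op_id, L.presheaf.map_id]
    rfl
  have hc' : c • L.presheaf.map (homOfLE (le_refl U)).op e = (SecTwist.val s U : Γ(L, U)) := hc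
  rw [hid] at hc'
  exact ⟨U, hxU, e, c, he, hc'.symm⟩

/-- on an integral scheme a section of an invertible module vanishing on a nonempty open is zero -/
theorem eq_zero_of_val_eq_zero [IsIntegral X] (hL : PicF.IsInvertible L)
    (s : Coh.structureModule X ⟶ L) (U : X.Opens) (hU : (U : Set X).Nonempty)
    (h : (SecTwist.val s U : Γ(L, U)) = 0) : s = 0 := by
  have key : ∀ x : X, ∃ (W : X.Opens) (_ : x ∈ W), (SecTwist.val s W : Γ(L, W)) = 0 := by
    intro x
    obtain ⟨U', hxU', e', c', he', hc'⟩ := exists_triv0 hL s x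
    obtain ⟨N, hN⟩ : ∃ N : X.Opens, N = U ⊓ U' := ⟨_, rfl⟩
    have hNU : N ≤ U := hN ▸ inf_le_left
    have hNU' : N ≤ U' := hN ▸ inf_le_right
    have hne : Nonempty N := by
      obtain ⟨y, hy⟩ := nonempty_preirreducible_inter U.2 U'.2 hU ⟨x, hxU'⟩
      exact ⟨⟨y, hN ▸ hy⟩⟩
    have h0 : (SecTwist.val s N : Γ(L, N)) = 0 := by
      have h1 : L.presheaf.map (homOfLE hNU).op (SecTwist.val s U : Γ(L, U)) =
          (SecTwist.val s N : Γ(L, N)) := SecTwist.map_val s (homOfLE hNU)
      have h2 : L.presheaf.map (homOfLE hNU).op (0 : Γ(L, U)) = 0 := map_zero _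
      exact h1.symm.trans ((congrArg (fun t : Γ(L, U) => L.presheaf.map (homOfLE hNU).op t) h).trans h2)
    have h1 : X.presheaf.map (homOfLE hNU').op c' • L.presheaf.map (homOfLE hNU').op e' =
        (SecTwist.val s N : Γ(L, N)) := by
      have h2 : L.presheaf.map (homOfLE hNU').op (SecTwist.val s U' : Γ(L, U')) =
          (SecTwist.val s N : Γ(L, N)) := SecTwist.map_val s (homOfLE hNU')
      exact (h2.symm.trans ((congrArg (fun t : Γ(L, U') => L.presheaf.map (homOfLE hNU').op t)
        hc').trans (L.map_smul (homOfLE hNU') c' e'))).symm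
    have h2 : X.presheaf.map (homOfLE hNU').op c' = 0 := by
      apply (he'.bijective hNU').1
      show X.presheaf.map (homOfLE hNU').op c' • L.presheaf.map (homOfLE hNU').op e' =
        (0 : Γ(X, N)) • L.presheaf.map (homOfLE hNU').op e'
      exact h1.trans (h0.trans (zero_smul _ _).symm)
    have h3 : c' = 0 := by
      haveI := hne
      exact map_injective_of_isIntegral X (homOfLE hNU') (h2.trans (map_zero _).symm)
    exact ⟨U', hxU', hc'.trans ((congrArg (fun t : Γ(X, U') => t • e') h3).trans (zero_smul _ _))⟩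
  apply Groth.Agent.Lib.QCoh.Lift74.unitHom_ext
  show (SecTwist.val s ⊤ : Γ(L, ⊤)) = 0
  refine TopCat.Presheaf.section_ext (⟨L.presheaf, L.isSheaf⟩ : TopCat.Sheaf Ab X) ⊤ _ _
    (fun x hx => ?_)
  obtain ⟨W, hxW, hW⟩ := key x
  show L.presheaf.germ ⊤ x hx (SecTwist.val s ⊤ : Γ(L, ⊤)) = L.presheaf.germ ⊤ x hx 0
  have h2 : L.presheaf.germ W x hxW (0 : Γ(L, W)) = 0 := map_zero _
  have h3 : L.presheaf.germ ⊤ x hx (0 : Γ(L, ⊤)) = 0 := map_zero _
  exact (germ_val W x hxW).symm.trans ((congrArg (fun t : Γ(L, W) => L.presheaf.germ W x hxW t)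
    hW).trans (h2.trans h3.symm))

theorem mem_regSub_of_ne_zero [IsIntegral X] (U : X.Opens) (c : Γ(X, U)) (hc : c ≠ 0) :
    c ∈ Mero.regSub X U := by
  intro y
  show X.presheaf.germ U y.1 y.2 c ∈ nonZeroDivisors _
  apply mem_nonZeroDivisors_of_ne_zero
  intro h0
  apply hc
  haveI : Nonempty U := ⟨y⟩
  exact germ_injective_of_isIntegral X y.1 y.2 (h0.trans (map_zero _).symm)

theorem exists_triv [IsIntegral X] (hL : PicF.IsInvertible L) (s : Coh.structureModule X ⟶ L)
    (hs : s ≠ 0) (x : X) : Nonempty (Triv L s x) := by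
  obtain ⟨U, hxU, e, c, he, hc⟩ := exists_triv0 hL s x
  refine ⟨⟨U, hxU, e, c, he, hc, mem_regSub_of_ne_zero U c (fun h0 => hs ?_)⟩⟩
  exact eq_zero_of_val_eq_zero hL s U ⟨x, hxU⟩
    (hc.trans ((congrArg (fun t : Γ(X, U) => t • e) h0).trans (zero_smul _ _)))

end Integral

end Groth.Agent.Lib.Helper48.DivOfSection
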