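/-
helper48: the ideal of denominators `Mero.denomIdeal L s` of a meromorphic section of an invertible
module is a quasi-coherent ideal sheaf (`denomSheaf`), with nowhere dense support.
-/
import Groth.Agent.Lib.Helper48.DivOfSection

set_option autoImplicit false
universe u

open AlgebraicGeometry CategoryTheory TopologicalSpace Opposite

namespace Groth.Agent.Lib.Helper48.Denom

open Groth.Agent.Lib.Ample Groth.Agent.Lib.Helper48.MeroGlue Groth.Agent.Lib.Helper48.DivOfSection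

variable {X : Scheme.{u}} {L : X.Modules}

theorem hid (M : X.Modules) (U : X.Opens) (y : Γ(M, U)) :
    M.presheaf.map (homOfLE (le_refl U)).op y = y := by
  have h2 : (homOfLE (le_refl U)) = 𝟙 U := rfl
  rw [h2, op_id, M.presheaf.map_id]
  rfl

/-- the defining equation of the ideal of denominators at a point -/
def Eqn (s : Γ(Mero.merMod L, ⊤)) (U : X.Opens) (F : Γ(X, U)) (m : Γ(L, U)) (z : X) (hz : z ∈ U) :
    Prop :=
  X.presheaf.germ U z hz F • s.1 ⟨z, trivial⟩ =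
    LocalizedModule.mkLinearMap (Mero.regStalk X z) (L.presheaf.stalk z) (L.presheaf.germ U z hz m)

theorem mem_denomIdeal_iff (s : Γ(Mero.merMod L, ⊤)) (U : X.Opens) (f : Γ(X, U)) :
    f ∈ Mero.denomIdeal L s U ↔ ∃ m : Γ(L, U), ∀ x : U, Eqn s U f m x.1 x.2 := Iff.rfl

theorem Eqn.smul {s : Γ(Mero.merMod L, ⊤)} {U : X.Opens} {F : Γ(X, U)} {m : Γ(L, U)} {z : X}
    {hz : z ∈ U} (h : Eqn s U F m z hz) (r : Γ(X, U)) : Eqn s U (r * F) (r • m) z hz := by
  unfold Eqn at h ⊢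
  rw [map_mul, mul_smul, h, Mero.germ_smul, map_smul]

theorem Eqn.res {s : Γ(Mero.merMod L, ⊤)} {U W : X.Opens} (i : W ⟶ U) {F : Γ(X, U)} {m : Γ(L, U)}
    {z : X} (hz : z ∈ W) :
    Eqn s W (X.presheaf.map i.op F) (L.presheaf.map i.op m) z hz ↔ Eqn s U F m z (i.le hz) := by
  unfold Eqn
  rw [TopCat.Presheaf.germ_res_apply X.presheaf i z hz F,
    TopCat.Presheaf.germ_res_apply L.presheaf i z hz m]

theorem exists_local_frac (hL : PicF.IsInvertible L) (s : Γ(Mero.merMod L, ⊤)) (U : X.Opens) (y : X)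
    (hy : y ∈ U) :
    ∃ (V : X.Opens) (_ : IsAffineOpen V) (_ : y ∈ V) (_ : V ≤ U) (e : Γ(L, V)) (a b : Γ(X, V))
      (hb : b ∈ Mero.regSub X V), IsGenerator L V e ∧ ∀ (z : X) (hz : z ∈ V),
        s.1 ⟨z, trivial⟩ = LocalizedModule.mk
          (X.presheaf.germ V z hz a • L.presheaf.germ V z hz e) (Mero.regGerm ⟨z, hz⟩ ⟨b, hb⟩) := by
  obtain ⟨V₁, hy₁, i, m₀, b₀, w⟩ := s.2 ⟨y, trivial⟩
  obtain ⟨V₂, hy₂, e₂, he₂⟩ := exists_isGenerator_of_isInvertible hL y
  obtain ⟨V, hVaff, hyV, hVle⟩ := Opens.isBasis_iff_nbhd.1 X.isBasis_affineOpens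
    (show y ∈ (V₁ ⊓ V₂) ⊓ U from ⟨⟨hy₁, hy₂⟩, hy⟩)
  have hV1 : V ≤ V₁ := hVle.trans (inf_le_left.trans inf_le_left)
  have hV2 : V ≤ V₂ := hVle.trans (inf_le_left.trans inf_le_right)
  have hVU : V ≤ U := hVle.trans inf_le_right
  have heV := he₂.res hV2
  obtain ⟨a, ha0⟩ := (heV.bijective (le_refl V)).2 (L.presheaf.map (homOfLE hV1).op m₀)
  have ha : a • L.presheaf.map (homOfLE hV2).op e₂ = L.presheaf.map (homOfLE hV1).op m₀ := by
    have h := ha0
    simp only [hid] at h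
    exact h
  refine ⟨V, hVaff, hyV, hVU, _, a, X.presheaf.map (homOfLE hV1).op b₀.1,
    Mero.regSub_res (homOfLE hV1) b₀.2, heV, fun z hz => ?_⟩
  have w' := w ⟨z, hV1 hz⟩
  refine (w'.trans ?_)
  refine Mero.mk_congr ?_ ?_
  · rw [← Mero.germ_smul, ha, TopCat.Presheaf.germ_res_apply]
  · exact (TopCat.Presheaf.germ_res_apply X.presheaf (homOfLE hV1) z hz b₀.1).symm

theorem mk_eq_mk_iff {V : X.Opens} {e : Γ(L, V)} (he : IsGenerator L V e) (z : X) (hz : z ∈ V)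
    (x y' : X.presheaf.stalk z) (β : Mero.regStalk X z) :
    (LocalizedModule.mk (x • L.presheaf.germ V z hz e) β : Mero.MStalk L z) =
      LocalizedModule.mk (y' • L.presheaf.germ V z hz e) 1 ↔
      x = (β : X.presheaf.stalk z) * y' := by
  rw [LocalizedModule.mk_eq]
  constructor
  · rintro ⟨t, ht⟩
    simp only [Submonoid.smul_def, one_smul] at ht
    have h2 : ((t : X.presheaf.stalk z) * x) • L.presheaf.germ V z hz e =
        ((t : X.presheaf.stalk z) * ((β : X.presheaf.stalk z) * y')) •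
          L.presheaf.germ V z hz e := by
      rw [mul_smul, mul_smul, mul_smul]
      exact ht
    have h3 := germ_smul_inj he z hz _ _ h2
    exact (mul_cancel_left_mem_nonZeroDivisors (Mero.regStalk_le_nonZeroDivisors z t.2)).1 h3
  · intro h
    refine ⟨1, ?_⟩
    simp only [Submonoid.smul_def, one_smul]
    rw [h, mul_smul]

theorem eqn_iff {V : X.Opens} {e : Γ(L, V)} (he : IsGenerator L V e) (s : Γ(Mero.merMod L, ⊤))
    (a b : Γ(X, V)) (hb : b ∈ Mero.regSub X V)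
    (hs : ∀ (z : X) (hz : z ∈ V), s.1 ⟨z, trivial⟩ = LocalizedModule.mk
      (X.presheaf.germ V z hz a • L.presheaf.germ V z hz e) (Mero.regGerm ⟨z, hz⟩ ⟨b, hb⟩))
    (F μ : Γ(X, V)) (z : X) (hz : z ∈ V) :
    Eqn s V F (μ • e) z hz ↔
      X.presheaf.germ V z hz (F * a) = X.presheaf.germ V z hz (b * μ) := by
  unfold Eqn
  rw [hs z hz, LocalizedModule.smul'_mk, smul_smul, Mero.germ_smul, map_mul, map_mul]
  exact mk_eq_mk_iff he z hz _ _ _

theorem exists_pow_local (hL : PicF.IsInvertible L) (s : Γ(Mero.merMod L, ⊤)) {U : X.Opens}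
    (g F : Γ(X, U)) (m₁ : Γ(L, U))
    (h : ∀ (z : X) (hz : z ∈ X.basicOpen g), Eqn s U F m₁ z (X.basicOpen_le g hz))
    (y : X) (hy : y ∈ U) :
    ∃ (V : X.Opens) (_ : y ∈ V) (N : ℕ), ∀ (z : X) (_ : z ∈ V) (hzU : z ∈ U),
      Eqn s U (g ^ N * F) (g ^ N • m₁) z hzU := by
  obtain ⟨V, hVaff, hyV, hVU, e, a, b, hb, he, hs⟩ := exists_local_frac hL s U y hy
  obtain ⟨μ, hμ0⟩ := (he.bijective (le_refl V)).2 (L.presheaf.map (homOfLE hVU).op m₁)
  have hμ : μ • e = L.presheaf.map (homOfLE hVU).op m₁ := by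
    have h := hμ0
    simp only [hid] at h
    exact h
  obtain ⟨g', hg'⟩ : ∃ g' : Γ(X, V), g' = X.presheaf.map (homOfLE hVU).op g := ⟨_, rfl⟩
  obtain ⟨F', hF'⟩ : ∃ F' : Γ(X, V), F' = X.presheaf.map (homOfLE hVU).op F := ⟨_, rfl⟩
  have H : X.presheaf.map (homOfLE (X.basicOpen_le g')).op (F' * a - b * μ) = 0 := by
    refine TopCat.Presheaf.section_ext X.sheaf _ _ _ (fun z hz => ?_)
    show X.presheaf.germ (X.basicOpen g') z hz
      (X.presheaf.map (homOfLE (X.basicOpen_le g')).op (F' * a - b * μ)) =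
        X.presheaf.germ (X.basicOpen g') z hz 0
    rw [TopCat.Presheaf.germ_res_apply, map_zero, map_sub, sub_eq_zero]
    have hzV : z ∈ V := X.basicOpen_le g' hz
    have hzg : z ∈ X.basicOpen g := by
      have h1 := X.basicOpen_res g (homOfLE hVU).op
      rw [hg', h1] at hz
      exact hz.2
    have h1 := h z hzg
    have h2 : Eqn s V F' (μ • e) z hzV := by
      rw [hμ, hF']
      exact (Eqn.res (homOfLE hVU) hzV).2 h1
    exact (eqn_iff he s a b hb hs F' μ z hzV).1 h2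
  obtain ⟨N, hN⟩ := exists_pow_mul_eq_zero_of_res_basicOpen_eq_zero_of_isAffineOpen X hVaff
    (F' * a - b * μ) g' H
  refine ⟨V, hyV, N, fun z hzV hzU => ?_⟩
  rw [← Eqn.res (homOfLE hVU) hzV]
  have e1 : X.presheaf.map (homOfLE hVU).op (g ^ N * F) = g' ^ N * F' := by
    rw [map_mul, map_pow, hg', hF']
  have e2 : L.presheaf.map (homOfLE hVU).op (g ^ N • m₁) = (g' ^ N * μ) • e := by
    rw [L.map_smul, map_pow, ← hμ, mul_smul, hg']
  rw [e1, e2, eqn_iff he s a b hb hs]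
  congr 1
  have h3 : g' ^ N * (F' * a) = g' ^ N * (b * μ) := by
    rw [mul_sub, sub_eq_zero] at hN
    exact hN
  calc g' ^ N * F' * a = g' ^ N * (F' * a) := mul_assoc _ _ _
    _ = g' ^ N * (b * μ) := h3
    _ = b * (g' ^ N * μ) := by ring

theorem exists_pow_global (hL : PicF.IsInvertible L) (s : Γ(Mero.merMod L, ⊤)) {U : X.Opens}
    (hU : IsCompact (U : Set X)) (g F : Γ(X, U)) (m₁ : Γ(L, U))
    (h : ∀ (z : X) (hz : z ∈ X.basicOpen g), Eqn s U F m₁ z (X.basicOpen_le g hz)) :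
    ∃ N : ℕ, ∀ (z : X) (hz : z ∈ U), Eqn s U (g ^ N * F) (g ^ N • m₁) z hz := by
  have key := IsCompact.induction_on hU
    (p := fun S => ∃ N : ℕ, ∀ (z : X), z ∈ S → ∀ hz : z ∈ U,
      Eqn s U (g ^ N * F) (g ^ N • m₁) z hz) ?_ ?_ ?_ ?_
  · obtain ⟨N, hN⟩ := key
    exact ⟨N, fun z hz => hN z hz hz⟩
  · exact ⟨0, fun z hz => absurd hz (Set.notMem_empty z)⟩
  · rintro S T hST ⟨N, hN⟩
    exact ⟨N, fun z hz => hN z (hST hz)⟩
  · rintro S T ⟨N₁, h₁⟩ ⟨N₂, h₂⟩
    refine ⟨N₁ + N₂, fun z hz hzU => ?_⟩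
    rcases hz with hz | hz
    · have e1 : g ^ (N₁ + N₂) * F = g ^ N₂ * (g ^ N₁ * F) := by ring
      have e2 : g ^ (N₁ + N₂) • m₁ = g ^ N₂ • (g ^ N₁ • m₁) := by
        rw [← mul_smul, ← pow_add, add_comm]
      rw [e1, e2]
      exact (h₁ z hz hzU).smul (g ^ N₂)
    · have e1 : g ^ (N₁ + N₂) * F = g ^ N₁ * (g ^ N₂ * F) := by ring
      have e2 : g ^ (N₁ + N₂) • m₁ = g ^ N₁ • (g ^ N₂ • m₁) := by
        rw [← mul_smul, ← pow_add]
      rw [e1, e2]
      exact (h₂ z hz hzU).smul (g ^ N₁)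
  · intro y hy
    obtain ⟨V, hyV, N, hN⟩ := exists_pow_local hL s g F m₁ h y hy
    exact ⟨V, mem_nhdsWithin_of_mem_nhds (V.2.mem_nhds hyV), N, fun z hz hzU => hN z hz hzU⟩

theorem map_denomIdeal_basicOpen (hL : PicF.IsInvertible L) (s : Γ(Mero.merMod L, ⊤))
    (U : X.affineOpens) (g : Γ(X, U)) :
    (Mero.denomIdeal L s U.1).map (X.presheaf.map (homOfLE (X.basicOpen_le g)).op).hom =
      Mero.denomIdeal L s (X.basicOpen g) := by
  haveI := Groth.Agent.Lib.QCoh.isQuasicoherent_of_isInvertible hL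
  have inst := U.2.isLocalization_basicOpen g
  have hunit : IsUnit (X.presheaf.map (homOfLE (X.basicOpen_le g)).op g) :=
    RingedSpace.isUnit_res_basicOpen _ g
  apply le_antisymm
  · rw [Ideal.map_le_iff_le_comap]
    intro f hf
    obtain ⟨m, hm⟩ := (mem_denomIdeal_iff s U.1 f).1 hf
    rw [Ideal.mem_comap]
    exact ⟨L.presheaf.map (homOfLE (X.basicOpen_le g)).op m, fun x =>
      (Eqn.res (homOfLE (X.basicOpen_le g)) x.2).2 (hm ⟨x.1, X.basicOpen_le g x.2⟩)⟩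
  · intro f' hf'
    obtain ⟨m', hm'⟩ := (mem_denomIdeal_iff s _ f').1 hf'
    obtain ⟨⟨f₀, ⟨_, n, rfl⟩⟩, hf₀⟩ := IsLocalization.surj (Submonoid.powers g) f'
    obtain ⟨rg, hrg⟩ : ∃ rg : Γ(X, X.basicOpen g),
      rg = X.presheaf.map (homOfLE (X.basicOpen_le g)).op g := ⟨_, rfl⟩
    have hf₀' : f' * rg ^ n = X.presheaf.map (homOfLE (X.basicOpen_le g)).op f₀ := by
      rw [hrg, ← map_pow]
      exact hf₀
    obtain ⟨k, m₁, hm₁⟩ := Groth.Agent.Lib.Helper22.exists_pow_smul_eq_map_of_isAffineOpen L U.2 g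
      (rg ^ n • m')
    have h : ∀ (z : X) (hz : z ∈ X.basicOpen g),
        Eqn s U.1 (g ^ k * f₀) m₁ z (X.basicOpen_le g hz) := by
      intro z hz
      rw [← Eqn.res (homOfLE (X.basicOpen_le g)) hz, hm₁, map_mul, map_pow, ← hf₀', ← hrg]
      have h0 : Eqn s (X.basicOpen g) f' m' z hz := hm' ⟨z, hz⟩
      have h1 := (h0.smul (rg ^ n)).smul (rg ^ k)
      rw [mul_comm f' (rg ^ n)]
      exact h1
    obtain ⟨N, hN⟩ := exists_pow_global hL s U.2.isCompact g (g ^ k * f₀) m₁ h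
    have hmem : g ^ N * (g ^ k * f₀) ∈ Mero.denomIdeal L s U.1 :=
      ⟨g ^ N • m₁, fun x => hN x.1 x.2⟩
    obtain ⟨u, hu⟩ := hunit.pow (N + k + n)
    have e : X.presheaf.map (homOfLE (X.basicOpen_le g)).op (g ^ N * (g ^ k * f₀)) = f' * ↑u := by
      rw [hu, map_mul, map_mul, map_pow, map_pow, ← hf₀', ← hrg, pow_add, pow_add]
      ring
    have e2 : f' = X.presheaf.map (homOfLE (X.basicOpen_le g)).op (g ^ N * (g ^ k * f₀)) * ↑u⁻¹ := by
      rw [e, mul_assoc, Units.mul_inv, mul_one]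
    rw [e2]
    exact Ideal.mul_mem_right _ _ (Ideal.mem_map_of_mem _ hmem)

/-- the ideal sheaf of denominators -/
noncomputable def denomSheaf (hL : PicF.IsInvertible L) (s : Γ(Mero.merMod L, ⊤)) :
    X.IdealSheafData where
  ideal U := Mero.denomIdeal L s U.1
  map_ideal_basicOpen U g := map_denomIdeal_basicOpen hL s U g

theorem interior_support (hL : PicF.IsInvertible L) (s : Γ(Mero.merMod L, ⊤)) :
    interior ((denomSheaf hL s).support : Set X) = ∅ := by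
  rw [Set.eq_empty_iff_forall_notMem]
  intro y hy
  rw [mem_interior] at hy
  obtain ⟨W, hWsub, hWopen, hyW⟩ := hy
  obtain ⟨V, hVaff, hyV, hVW, e, a, b, hb, he, hs⟩ := exists_local_frac hL s ⟨W, hWopen⟩ y hyW
  have hbmem : b ∈ Mero.denomIdeal L s V :=
    ⟨a • e, fun x => (eqn_iff he s a b hb hs b a x.1 x.2).2 rfl⟩
  have hbot : X.basicOpen b = ⊥ := by
    rw [eq_bot_iff]
    intro z hz
    have hzV : z ∈ V := X.basicOpen_le b hz
    have hzs : z ∈ (denomSheaf hL s).support := hWsub (hVW hzV)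
    rw [Scheme.IdealSheafData.mem_support_iff_of_mem (U := ⟨V, hVaff⟩) hzV,
      Scheme.mem_zeroLocus_iff] at hzs
    exact hzs b hbmem hz
  have hnil : IsNilpotent b :=
    (Scheme.isNilpotent_iff_basicOpen_eq_bot_of_isCompact hVaff.isCompact b).2 hbot
  obtain ⟨n, hn⟩ := hnil
  have h1 : X.presheaf.germ V y hyV b ∈ nonZeroDivisors (X.presheaf.stalk y) := hb ⟨y, hyV⟩
  have h2 : (X.presheaf.germ V y hyV b) ^ n = 0 := by rw [← map_pow, hn, map_zero]
  have h3 := pow_mem h1 n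
  rw [h2] at h3
  exact zero_notMem_nonZeroDivisors h3

end Groth.Agent.Lib.Helper48.Denom
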