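import Mathlib

/-!
# A uniform bound on the number of points of the fibres of an étale algebra

`exists_bound_algHom_of_etale`: for an étale `A`-algebra `B` there is `n` such that for every
field `K` over `A` there are at most `n` `A`-algebra maps `B → K`.
(Requested by helper30, board #1320.)
-/

namespace Groth.Agent.Lib.Helper48.EtaleFibreBound

open Polynomial

universe u

/-- Standard étale: the number of `A`-algebra maps to a field is bounded by the degree. -/
theorem card_le_of_standardEtalePresentation {A C : Type*} [CommRing A] [CommRing C] [Algebra A C]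
    (P : StandardEtalePresentation A C) (K : Type*) [Field K] [Algebra A K]
    (s : Finset (C →ₐ[A] K)) : s.card ≤ P.f.natDegree := by
  classical
  have hmonic : (P.f.map (algebraMap A K)).Monic := P.monic_f.map _
  have hne : P.f.map (algebraMap A K) ≠ 0 := hmonic.ne_zero
  have hinj : Function.Injective (fun ψ : C →ₐ[A] K => ψ P.x) := fun ψ₁ ψ₂ h => P.hom_ext h
  calc s.card = (s.image (fun ψ : C →ₐ[A] K => ψ P.x)).card :=
        (Finset.card_image_of_injective s hinj).symm
    _ ≤ (P.f.map (algebraMap A K)).roots.toFinset.card := by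
        apply Finset.card_le_card
        intro y hy
        obtain ⟨ψ, _, rfl⟩ := Finset.mem_image.mp hy
        rw [Multiset.mem_toFinset, Polynomial.mem_roots hne, Polynomial.IsRoot.def,
          Polynomial.eval_map, ← Polynomial.aeval_def]
        exact (P.hasMap.map ψ).1
    _ ≤ Multiset.card (P.f.map (algebraMap A K)).roots := Multiset.toFinset_card_le _
    _ ≤ (P.f.map (algebraMap A K)).natDegree := Polynomial.card_roots' _
    _ ≤ P.f.natDegree := Polynomial.natDegree_map_le

/-- Maps `B → K` not killing `f` are bounded by maps `B_f → K`. -/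
theorem card_le_of_away {A B : Type*} [CommRing A] [CommRing B] [Algebra A B] (f : B)
    (n : ℕ) (K : Type*) [Field K] [Algebra A K]
    (hn : ∀ s : Finset (Localization.Away f →ₐ[A] K), s.card ≤ n)
    (s : Finset (B →ₐ[A] K)) (hs : ∀ ψ ∈ s, ψ f ≠ 0) : s.card ≤ n := by
  classical
  have key : ∀ ψ : B →ₐ[A] K, ψ f ≠ 0 → ∃ ψ' : Localization.Away f →ₐ[A] K,
      ψ'.comp (IsScalarTower.toAlgHom A B (Localization.Away f)) = ψ := by
    intro ψ hψ
    have hu : IsUnit (ψ f) := IsUnit.mk0 _ hψ
    refine ⟨IsLocalization.Away.liftAlgHom (S := Localization.Away f) f hu, ?_⟩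
    ext b
    simp
  choose g hg using key
  let G : {ψ // ψ ∈ s} → (Localization.Away f →ₐ[A] K) := fun ψ => g ψ.1 (hs ψ.1 ψ.2)
  have hinj : Function.Injective G := by
    intro ψ₁ ψ₂ h
    apply Subtype.ext
    rw [← hg ψ₁.1 (hs ψ₁.1 ψ₁.2), ← hg ψ₂.1 (hs ψ₂.1 ψ₂.2)]
    exact congrArg (fun t => t.comp (IsScalarTower.toAlgHom A B (Localization.Away f))) h
  calc s.card = s.attach.card := Finset.card_attach.symm
    _ = (s.attach.image G).card := (Finset.card_image_of_injective _ hinj).symm
    _ ≤ n := hn _

/-- For an étale `A`-algebra `B` the number of `A`-algebra maps from `B` to a field is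
uniformly bounded. -/
theorem exists_bound_algHom_of_etale (A B : Type u) [CommRing A] [CommRing B] [Algebra A B]
    [Algebra.Etale A B] :
    ∃ n : ℕ, ∀ (K : Type u) [Field K] [Algebra A K] (s : Finset (B →ₐ[A] K)), s.card ≤ n := by
  classical
  let T : Set B := {f | Algebra.IsStandardEtale A (Localization.Away f)}
  have hT : Ideal.span T = ⊤ := by
    by_contra hne
    obtain ⟨M, hM, hle⟩ := Ideal.exists_le_maximal _ hne
    haveI : M.IsPrime := hM.isPrime
    haveI : Algebra.FormallyEtale B (Localization.AtPrime M) :=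
      Algebra.FormallyEtale.of_isLocalization M.primeCompl
    haveI : Algebra.FormallyEtale A (Localization.AtPrime M) :=
      Algebra.FormallyEtale.comp A B _
    obtain ⟨f, hfM, hf⟩ := Algebra.IsEtaleAt.exists_isStandardEtale (R := A) M
    exact hfM (hle (Ideal.subset_span hf))
  obtain ⟨s', hs'T, hs'⟩ := (Ideal.span_eq_top_iff_finite T).mp hT
  have hbound : ∀ f ∈ T, ∃ n : ℕ, ∀ (K : Type u) [Field K] [Algebra A K]
      (s : Finset (Localization.Away f →ₐ[A] K)), s.card ≤ n := by
    intro f hf
    obtain ⟨P⟩ := hf.nonempty_standardEtalePresentation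
    exact ⟨P.f.natDegree, fun K _ _ s => card_le_of_standardEtalePresentation P K s⟩
  choose! N hN using hbound
  refine ⟨∑ f ∈ s', N f, fun K _ _ s => ?_⟩
  have hcover : s ⊆ s'.biUnion (fun f => s.filter (fun ψ => ψ f ≠ 0)) := by
    intro ψ hψ
    by_contra hcon
    have hall : ∀ f ∈ s', ψ f = 0 := by
      intro f hf
      by_contra hne
      exact hcon (Finset.mem_biUnion.mpr ⟨f, hf, Finset.mem_filter.mpr ⟨hψ, hne⟩⟩)
    have hle : Ideal.span (s' : Set B) ≤ RingHom.ker (ψ : B →+* K) :=
      Ideal.span_le.mpr (fun f hf => (RingHom.mem_ker).mpr (hall f hf))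
    rw [hs'] at hle
    have h1 : (1 : B) ∈ RingHom.ker (ψ : B →+* K) := hle trivial
    rw [RingHom.mem_ker] at h1
    simp at h1
  calc s.card ≤ (s'.biUnion (fun f => s.filter (fun ψ => ψ f ≠ 0))).card :=
        Finset.card_le_card hcover
    _ ≤ ∑ f ∈ s', (s.filter (fun ψ => ψ f ≠ 0)).card := Finset.card_biUnion_le
    _ ≤ ∑ f ∈ s', N f := Finset.sum_le_sum (fun f hf =>
        card_le_of_away f (N f) K (fun t => hN f (hs'T hf) K t) _
          (fun ψ hψ => (Finset.mem_filter.mp hψ).2))

end Groth.Agent.Lib.Helper48.EtaleFibreBound
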