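/-
helper48: locally factorial Noetherian schemes with affine diagonal carry an ample family of
invertible modules (every point has an affine neighbourhood of the form `X_s`).
* `exists_dense_affineOpen` : Noetherian + integral stalks: every point lies in a dense affine open
* `hasAmpleFamily_of_factorial`
Uses helper91 `ComplCartier2.isEffCartierIdeal_complIdeal` (the complement of a dense affine open is an
effective Cartier divisor) and helper50 `IdealTwist.exists_affine_genLocus`.
-/
import Groth.Agent.Lib.Helper91.ComplCartier2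
import Groth.Agent.Lib.Ample.Helper50_IdealTwist
import Groth.Agent.Lib.QCoh.Helper50_FTIdeal
import Groth.Agent.Lib.QCoh.Helper74_EffCartier
import Groth.Agent.Lib.QCoh.TensorPic
import Groth.Agent.Lib.Helper48.DualInv
import Groth.Agent.S9799
import Groth.Prelude.Def_MoreMor

set_option autoImplicit false
universe u

open CategoryTheory CategoryTheory.Limits AlgebraicGeometry TopologicalSpace Opposite

namespace Groth.Agent.Lib.Helper48.FactorialAmple

open Groth.Agent.Lib.QCoh Groth.Agent.Lib.Ample CohB1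

variable {X : Scheme.{u}}

/-- a point with integral stalk lies on a single irreducible component -/
theorem eq_of_mem_of_mem (hdom : ∀ x : X, IsDomain (X.presheaf.stalk x)) {Z Z' : Set X}
    (hZ : Z ∈ irreducibleComponents X) (hZ' : Z' ∈ irreducibleComponents X) {y : X}
    (hy : y ∈ Z) (hy' : y ∈ Z') : Z = Z' :=
  (Groth.Agent.S9799.eq_closure_generic X (hdom y) hZ hy).trans
    (Groth.Agent.S9799.eq_closure_generic X (hdom y) hZ' hy').symm

/-- irreducible components of a Noetherian scheme with integral stalks are open -/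
theorem isOpen_of_mem_irreducibleComponents [IsNoetherian X]
    (hdom : ∀ x : X, IsDomain (X.presheaf.stalk x)) {Z : Set X}
    (hZ : Z ∈ irreducibleComponents X) : IsOpen Z := by
  have hfin : (irreducibleComponents X).Finite := NoetherianSpace.finite_irreducibleComponents
  have hcl : IsClosed (⋃ Z' ∈ (irreducibleComponents X) \ {Z}, Z') :=
    Set.Finite.isClosed_biUnion (hfin.subset Set.sdiff_subset)
      (fun Z' hZ' => isClosed_of_mem_irreducibleComponents Z' hZ'.1)
  have heq : Z = (⋃ Z' ∈ (irreducibleComponents X) \ {Z}, Z')ᶜ := by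
    ext y
    constructor
    · intro hy hy'
      obtain ⟨Z', hZ', hyZ'⟩ := Set.mem_iUnion₂.1 hy'
      exact hZ'.2 (eq_of_mem_of_mem hdom hZ'.1 hZ hyZ' hy)
    · intro hy
      by_contra hyZ
      apply hy
      refine Set.mem_iUnion₂.2 ⟨irreducibleComponent y,
        ⟨irreducibleComponent_mem_irreducibleComponents y, ?_⟩, mem_irreducibleComponent⟩
      intro h
      have h' : irreducibleComponent y = Z := h
      exact hyZ (h' ▸ mem_irreducibleComponent)
  rw [heq]
  exact hcl.isOpen_compl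

/-- on a Noetherian scheme with integral stalks every point lies in a dense affine open -/
theorem exists_dense_affineOpen [IsNoetherian X] (hdom : ∀ x : X, IsDomain (X.presheaf.stalk x))
    (x : X) : ∃ U : X.Opens, IsAffineOpen U ∧ x ∈ U ∧ Dense (U : Set X) := by
  classical
  have hfin : (irreducibleComponents X).Finite := NoetherianSpace.finite_irreducibleComponents
  haveI : Finite ↥(irreducibleComponents X) := hfin.to_subtype
  have hpt : ∀ Z : ↥(irreducibleComponents X), ∃ z : X, z ∈ Z.1 ∧ (x ∈ Z.1 → z = x) := by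
    intro Z
    by_cases hx : x ∈ Z.1
    · exact ⟨x, hx, fun _ => rfl⟩
    · obtain ⟨z, hz⟩ := Z.2.1.1
      exact ⟨z, hz, fun h => absurd h hx⟩
  choose z hzZ hzx using hpt
  have haff : ∀ Z : ↥(irreducibleComponents X), ∃ U : X.Opens, IsAffineOpen U ∧ z Z ∈ U ∧
      (U : Set X) ⊆ Z.1 := by
    intro Z
    have hopen : IsOpen Z.1 := isOpen_of_mem_irreducibleComponents hdom Z.2
    obtain ⟨U, hU, hzU, hUZ⟩ := Opens.isBasis_iff_nbhd.1 X.isBasis_affineOpens
      (U := ⟨Z.1, hopen⟩) (hzZ Z)
    exact ⟨U, hU, hzU, hUZ⟩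
  choose U hU hzU hUZ using haff
  refine ⟨⨆ Z, U Z, IsAffineOpen.iSup_of_disjoint hU ?_, ?_, ?_⟩
  · intro Z Z' hne
    show Disjoint (U Z) (U Z')
    refine Opens.coe_disjoint.1 (Set.disjoint_left.2 fun y hy hy' => hne ?_)
    exact Subtype.ext (eq_of_mem_of_mem hdom Z.2 Z'.2 (hUZ Z hy) (hUZ Z' hy'))
  · refine Opens.mem_iSup.2 ⟨⟨irreducibleComponent x,
      irreducibleComponent_mem_irreducibleComponents x⟩, ?_⟩
    have h := hzU ⟨irreducibleComponent x, irreducibleComponent_mem_irreducibleComponents x⟩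
    rwa [hzx _ mem_irreducibleComponent] at h
  · refine dense_iff_inter_open.2 (fun O hO hne => ?_)
    obtain ⟨y, hy⟩ := hne
    obtain ⟨Z, hZdef⟩ : ∃ Z : ↥(irreducibleComponents X), Z.1 = irreducibleComponent y :=
      ⟨⟨irreducibleComponent y, irreducibleComponent_mem_irreducibleComponents y⟩, rfl⟩
    have hyZ : y ∈ Z.1 := hZdef ▸ mem_irreducibleComponent
    obtain ⟨w, hwZ, hwO, hwU⟩ := Z.2.1.2 O (U Z) hO (U Z).isOpen ⟨y, hyZ, hy⟩
      ⟨z Z, hzZ Z, hzU Z⟩
    exact ⟨w, hwO, Opens.mem_iSup.2 ⟨Z, hwU⟩⟩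

/-- **a Noetherian locally factorial scheme with affine diagonal has an ample family** -/
theorem hasAmpleFamily_of_factorial (X : Scheme.{u}) [IsNoetherian X]
    (hufd : ∀ x : X, IsDomain (X.presheaf.stalk x) ∧
      UniqueFactorizationMonoid (X.presheaf.stalk x))
    (hdiag : ∀ U V : X.Opens, IsAffineOpen U → IsAffineOpen V → IsAffineOpen (U ⊓ V)) :
    MoreMor.HasAmpleFamily X := by
  refine ⟨inferInstance, fun x => ?_⟩
  obtain ⟨U, hU, hxU, hdense⟩ := exists_dense_affineOpen (fun y => (hufd y).1) x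
  obtain ⟨I, hIdef⟩ : ∃ I : X.IdealSheafData,
      I = Groth.Agent.Lib.Helper91.ComplCartier.complIdeal U := ⟨_, rfl⟩
  have hI : BlowUp.IsEffCartierIdeal I := by
    rw [hIdef]
    exact Groth.Agent.Lib.Helper91.ComplCartier.isEffCartierIdeal_complIdeal U hdense
      (fun W hW => hdiag W U hW hU) (fun y _ => hufd y)
  have hsupp : (I.support : Set X) = (U : Set X)ᶜ := by
    rw [hIdef]
    exact Groth.Agent.Lib.Helper91.ComplCartier.coe_support_complIdeal U
  have htop : ∀ (W : X.Opens) (hW : IsAffineOpen W), W ≤ U → I.ideal ⟨W, hW⟩ = ⊤ := by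
    intro W hW hWU
    rw [hIdef]
    exact Groth.Agent.Lib.QCoh.FTIdeal.vanishingIdeal_ideal_eq_top U hW hWU
  have hinv : PicF.IsInvertible (ClSub.idealMod I) :=
    (EffCartier74.isInvertible_idealMod_iff I).2 hI
  obtain ⟨N, hN, ⟨ev⟩⟩ := Groth.Agent.Lib.Helper48.DualInv.exists_inverse hinv
  obtain ⟨p₀, hp₀⟩ : ∃ p₀ : freeModule X PUnit.{u + 1} ⟶ Coh.structureModule X,
      SheafOfModules.ιFree (R := X.ringCatSheaf) PUnit.unit ≫ p₀ = 𝟙 _ :=
    ⟨Sigma.desc (fun _ => 𝟙 _), Sigma.ι_desc _ _⟩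
  haveI : IsSplitEpi p₀ := IsSplitEpi.mk' ⟨_, hp₀⟩
  haveI : Epi (p₀ ≫ ev.inv) := epi_comp _ _
  obtain ⟨s, hxs, haffs⟩ := IdealTwist.exists_affine_genLocus hN (p₀ ≫ ev.inv) hU hsupp htop x hxU
  have hgl : genLocus (tensorPow N 1) (s ≫ (tensorPowOneIso N).symm.hom) = genLocus N s :=
    genLocus_comp_iso s (tensorPowOneIso N).symm
  refine ⟨N, 1, s ≫ (tensorPowOneIso N).symm.hom, hN, le_rfl, ?_, ?_⟩
  · rw [hgl]; exact hxs
  · rw [hgl]; exact haffs

end Groth.Agent.Lib.Helper48.FactorialAmple
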