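import Mathlib

/-!
# The spectrum of a local ring is connected (helper48)
-/

set_option autoImplicit false
universe u

namespace Groth.Agent.Lib.Helper48.LocalConn

/-- The prime spectrum of a local ring is connected: every point specializes to the closed
point. -/
theorem connectedSpace_of_isLocalRing (R : Type u) [CommRing R] [IsLocalRing R] :
    ConnectedSpace (PrimeSpectrum R) := by
  haveI : PreconnectedSpace (PrimeSpectrum R) :=
    ⟨isPreconnected_of_forall (IsLocalRing.closedPoint R) (fun y _ =>
      ⟨closure {y}, Set.subset_univ _, (IsLocalRing.specializes_closedPoint y).mem_closure,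
        subset_closure rfl, isPreconnected_singleton.closure⟩)⟩
  exact { toNonempty := ⟨IsLocalRing.closedPoint R⟩ }

end Groth.Agent.Lib.Helper48.LocalConn
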