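import Mathlib
import Groth.Agent.Lib.Helper48.AlgClosedTensor

/-!
# Rings whose nilradical is prime (irreducible spectrum) and field base change
-/

set_option autoImplicit false

open TensorProduct

namespace Groth.Agent.Lib.Helper48.NP

theorem np_iff {A : Type*} [CommRing A] :
    (nilradical A).IsPrime ↔
      Nontrivial A ∧ ∀ x y : A, IsNilpotent (x * y) → IsNilpotent x ∨ IsNilpotent y := by
  rw [Ideal.isPrime_iff]
  constructor
  · rintro ⟨h1, h2⟩
    refine ⟨?_, fun x y hxy => ?_⟩
    · by_contra hnt
      rw [not_nontrivial_iff_subsingleton] at hnt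
      apply h1
      rw [Ideal.eq_top_iff_one, Subsingleton.elim (1 : A) 0]
      exact zero_mem _
    · exact (h2 (mem_nilradical.mpr hxy)).imp mem_nilradical.mp mem_nilradical.mp
  · rintro ⟨h1, h2⟩
    refine ⟨?_, fun {x y} hxy => (h2 x y (mem_nilradical.mp hxy)).imp
      mem_nilradical.mpr mem_nilradical.mpr⟩
    rw [Ideal.ne_top_iff_one, mem_nilradical]
    exact not_isNilpotent_one

theorem np_of_ringHom {A B : Type*} [CommRing A] [CommRing B] (φ : A →+* B)
    (hφ : ∀ x, IsNilpotent (φ x) → IsNilpotent x) (h : (nilradical B).IsPrime) :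
    (nilradical A).IsPrime := by
  have e : nilradical A = (nilradical B).comap φ := by
    ext x
    simp only [mem_nilradical, Ideal.mem_comap]
    exact ⟨fun hx => hx.map φ, hφ x⟩
  rw [e]
  exact Ideal.comap_isPrime φ _

theorem np_of_injective {A B : Type*} [CommRing A] [CommRing B] (φ : A →+* B)
    (hφ : Function.Injective φ) (h : (nilradical B).IsPrime) : (nilradical A).IsPrime :=
  np_of_ringHom φ (fun _ hx => (IsNilpotent.map_iff hφ).mp hx) h

/-- Over an algebraically closed field, tensoring a ring with irreducible spectrum with a domain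
keeps the spectrum irreducible. -/
theorem np_tensor_of_isAlgClosed {K A B : Type*} [Field K] [IsAlgClosed K] [CommRing A] [IsDomain A]
    [Algebra K A] [CommRing B] [Algebra K B] (h : (nilradical B).IsPrime) :
    (nilradical (A ⊗[K] B)).IsPrime := by
  haveI := h
  haveI : IsDomain (B ⧸ nilradical B) := Ideal.Quotient.isDomain _
  haveI : IsDomain (A ⊗[K] (B ⧸ nilradical B)) := ACT.isDomain_tensor
  let φ := Algebra.TensorProduct.map (AlgHom.id K A) (Ideal.Quotient.mkₐ K (nilradical B))
  refine np_of_ringHom φ.toRingHom ?_ (by rw [nilradical_eq_zero (A ⊗[K] (B ⧸ nilradical B))]; exact Ideal.isPrime_bot)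
  intro x hx
  have hx0 : φ x = 0 := hx.eq_zero
  have hker : x ∈ RingHom.ker φ := hx0
  rw [Algebra.TensorProduct.lTensor_ker _ (Ideal.Quotient.mkₐ_surjective K (nilradical B))] at hker
  have hle : (RingHom.ker (Ideal.Quotient.mkₐ K (nilradical B))).map
      (Algebra.TensorProduct.includeRight : B →ₐ[K] A ⊗[K] B) ≤ nilradical (A ⊗[K] B) := by
    rw [Ideal.map_le_iff_le_comap]
    intro n hn
    have hn' : n ∈ nilradical B := by
      simpa [RingHom.mem_ker, Ideal.Quotient.eq_zero_iff_mem] using hn
    exact mem_nilradical.mpr ((mem_nilradical.mp hn').map _)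
  exact mem_nilradical.mp (hle hker)

/-- Irreducibility of `Spec (K ⊗ R)` can be checked on finite subextensions of an algebraic `K/k`. -/
theorem np_of_forall_finite {k K R : Type*} [Field k] [Field K] [Algebra k K]
    [Algebra.IsAlgebraic k K] [CommRing R] [Algebra k R]
    (h : ∀ E : IntermediateField k K, FiniteDimensional k E → (nilradical (E ⊗[k] R)).IsPrime) :
    (nilradical (K ⊗[k] R)).IsPrime := by
  rw [np_iff]
  refine ⟨?_, fun x y hxy => ?_⟩
  · haveI := ((np_iff (A := (⊥ : IntermediateField k K) ⊗[k] R)).mp (h ⊥ inferInstance)).1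
    have h_inj : Function.Injective
        (Algebra.TensorProduct.map (⊥ : IntermediateField k K).val (AlgHom.id k R)) :=
      Module.Flat.rTensor_preserves_injective_linearMap _ (RingHom.injective _)
    exact h_inj.nontrivial
  · obtain ⟨E, hE, x', y', rfl, rfl⟩ := ACT.exists_finite_intermediateField x y
    have h_inj : Function.Injective (Algebra.TensorProduct.map E.val (AlgHom.id k R)) :=
      Module.Flat.rTensor_preserves_injective_linearMap _ E.val.injective
    rw [← map_mul, IsNilpotent.map_iff h_inj] at hxy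
    rcases ((np_iff (A := E ⊗[k] R)).mp (h E hE)).2 x' y' hxy with h1 | h1
    · left; exact h1.map _
    · right; exact h1.map _

/-- Irreducibility of `Spec (F ⊗ R)` passes to a purely inseparable extension `E/F`. -/
theorem np_of_isPurelyInseparable {k F E R : Type*} [Field k] [Field F] [Field E] [Algebra k F]
    [Algebra k E] [Algebra F E] [IsScalarTower k F E] [IsPurelyInseparable F E] [CommRing R]
    [Algebra k R] (h : (nilradical (F ⊗[k] R)).IsPrime) : (nilradical (E ⊗[k] R)).IsPrime := by
  obtain ⟨hnt, hmul⟩ := (np_iff (A := F ⊗[k] R)).mp h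
  let φ := Algebra.TensorProduct.map (IsScalarTower.toAlgHom k F E) (AlgHom.id k R)
  have h_inj : Function.Injective φ :=
    Module.Flat.rTensor_preserves_injective_linearMap _ (RingHom.injective _)
  haveI : Nontrivial (E ⊗[k] R) := h_inj.nontrivial
  let q := ringExpChar k
  haveI : ExpChar k q := ringExpChar.expChar k
  haveI : ExpChar F q := expChar_of_injective_algebraMap (algebraMap k F).injective q
  haveI : ExpChar (E ⊗[k] R) q :=
    expChar_of_injective_algebraMap (algebraMap k (E ⊗[k] R)).injective q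
  have hq : 0 < q := expChar_pos k q
  have key : ∀ z : E ⊗[k] R, ∃ n : ℕ, z ^ q ^ n ∈ Set.range φ := by
    intro z
    induction z using TensorProduct.induction_on with
    | zero => exact ⟨0, 0, by simp⟩
    | tmul a r =>
      obtain ⟨n, b, hb⟩ := IsPurelyInseparable.pow_mem F q a
      refine ⟨n, b ⊗ₜ (r ^ q ^ n), ?_⟩
      simp only [φ, Algebra.TensorProduct.map_tmul, Algebra.TensorProduct.tmul_pow,
        IsScalarTower.coe_toAlgHom', AlgHom.coe_id, id_eq]
      rw [hb]
    | add z w hz hw =>
      obtain ⟨n, z', hz'⟩ := hz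
      obtain ⟨m, w', hw'⟩ := hw
      refine ⟨n + m, z' ^ q ^ m + w' ^ q ^ n, ?_⟩
      have e1 : (z ^ q ^ n) ^ q ^ m = z ^ q ^ (n + m) := by rw [← pow_mul, ← pow_add]
      have e2 : (w ^ q ^ m) ^ q ^ n = w ^ q ^ (n + m) := by rw [← pow_mul, ← pow_add, add_comm]
      rw [map_add, map_pow, map_pow, hz', hw', add_pow_expChar_pow, e1, e2]
  rw [np_iff]
  refine ⟨inferInstance, fun x y hxy => ?_⟩
  obtain ⟨n, x', hx'⟩ := key x
  obtain ⟨m, y', hy'⟩ := key y
  have hnil : IsNilpotent (x' * y') := by
    rw [← IsNilpotent.map_iff h_inj, map_mul, hx', hy']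
    rw [nilpotent_iff_mem_prime] at hxy ⊢
    intro J hJ
    rcases hJ.mem_or_mem (hxy J hJ) with h1 | h1
    · exact J.mul_mem_right _ (J.pow_mem_of_mem h1 _ (pow_pos hq n))
    · exact J.mul_mem_left _ (J.pow_mem_of_mem h1 _ (pow_pos hq m))
  rcases hmul x' y' hnil with h1 | h1
  · left
    have h2 := h1.map φ
    rw [hx'] at h2
    exact (IsNilpotent.pow_iff_pos (pow_pos hq n).ne').mp h2
  · right
    have h2 := h1.map φ
    rw [hy'] at h2
    exact (IsNilpotent.pow_iff_pos (pow_pos hq m).ne').mp h2

end Groth.Agent.Lib.Helper48.NP
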