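/-
helper48: the local fibre dimension of a relative global complete intersection is `n - c` at every
point (fibres are equidimensional by Krull's height theorem).
-/
import Mathlib
import Groth.Agent.Lib.Helper48.RelGCIDescent
import Groth.Agent.Lib.Helper21.FlatFibreDimField

set_option autoImplicit false
set_option linter.style.haveILetI false
universe u
open CategoryTheory CategoryTheory.Limits AlgebraicGeometry TensorProduct

namespace Groth.Agent.Lib.Helper48.RelGCIDescent

attribute [local instance] MvPolynomial.algebraMvPolynomial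

/-- `dim V(J) = dim R/J` (as in helper58 `Conn4`). -/
theorem dim_zeroLocus' {R : Type u} [CommRing R] (J : Ideal R) :
    topologicalKrullDim ↥(PrimeSpectrum.zeroLocus (J : Set R)) = ringKrullDim (R ⧸ J) := by
  have hemb := (PrimeSpectrum.isClosedEmbedding_comap_of_surjective (R ⧸ J) (Ideal.Quotient.mk J)
    Ideal.Quotient.mk_surjective).isEmbedding
  have h1 := (hemb.toHomeomorph).isHomeomorph.topologicalKrullDim_eq
  rw [PrimeSpectrum.topologicalKrullDim_eq_ringKrullDim] at h1
  rw [h1]
  have h2 : Set.range (PrimeSpectrum.comap (Ideal.Quotient.mk J)) =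
      PrimeSpectrum.zeroLocus (J : Set R) := by
    rw [range_comap_of_surjective _ _ Ideal.Quotient.mk_surjective, Ideal.mk_ker]
  rw [h2]

/-- Krull: quotients by minimal primes of `k[x_1..x_n]/(G_1..G_c)` have dimension `≥ n - c`. -/
theorem le_dim_quot_minimalPrime (k : Type u) [Field k] (n c : ℕ)
    (K : Ideal (MvPolynomial (Fin n) k))
    (hK : ∃ G : Fin c → MvPolynomial (Fin n) k, K = Ideal.span (Set.range G))
    (T : Type u) [CommRing T] (g : MvPolynomial (Fin n) k →+* T) (hg : Function.Surjective g)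
    (hker : RingHom.ker g = K) (P : Ideal T) (hP : P ∈ minimalPrimes T) :
    ((n - c : ℕ) : WithBot ℕ∞) ≤ ringKrullDim (T ⧸ P) := by
  classical
  obtain ⟨G, rfl⟩ := hK
  haveI : P.IsPrime := hP.1.1
  have hP'' : P.comap g ∈ (Ideal.span (Set.range G)).minimalPrimes := by
    have h1 := Ideal.comap_minimalPrimes_eq_of_surjective hg (⊥ : Ideal T)
    rw [← RingHom.ker_eq_comap_bot, hker] at h1
    rw [h1]
    exact ⟨P, hP, rfl⟩
  have hspan : Ideal.span (Set.range G) =
      Ideal.span ((Finset.univ.image G : Finset _) : Set (MvPolynomial (Fin n) k)) := by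
    rw [Finset.coe_image, Finset.coe_univ, Set.image_univ]
  have hht : (P.comap g).height ≤ (c : ℕ∞) := by
    have h1 : (P.comap g).height ≤ ((Finset.univ.image G).card : ℕ∞) :=
      Ideal.height_le_card_of_mem_minimalPrimes_span_finset (by rw [← hspan]; exact hP'')
    refine h1.trans ?_
    have : (Finset.univ.image G).card ≤ c := by
      simpa using (Finset.card_image_le (s := (Finset.univ : Finset (Fin c))) (f := G))
    exact_mod_cast this
  obtain ⟨h, dq, hh, hdq, hD⟩ :=
    Groth.Agent.Lib.Helper14.PD4.dim_eq_height_add (k := k) (P.comap g)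
  have hn : ringKrullDim (MvPolynomial (Fin n) k) = (n : WithBot ℕ∞) := by
    rw [MvPolynomial.ringKrullDim_of_isNoetherianRing, ringKrullDim_eq_zero_of_field]
    simp
  rw [hn] at hD
  have hnat : n = h + dq := by exact_mod_cast hD
  rw [hh] at hht
  have hhc : h ≤ c := by exact_mod_cast hht
  have heq : ringKrullDim (MvPolynomial (Fin n) k ⧸ P.comap g) = ringKrullDim (T ⧸ P) :=
    ringKrullDim_eq_of_ringEquiv (RingEquiv.ofBijective (Ideal.quotientMap P g le_rfl)
      ⟨Ideal.quotientMap_injective, Ideal.quotientMap_surjective hg⟩)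
  rw [← heq, hdq]
  have : n - c ≤ dq := by omega
  exact_mod_cast this

theorem le_dim_quot_minimalPrime' (k : Type u) [Field k] (n c : ℕ)
    (K : Ideal (MvPolynomial (Fin n) k))
    (hK : ∃ G : Fin c → MvPolynomial (Fin n) k, K = Ideal.span (Set.range G))
    (T : Type u) [CommRing T] (e : (MvPolynomial (Fin n) k ⧸ K) ≃+* T)
    (P : Ideal T) (hP : P ∈ minimalPrimes T) :
    ((n - c : ℕ) : WithBot ℕ∞) ≤ ringKrullDim (T ⧸ P) :=
  le_dim_quot_minimalPrime k n c K hK T (e.toRingHom.comp (Ideal.Quotient.mk K))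
    (e.surjective.comp Ideal.Quotient.mk_surjective)
    (by rw [RingHom.ker_comp_of_injective _ (show Function.Injective e.toRingHom from e.injective),
      Ideal.mk_ker]) P hP

/-- a finite type algebra over a field all of whose minimal prime quotients have dimension `≥ d`
and which has dimension `≤ d` has local dimension `d` at every point -/
theorem localDim_eq_of_minimalPrimes (k : Type u) [Field k] (T : Type u) [CommRing T]
    [Algebra k T] [Algebra.FiniteType k T] (d : WithBot ℕ∞) (hle : ringKrullDim T ≤ d)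
    (hge : ∀ P ∈ minimalPrimes T, d ≤ ringKrullDim (T ⧸ P)) (Q : PrimeSpectrum T) :
    FlatMor.localDim (PrimeSpectrum T) Q = d := by
  haveI : LocallyOfFiniteType (Spec.map (CommRingCat.ofHom (algebraMap k T))) := by
    rw [HasRingHomProperty.Spec_iff (P := @LocallyOfFiniteType)]
    exact RingHom.finiteType_algebraMap.mpr inferInstance
  refine Groth.Agent.Lib.Helper21.FieldDim.localDim_eq_of_equidim
    (Spec.map (CommRingCat.ofHom (algebraMap k T))) _ ?_ Q
  intro Z hZ
  have hZ' : Z ∈ irreducibleComponents (PrimeSpectrum T) := hZ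
  rw [← PrimeSpectrum.zeroLocus_minimalPrimes] at hZ'
  obtain ⟨P, hP, rfl⟩ := hZ'
  refine (dim_zeroLocus' P).trans ?_
  apply le_antisymm
  · exact (ringKrullDim_le_of_surjective (Ideal.Quotient.mk P)
      Ideal.Quotient.mk_surjective).trans hle
  · exact hge P hP

theorem localDim_fiber_eq (A : Type u) [CommRing A] (n c : ℕ) (K : Ideal (MvPolynomial (Fin n) A))
    (hK : ∃ G : Fin c → MvPolynomial (Fin n) A, K = Ideal.span (Set.range G))
    (h : FibOK A n c K) (p : Ideal A) [p.IsPrime]
    (Q : PrimeSpectrum (p.Fiber (MvPolynomial (Fin n) A ⧸ K))) :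
    FlatMor.localDim (PrimeSpectrum (p.Fiber (MvPolynomial (Fin n) A ⧸ K))) Q =
      ((n - c : ℕ) : WithBot ℕ∞) := by
  have hnt : Nontrivial (p.Fiber (MvPolynomial (Fin n) A ⧸ K)) := Q.nontrivial
  obtain ⟨hcn, hdim⟩ := h ⟨p, inferInstance⟩ hnt
  haveI : Algebra.FiniteType A (MvPolynomial (Fin n) A ⧸ K) :=
    Algebra.FiniteType.of_surjective (Ideal.Quotient.mkₐ A K)
      (Ideal.Quotient.mkₐ_surjective A K)
  haveI := isPushout_mvQuot A p.ResidueField n K
  have hK' : ∃ G : Fin c → MvPolynomial (Fin n) p.ResidueField,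
      K.map (algebraMap (MvPolynomial (Fin n) A) (MvPolynomial (Fin n) p.ResidueField)) =
        Ideal.span (Set.range G) := by
    obtain ⟨G, rfl⟩ := hK
    refine ⟨fun i => algebraMap _ _ (G i), ?_⟩
    rw [Ideal.map_span, ← Set.range_comp]
    rfl
  exact localDim_eq_of_minimalPrimes p.ResidueField (p.Fiber (MvPolynomial (Fin n) A ⧸ K)) _
    hdim.le (fun P hP => le_dim_quot_minimalPrime' p.ResidueField n c _ hK' _
      (Algebra.IsPushout.equiv A p.ResidueField (MvPolynomial (Fin n) A ⧸ K)
        (MvPolynomial (Fin n) p.ResidueField ⧸ K.map (algebraMap (MvPolynomial (Fin n) A)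
          (MvPolynomial (Fin n) p.ResidueField)))).symm.toRingEquiv P hP) Q

theorem fibreDimAt_eq_of_fibOK (A : Type u) [CommRing A] (n c : ℕ)
    (K : Ideal (MvPolynomial (Fin n) A))
    (hK : ∃ G : Fin c → MvPolynomial (Fin n) A, K = Ideal.span (Set.range G))
    (h : FibOK A n c K) (q : PrimeSpectrum (MvPolynomial (Fin n) A ⧸ K)) :
    FlatMor.fibreDimAt
      (Spec.map (CommRingCat.ofHom (algebraMap A (MvPolynomial (Fin n) A ⧸ K))))
      (show ↥(Spec (CommRingCat.of (MvPolynomial (Fin n) A ⧸ K))) from q) =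
        ((n - c : ℕ) : WithBot ℕ∞) := by
  rw [Groth.Agent.Lib.Helper73.FibreDimRing.fibreDimAt_Spec_eq A (MvPolynomial (Fin n) A ⧸ K) q]
  exact localDim_fiber_eq A n c K hK h _ _

end Groth.Agent.Lib.Helper48.RelGCIDescent
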