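import Mathlib
import Groth.Prelude.Def_MeroSh
import Groth.Prelude.Def_CInt

/-!
# Schematically dense opens contain a regular basic open (helper48)

* `exists_nzd`: in a Noetherian ring, or a reduced ring with finitely many minimal primes, an ideal
  with zero annihilator contains a nonzerodivisor (prime avoidance).
* `exists_regular_basicOpen_le`: on an affine open `W` whose ring is as above, if restriction of
  functions from `W` to `W ⊓ V'` is injective then `V'` contains `D(t)` for a nonzerodivisor `t`.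
* `eq_zero_of_res_basicOpen_regular`: a section vanishing on the basic open of a germwise regular
  section is zero.
* `finite_irreducibleComponents_of_isOpenEmbedding`, `finite_minimalPrimes_of_isAffineOpen`.
-/

set_option autoImplicit false
universe u

namespace Groth.Agent.Lib.Helper48.SchDense

section Alg

variable {A : Type u} [CommRing A]

theorem exists_nzd_of_primes (𝔓 : Set (Ideal A)) (hfin : 𝔓.Finite)
    (hprime : ∀ p ∈ 𝔓, p.IsPrime)
    (P1 : ∀ t : A, (∀ p ∈ 𝔓, t ∉ p) → t ∈ nonZeroDivisors A)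
    (P2 : ∀ p ∈ 𝔓, ∃ z : A, z ≠ 0 ∧ ∀ h ∈ p, h * z = 0)
    (I : Ideal A) (hI : ∀ z : A, (∀ h ∈ I, h * z = 0) → z = 0) :
    ∃ t ∈ I, t ∈ nonZeroDivisors A := by
  classical
  by_contra hcon
  push Not at hcon
  have hsub : (I : Set A) ⊆ ⋃ p ∈ (hfin.toFinset : Set (Ideal A)), (p : Set A) := by
    intro t ht
    by_contra hnot
    apply hcon t ht
    apply P1
    intro p hp htp
    apply hnot
    simp only [Set.mem_iUnion]
    exact ⟨p, hfin.mem_toFinset.mpr hp, htp⟩
  rw [Ideal.subset_union_prime (f := fun p : Ideal A => p) ⊥ ⊥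
    (fun p hp _ _ => hprime p (hfin.mem_toFinset.mp hp))] at hsub
  obtain ⟨p, hp, hle⟩ := hsub
  obtain ⟨z, hz0, hz⟩ := P2 p (hfin.mem_toFinset.mp hp)
  exact hz0 (hI z (fun h hh => hz h (hle hh)))

theorem exists_nzd_of_noetherian [IsNoetherianRing A] (I : Ideal A)
    (hI : ∀ z : A, (∀ h ∈ I, h * z = 0) → z = 0) : ∃ t ∈ I, t ∈ nonZeroDivisors A := by
  refine exists_nzd_of_primes (associatedPrimes A A) (associatedPrimes.finite A A)
    (fun p hp => IsAssociatedPrime.isPrime hp) ?_ ?_ I hI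
  · intro t ht
    rw [mem_nonZeroDivisors_iff_right]
    intro z hz
    by_contra hz0
    obtain ⟨P, hP, hle⟩ := exists_le_isAssociatedPrime_of_isNoetherianRing A z hz0
    apply ht P hP
    apply hle
    rw [Submodule.mem_colon_singleton, Submodule.mem_bot, smul_eq_mul, mul_comm]
    exact hz
  · intro p hp
    obtain ⟨hprime, z, hz⟩ := isAssociatedPrime_iff.1 hp
    refine ⟨z, ?_, ?_⟩
    · rintro rfl
      apply hprime.ne_top
      rw [hz, Ideal.eq_top_iff_one, Submodule.mem_colon_singleton, smul_zero]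
      exact Submodule.zero_mem _
    · intro h hh
      rw [hz, Submodule.mem_colon_singleton, Submodule.mem_bot] at hh
      exact hh

theorem eq_zero_of_forall_mem_minimalPrimes [IsReduced A] (z : A)
    (h : ∀ p ∈ minimalPrimes A, z ∈ p) : z = 0 := by
  have h1 : z ∈ sInf (minimalPrimes A) := Ideal.mem_sInf.mpr (fun {p} hp => h p hp)
  have h2 : sInf (minimalPrimes A) = (⊥ : Ideal A).radical := Ideal.sInf_minimalPrimes
  rw [h2] at h1
  have h3 : (⊥ : Ideal A).radical = ⊥ := nilradical_eq_zero A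
  rw [h3] at h1
  exact (Submodule.mem_bot A).mp h1

theorem exists_nzd_of_reduced [IsReduced A] (hfin : (minimalPrimes A).Finite) (I : Ideal A)
    (hI : ∀ z : A, (∀ h ∈ I, h * z = 0) → z = 0) : ∃ t ∈ I, t ∈ nonZeroDivisors A := by
  classical
  refine exists_nzd_of_primes (minimalPrimes A) hfin (fun p hp => hp.1.1) ?_ ?_ I hI
  · intro t ht
    rw [mem_nonZeroDivisors_iff_right]
    intro z hz
    apply eq_zero_of_forall_mem_minimalPrimes
    intro p hp
    have hpp : p.IsPrime := hp.1.1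
    have : z * t ∈ p := by rw [hz]; exact p.zero_mem
    exact (hpp.mem_or_mem this).resolve_right (ht p hp)
  · intro p hp
    have hpp : p.IsPrime := hp.1.1
    have hnle : ¬ ((hfin.toFinset.erase p).inf id ≤ p) := by
      intro hle
      obtain ⟨q, hq, hqp⟩ := (hpp.inf_le').mp hle
      have hq' := Finset.mem_erase.mp hq
      have hqmin : q ∈ minimalPrimes A := hfin.mem_toFinset.mp hq'.2
      have hpq : p ≤ q := hp.2 ⟨hqmin.1.1, bot_le⟩ hqp
      exact hq'.1 (le_antisymm hqp hpq)
    obtain ⟨z, hzs, hzp⟩ := SetLike.not_le_iff_exists.mp hnle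
    refine ⟨z, ?_, ?_⟩
    · rintro rfl; exact hzp p.zero_mem
    · intro h hh
      apply eq_zero_of_forall_mem_minimalPrimes
      intro q hq
      by_cases hqp : q = p
      · rw [hqp]; exact p.mul_mem_right z hh
      · have hzq : z ∈ q :=
          (Submodule.mem_finsetInf.mp hzs) q
            (Finset.mem_erase.mpr ⟨hqp, hfin.mem_toFinset.mpr hq⟩)
        exact q.mul_mem_left h hzq

theorem exists_nzd (hA : IsNoetherianRing A ∨ (IsReduced A ∧ (minimalPrimes A).Finite))
    (I : Ideal A) (hI : ∀ z : A, (∀ h ∈ I, h * z = 0) → z = 0) :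
    ∃ t ∈ I, t ∈ nonZeroDivisors A := by
  rcases hA with h | ⟨h1, h2⟩
  · exact exists_nzd_of_noetherian I hI
  · exact exists_nzd_of_reduced h2 I hI

end Alg

section Top

theorem finite_irreducibleComponents_of_isOpenEmbedding {Y T : Type*} [TopologicalSpace Y]
    [TopologicalSpace T] (f : Y → T) (hf : Topology.IsOpenEmbedding f)
    (hfin : {Z : Set T | Z ∈ irreducibleComponents T ∧ (Z ∩ Set.range f).Nonempty}.Finite) :
    (irreducibleComponents Y).Finite := by
  refine (hfin.image (fun Z => f ⁻¹' Z)).subset ?_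
  intro C hC
  have hirr : IsIrreducible (f '' C) := hC.1.image f hf.continuous.continuousOn
  obtain ⟨Z, hZ, hsub⟩ := exists_mem_irreducibleComponents_subset_of_isIrreducible _ hirr
  have hne : (Z ∩ Set.range f).Nonempty := by
    obtain ⟨c, hc⟩ := hC.1.1
    exact ⟨f c, hsub ⟨c, hc, rfl⟩, c, rfl⟩
  have hpre : f ⁻¹' Z ∈ irreducibleComponents Y := preimage_mem_irreducibleComponents hZ hf hne
  have hCsub : C ⊆ f ⁻¹' Z := fun c hc => hsub ⟨c, hc, rfl⟩
  have hle : f ⁻¹' Z ≤ C := hC.2 hpre.1 hCsub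
  exact ⟨Z, ⟨hZ, hne⟩, le_antisymm hle hCsub⟩

theorem finite_minimalPrimes_of_finite_irreducibleComponents (R : Type*) [CommRing R]
    (h : (irreducibleComponents (PrimeSpectrum R)).Finite) : (minimalPrimes R).Finite := by
  have e := minimalPrimes.equivIrreducibleComponents R
  haveI : Finite (irreducibleComponents (PrimeSpectrum R)) := h.to_subtype
  haveI : Finite ((irreducibleComponents (PrimeSpectrum R))ᵒᵈ) :=
    inferInstanceAs (Finite (irreducibleComponents (PrimeSpectrum R)))
  haveI : Finite (minimalPrimes R) := Finite.of_equiv _ e.symm.toEquiv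
  exact Set.toFinite _

end Top

section Geom

open AlgebraicGeometry CategoryTheory TopologicalSpace Opposite

variable {X : Scheme.{u}}

theorem res_res {U V W : X.Opens} (i : V ⟶ W) (j : U ⟶ V) (k : U ⟶ W)
    (s : Γ(X, W)) :
    X.presheaf.map j.op (X.presheaf.map i.op s) = X.presheaf.map k.op s := by
  obtain rfl : k = j ≫ i := Subsingleton.elim _ _
  rw [op_comp, Functor.map_comp]
  rfl

theorem finite_minimalPrimes_of_isAffineOpen (W : X.Opens) (hW : IsAffineOpen W)
    (hfin : {Z : Set X | Z ∈ irreducibleComponents X ∧ (Z ∩ (W : Set X)).Nonempty}.Finite) :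
    (minimalPrimes Γ(X, W)).Finite := by
  have h1 : (irreducibleComponents ↥(Spec Γ(X, W))).Finite :=
    finite_irreducibleComponents_of_isOpenEmbedding hW.fromSpec hW.fromSpec.isOpenEmbedding
      (by rw [hW.range_fromSpec]; exact hfin)
  exact finite_minimalPrimes_of_finite_irreducibleComponents _ h1

/-- ideal of functions on `W` whose basic open lies in `V'` -/
def basicOpenIdeal (W V' : X.Opens) : Ideal Γ(X, W) where
  carrier := {h | X.basicOpen h ≤ V'}
  zero_mem' := by
    show X.basicOpen (0 : Γ(X, W)) ≤ V'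
    rw [Scheme.basicOpen_zero]; exact bot_le
  add_mem' := by
    intro a b ha hb y hy
    have hyW : y ∈ W := X.basicOpen_le _ hy
    have hu : IsUnit (X.presheaf.germ W y hyW (a + b)) := (X.mem_basicOpen _ y hyW).mp hy
    rw [map_add] at hu
    rcases IsLocalRing.isUnit_or_isUnit_of_isUnit_add hu with h | h
    · exact ha ((X.mem_basicOpen a y hyW).mpr h)
    · exact hb ((X.mem_basicOpen b y hyW).mpr h)
  smul_mem' := by
    intro r h hh
    show X.basicOpen (r • h) ≤ V'
    rw [smul_eq_mul, Scheme.basicOpen_mul]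
    exact inf_le_right.trans hh

theorem exists_regular_basicOpen_le (W : X.Opens) (hW : IsAffineOpen W)
    (hA : IsNoetherianRing Γ(X, W) ∨ (IsReduced Γ(X, W) ∧ (minimalPrimes Γ(X, W)).Finite))
    (V' : X.Opens)
    (hinj : Function.Injective (X.presheaf.map (homOfLE (inf_le_left : W ⊓ V' ≤ W)).op)) :
    ∃ t : Γ(X, W), t ∈ nonZeroDivisors Γ(X, W) ∧ X.basicOpen t ≤ V' := by
  obtain ⟨t, htI, ht⟩ := exists_nzd hA (basicOpenIdeal W V') (by
    intro z hz
    apply hinj
    rw [map_zero]
    have hloc : ∀ (y : X) (hy : y ∈ W ⊓ V'),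
        X.presheaf.germ _ y hy (X.presheaf.map (homOfLE (inf_le_left : W ⊓ V' ≤ W)).op z) =
        X.presheaf.germ _ y hy 0 := by
      intro y hy
      rw [TopCat.Presheaf.germ_res_apply, map_zero]
      obtain ⟨h, hle, hyh⟩ := hW.exists_basicOpen_le (V := W ⊓ V') ⟨y, hy⟩ hy.1
      have hhI : h ∈ basicOpenIdeal W V' := hle.trans inf_le_right
      have h0 := hz h hhI
      have hu : IsUnit (X.presheaf.germ W y hy.1 h) := (X.mem_basicOpen h y hy.1).mp hyh
      have hg := congrArg (X.presheaf.germ W y hy.1) h0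
      rw [map_mul, map_zero] at hg
      exact (hu.mul_right_eq_zero).mp hg
    exact TopCat.Presheaf.section_ext X.sheaf _ _ _ hloc)
  exact ⟨t, ht, htI⟩

theorem eq_zero_of_res_basicOpen_regular (W' : X.Opens) (b' : Γ(X, W'))
    (hb' : b' ∈ Mero.regSub X W') (e : Γ(X, W'))
    (he : X.presheaf.map (homOfLE (X.basicOpen_le b')).op e = 0) : e = 0 := by
  have hloc : ∀ (y : X) (hy : y ∈ W'), X.presheaf.germ W' y hy e = X.presheaf.germ W' y hy 0 := by
    intro y hy
    rw [map_zero]
    obtain ⟨W₀, hW₀aff, mW₀, hW₀sub⟩ :=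
      exists_isAffineOpen_mem_and_subset (x := y) (U := W') hy
    have hW₀W : W₀ ≤ W' := fun z hz => hW₀sub hz
    obtain ⟨b₀, hb₀e⟩ : ∃ b₀ : Γ(X, W₀), b₀ = X.presheaf.map (homOfLE hW₀W).op b' := ⟨_, rfl⟩
    obtain ⟨e₀, he₀e⟩ : ∃ e₀ : Γ(X, W₀), e₀ = X.presheaf.map (homOfLE hW₀W).op e := ⟨_, rfl⟩
    have hsub : X.basicOpen b₀ ≤ X.basicOpen b' := by
      rw [hb₀e, Scheme.basicOpen_res]; exact inf_le_right
    have h0 : algebraMap Γ(X, W₀) Γ(X, X.basicOpen b₀) e₀ = 0 := by
      show X.presheaf.map (homOfLE (X.basicOpen_le b₀)).op e₀ = 0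
      rw [he₀e, res_res (homOfLE hW₀W) (homOfLE (X.basicOpen_le b₀))
        (homOfLE (hsub.trans (X.basicOpen_le b'))) e,
        ← res_res (homOfLE (X.basicOpen_le b')) (homOfLE hsub)
        (homOfLE (hsub.trans (X.basicOpen_le b'))) e, he, map_zero]
    haveI := hW₀aff.isLocalization_basicOpen b₀
    obtain ⟨⟨_, n, rfl⟩, hm⟩ := (IsLocalization.map_eq_zero_iff (Submonoid.powers b₀)
      Γ(X, X.basicOpen b₀) e₀).mp h0
    have hm' : b₀ ^ n * e₀ = 0 := hm
    have hg := congrArg (X.presheaf.germ W₀ y mW₀) hm'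
    rw [map_mul, map_pow, map_zero] at hg
    have hb₀ : b₀ ∈ Mero.regSub X W₀ := by
      rw [hb₀e]; exact Mero.regSub_res _ hb'
    have hnzd : (X.presheaf.germ W₀ y mW₀ b₀) ^ n ∈ nonZeroDivisors (X.presheaf.stalk y) :=
      pow_mem (hb₀ ⟨y, mW₀⟩) n
    have he₀ : X.presheaf.germ W₀ y mW₀ e₀ = 0 := (mem_nonZeroDivisors_iff_left.mp hnzd) _ hg
    rw [he₀e, TopCat.Presheaf.germ_res_apply] at he₀
    exact he₀
  exact TopCat.Presheaf.section_ext X.sheaf W' e 0 hloc

theorem isSchematicallyDense_mono {U' U : X.Opens} (h : U' ≤ U)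
    (hU' : CInt.IsSchematicallyDense U') : CInt.IsSchematicallyDense U := by
  intro V a b hab
  apply hU' V
  have h1 := congrArg (X.presheaf.map (homOfLE (inf_le_inf_left V h : V ⊓ U' ≤ V ⊓ U)).op) hab
  rw [res_res _ _ (homOfLE (inf_le_left : V ⊓ U' ≤ V)) a,
    res_res _ _ (homOfLE (inf_le_left : V ⊓ U' ≤ V)) b] at h1
  exact h1

end Geom

end Groth.Agent.Lib.Helper48.SchDense
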