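import Mathlib
import Groth.Prelude.Def_RegImm
import Groth.Agent.Lib.Helper9.LciMor3
import Groth.Agent.Lib.Helper9.LCICover
import Groth.Agent.Lib.Helper9.SmoothLCI0
import Groth.Agent.Lib.Helper8.SyntLCI
import Groth.Agent.Lib.Helper24.FibreChart
import Groth.Agent.Lib.Helper96.RegularFibres

/-!
# Syntomic morphisms of schemes (helper48)

* `isSyntomicMor_iff_flat_koszul` : syntomic = flat + Koszul at every point
* `isSyntomic_appLE` : syntomic morphisms induce syntomic ring maps on ALL affine pairs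
* `isSyntomicMor_comp_of_smooth` : precomposition with a smooth morphism (e.g. open immersion)
* `isLCI_of_isSyntomicMor_Spec` : `Spec B → Spec A` syntomic ⇒ `A → B` l.c.i.
* `isLCI_fibre_of_isSyntomicMor` : syntomic fibre ⇒ `κ(y) ⊗ B` l.c.i. over `κ(y)` on affine pairs
* `isSyntomic_appLE_of_fibres` : flat + l.f.p. + syntomic fibres ⇒ syntomic on all affine pairs
-/

set_option autoImplicit false
set_option linter.style.haveILetI false
universe u

open CategoryTheory CategoryTheory.Limits AlgebraicGeometry TopologicalSpace Opposite TensorProduct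

namespace Groth.Agent.Lib.Helper48.SyntMor

open Groth.Agent.Lib.Helper9 Groth.Agent.Lib.Helper8

/-- a bijective ring map is a local complete intersection -/
theorem ringHomLCI_of_bijective {A B : Type u} [CommRing A] [CommRing B] (φ : A →+* B)
    (hφ : Function.Bijective φ) : @LCI.IsLCI A _ B _ φ.toAlgebra := by
  letI := φ.toAlgebra
  haveI : IsLocalization.Away (1 : A) B :=
    IsLocalization.away_of_isUnit_of_bijective B isUnit_one hφ
  exact SmoothLCI.isLCI_of_isLocalizationAway (1 : A) B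

variable {X S : Scheme.{u}}

/-- **syntomic = flat + Koszul at every point** -/
theorem isSyntomicMor_iff_flat_koszul (f : X ⟶ S) :
    Synt.IsSyntomicMor f ↔ Flat f ∧ ∀ x, Synt.IsKoszulAt f x := by
  constructor
  · intro h
    refine ⟨?_, ?_⟩
    · rw [HasRingHomProperty.iff_exists_appLE (P := @Flat)
        (RingHom.Flat.stableUnderComposition.stableUnderCompositionWithLocalizationAway
          RingHom.Flat.holdsForLocalizationAway).left]
      intro x
      obtain ⟨U, V, e, hxU, hs⟩ := h x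
      exact ⟨V, U, hxU, e, hs.1⟩
    · intro x
      obtain ⟨U', V', e', hx, hs⟩ := h x
      letI := (f.appLE V'.1 U'.1 e').hom.toAlgebra
      exact LciMor2.isKoszulAt_of_affine_isLCI f x U' V' e' hx
        ((SyntLCI.isSyntomic_iff _ _).1 hs).2
  · rintro ⟨hflat, hK⟩ x
    obtain ⟨_, ⟨V, hV : IsAffineOpen V, rfl⟩, hfxV, -⟩ :=
      S.isBasis_affineOpens.exists_subset_of_mem_open (Set.mem_univ (f.base x)) isOpen_univ
    obtain ⟨_, ⟨U, hU : IsAffineOpen U, rfl⟩, hxU, hUV⟩ :=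
      X.isBasis_affineOpens.exists_subset_of_mem_open (show x ∈ (f ⁻¹ᵁ V : Set X) from hfxV)
        (f ⁻¹ᵁ V).isOpen
    refine ⟨⟨U, hU⟩, ⟨V, hV⟩, hUV, hxU, ?_⟩
    letI := (f.appLE V U hUV).hom.toAlgebra
    rw [SyntLCI.isSyntomic_iff]
    exact ⟨f.flat_appLE hV hU hUV, LciMor3.isLCI_appLE_of_isKoszulAt f hK U V hU hV hUV⟩

/-- syntomic morphisms induce syntomic ring maps on ALL affine pairs -/
theorem isSyntomic_appLE (f : X ⟶ S) (h : Synt.IsSyntomicMor f)
    (U : X.affineOpens) (V : S.affineOpens) (e : U.1 ≤ f ⁻¹ᵁ V.1) :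
    letI := (f.appLE V.1 U.1 e).hom.toAlgebra
    Synt.IsSyntomic Γ(S, V.1) Γ(X, U.1) := by
  obtain ⟨hflat, hK⟩ := (isSyntomicMor_iff_flat_koszul f).1 h
  letI := (f.appLE V.1 U.1 e).hom.toAlgebra
  rw [SyntLCI.isSyntomic_iff]
  exact ⟨f.flat_appLE V.2 U.2 e, LciMor3.isLCI_appLE_of_isKoszulAt f hK U.1 V.1 U.2 V.2 e⟩

/-- a smooth morphism is Koszul at every point -/
theorem isKoszulAt_of_smooth {Z : Scheme.{u}} (j : Z ⟶ X) [Smooth j] (x : Z) :
    Synt.IsKoszulAt j x := by
  obtain ⟨_, ⟨V, hV : IsAffineOpen V, rfl⟩, hfxV, -⟩ :=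
    X.isBasis_affineOpens.exists_subset_of_mem_open (Set.mem_univ (j.base x)) isOpen_univ
  obtain ⟨_, ⟨U, hU : IsAffineOpen U, rfl⟩, hxU, hUV⟩ :=
    Z.isBasis_affineOpens.exists_subset_of_mem_open (show x ∈ (j ⁻¹ᵁ V : Set Z) from hfxV)
      (j ⁻¹ᵁ V).isOpen
  exact LciMor2.isKoszulAt_of_affine_isLCI j x ⟨U, hU⟩ ⟨V, hV⟩ hUV hxU
    (LciMor2.ringHomLCI_of_smooth _ (j.smooth_appLE hV hU hUV))

/-- precomposing a syntomic morphism with a smooth one (e.g. an open immersion) is syntomic -/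
theorem isSyntomicMor_comp_of_smooth {Z : Scheme.{u}} (j : Z ⟶ X) (g : X ⟶ S) [Smooth j]
    (hg : Synt.IsSyntomicMor g) : Synt.IsSyntomicMor (j ≫ g) := by
  rw [isSyntomicMor_iff_flat_koszul] at hg ⊢
  obtain ⟨hfl, hK⟩ := hg
  haveI := hfl
  exact ⟨inferInstance, fun x => LciMor2.isKoszulAt_comp j g (isKoszulAt_of_smooth j) hK x⟩

/-- `Spec B → Spec A` syntomic ⇒ `A → B` is a local complete intersection -/
theorem isLCI_of_isSyntomicMor_Spec {A B : Type u} [CommRing A] [CommRing B] [Algebra A B]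
    (h : Synt.IsSyntomicMor (Spec.map (CommRingCat.ofHom (algebraMap A B)))) : LCI.IsLCI A B := by
  obtain ⟨-, hK⟩ := (isSyntomicMor_iff_flat_koszul _).1 h
  set φ : CommRingCat.of A ⟶ CommRingCat.of B := CommRingCat.ofHom (algebraMap A B) with hφdef
  have e : (⊤ : (Spec (CommRingCat.of B)).Opens) ≤ (Spec.map φ) ⁻¹ᵁ ⊤ := fun _ _ => trivial
  have h1 := LciMor3.isLCI_appLE_of_isKoszulAt (Spec.map φ) hK ⊤ ⊤
    (isAffineOpen_top _) (isAffineOpen_top _) e
  have hA : @LCI.IsLCI A _ _ _ (Scheme.ΓSpecIso (CommRingCat.of A)).inv.hom.toAlgebra :=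
    ringHomLCI_of_bijective _ (ConcreteCategory.bijective_of_isIso (Scheme.ΓSpecIso (CommRingCat.of A)).inv)
  have hB : @LCI.IsLCI _ _ B _ (Scheme.ΓSpecIso (CommRingCat.of B)).hom.hom.toAlgebra :=
    ringHomLCI_of_bijective _ (ConcreteCategory.bijective_of_isIso (Scheme.ΓSpecIso (CommRingCat.of B)).hom)
  have h2 := LciMor2.ringHomLCI_comp _ _ (LciMor2.ringHomLCI_comp _ _ hA h1) hB
  have key : ((Scheme.ΓSpecIso (CommRingCat.of B)).hom.hom.comp
      (((Spec.map φ).appLE ⊤ ⊤ e).hom.comp (Scheme.ΓSpecIso (CommRingCat.of A)).inv.hom)) =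
      algebraMap A B := by
    have h3 : (Spec.map φ).appLE ⊤ ⊤ e = (Spec.map φ).appTop := by
      simp [Scheme.Hom.appLE, Scheme.Hom.appTop]
    have h4 := Scheme.ΓSpecIso_naturality φ
    rw [h3]
    have h5 : (Scheme.ΓSpecIso (CommRingCat.of A)).inv ≫ (Spec.map φ).appTop ≫
        (Scheme.ΓSpecIso (CommRingCat.of B)).hom = φ := by
      rw [h4, Iso.inv_hom_id_assoc]
    have h6 := congrArg CommRingCat.Hom.hom h5
    exact h6
  rw [key] at h2
  have key2 : (algebraMap A B).toAlgebra = ‹Algebra A B› :=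
    Algebra.algebra_ext _ _ (fun r => rfl)
  rw [key2] at h2
  exact h2

/-- transport of l.c.i. fibre rings along an isomorphism of residue fields -/
theorem isLCI_baseChange_field {A B k k' : Type u} [CommRing A] [CommRing B] [Algebra A B]
    [Field k] [Field k'] [Algebra A k] [Algebra A k'] (σ : k ≃+* k')
    (hσ : ∀ a, σ (algebraMap A k a) = algebraMap A k' a)
    (h : LCI.IsLCI k (k ⊗[A] B)) : LCI.IsLCI k' (k' ⊗[A] B) := by
  letI : Algebra k k' := σ.toRingHom.toAlgebra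
  haveI : IsScalarTower A k k' := IsScalarTower.of_algebraMap_eq (fun a => (hσ a).symm)
  have h1 : LCI.IsLCI k' (k' ⊗[k] (k ⊗[A] B)) :=
    SmoothLCI0.isLCI_baseChange_of_flat (k ⊗[A] B) k' h
  exact LCICover.isLCI_of_algEquiv (Algebra.TensorProduct.cancelBaseChange A k k' k' B) h1

open Groth.Agent.Lib.Helper24 Groth.Agent.Lib.Helper96 in
/-- if the fibre of `f` over `y` is syntomic over `κ(y)`, then for every affine pair `W ⊆ f⁻¹ V`
with `y ∈ V` the ring `κ(y) ⊗ Γ(X, W)` is a local complete intersection over `κ(y)` -/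
theorem isLCI_fibre_of_isSyntomicMor {X Y : Scheme.{u}} (f : X ⟶ Y) {V : Y.Opens}
    (hV : IsAffineOpen V) {W : X.Opens} (hW : IsAffineOpen W) (e : W ≤ f ⁻¹ᵁ V) (y : Y)
    (hy : y ∈ V) (hs : Synt.IsSyntomicMor (f.fiberToSpecResidueField y)) :
    letI := (f.appLE V W e).hom.toAlgebra
    letI := (Y.evaluation V y hy).hom.toAlgebra
    LCI.IsLCI (Y.residueField y) ((Y.residueField y) ⊗[Γ(Y, V)] Γ(X, W)) := by
  letI := (f.appLE V W e).hom.toAlgebra
  letI := (Y.evaluation V y hy).hom.toAlgebra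
  obtain ⟨j, hj, -, hjg⟩ := FibreChart.exists_specChart f hV hW e y hy
  haveI := hj
  have h1 := isSyntomicMor_comp_of_smooth j _ hs
  rw [hjg] at h1
  exact isLCI_of_isSyntomicMor_Spec h1

open Groth.Agent.Lib.Helper24 Groth.Agent.Lib.Helper96 in
/-- flat + locally of finite presentation + syntomic fibres ⇒ syntomic on every affine pair -/
theorem isSyntomic_appLE_of_fibres (f : X ⟶ S) [Flat f] [LocallyOfFinitePresentation f]
    (hfib : ∀ s : S, Synt.IsSyntomicMor (f.fiberToSpecResidueField s))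
    (U : X.affineOpens) (V : S.affineOpens) (e : U.1 ≤ f ⁻¹ᵁ V.1) :
    letI := (f.appLE V.1 U.1 e).hom.toAlgebra
    Synt.IsSyntomic Γ(S, V.1) Γ(X, U.1) := by
  letI := (f.appLE V.1 U.1 e).hom.toAlgebra
  haveI hflat : Module.Flat Γ(S, V.1) Γ(X, U.1) := f.flat_appLE V.2 U.2 e
  haveI hfp : Algebra.FinitePresentation Γ(S, V.1) Γ(X, U.1) :=
    HasRingHomProperty.appLE (P := @LocallyOfFinitePresentation) f inferInstance V U e
  rw [SyntLCI.isSyntomic_iff]
  refine ⟨hflat, HD.isLCI_of_fibres (fun p => ?_)⟩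
  have hy : V.2.fromSpec p ∈ V.1 := by
    have : V.2.fromSpec p ∈ Set.range V.2.fromSpec := Set.mem_range_self p
    rw [V.2.range_fromSpec] at this
    exact this
  haveI := p.isPrime
  have hker := RegularFibres.ker_evaluation_fromSpec V.2 p hy
  obtain ⟨σ, hσ⟩ := RegularFibres.exists_residueField_equiv V.2 _ hy p.asIdeal hker
  have h1 := isLCI_fibre_of_isSyntomicMor f V.2 U.2 e _ hy (hfib _)
  letI := (S.evaluation V.1 (V.2.fromSpec p) hy).hom.toAlgebra
  exact isLCI_baseChange_field σ.symm (fun a => σ.symm_apply_eq.2 (hσ a).symm) h1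

end Groth.Agent.Lib.Helper48.SyntMor
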