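import Mathlib
import Groth.Prelude.Def_RegImm
import Groth.Prelude.Def_MoreMor
import Groth.Agent.Lib.Helper48.SyntMor
import Groth.Agent.Lib.Helper8.LCICM
import Groth.Agent.Lib.Helper8.LCIFib
import Groth.Agent.Lib.Helper33.CMComp

/-!
# Syntomic morphisms are Cohen–Macaulay morphisms (helper48)

* `isCMAt_of_isSyntomicMor` : a syntomic morphism is Cohen–Macaulay at every point
-/

set_option autoImplicit false
set_option linter.style.haveILetI false
universe u

open CategoryTheory CategoryTheory.Limits AlgebraicGeometry TopologicalSpace Opposite TensorProduct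

namespace Groth.Agent.Lib.Helper48.SyntMor

open Groth.Agent.Lib.Helper9 Groth.Agent.Lib.Helper8 Groth.Agent.Lib.Helper24

variable {X S : Scheme.{u}}

/-- a syntomic morphism is Cohen–Macaulay at every point -/
theorem isCMAt_of_isSyntomicMor (f : X ⟶ S) (h : Synt.IsSyntomicMor f) (x : X) :
    MoreMor.IsCMAt f x := by
  obtain ⟨hflat, -⟩ := (isSyntomicMor_iff_flat_koszul f).1 h
  haveI := hflat
  refine ⟨Flat.stalkMap f x, ?_⟩
  obtain ⟨U, V, e, hxU, hs⟩ := h x
  have hy : f x ∈ V.1 := e hxU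
  letI := (f.appLE V.1 U.1 e).hom.toAlgebra
  letI := (S.evaluation V.1 (f x) hy).hom.toAlgebra
  obtain ⟨hfl, hl⟩ := (SyntLCI.isSyntomic_iff _ _).1 hs
  haveI := hfl
  have hT : LCI.IsLCI (S.residueField (f x)) ((S.residueField (f x)) ⊗[Γ(S, V.1)] Γ(X, U.1)) :=
    LCIFib.isLCI_baseChange _ _ hl _
  haveI hCM : LocCoh.IsCohenMacaulayRing ((S.residueField (f x)) ⊗[Γ(S, V.1)] Γ(X, U.1)) :=
    LCICM.isCohenMacaulayRing_of_isLCI _ _ hT
  obtain ⟨j, hj, hrange, -⟩ := FibreChart.exists_specChart f V.2 U.2 e (f x) hy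
  haveI := hj
  have hmem : f.asFiber x ∈ Set.range j := by
    rw [hrange]
    change (f.fiberι (f x)) (f.asFiber x) ∈ (U.1 : Set X)
    rw [f.fiberι_asFiber x]
    exact hxU
  obtain ⟨z, hz⟩ := hmem
  rw [← hz]
  haveI := z.isPrime
  have hloc : LocCoh.IsCohenMacaulayLocalRing (Localization.AtPrime z.asIdeal) :=
    hCM.isCohenMacaulayLocalRing_localization z.asIdeal
  let e1 : Localization.AtPrime z.asIdeal ≃+*
      ((Spec (CommRingCat.of ((S.residueField (f x)) ⊗[Γ(S, V.1)] Γ(X, U.1)))).presheaf.stalk z) :=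
    (StructureSheaf.stalkIso _ z).toRingEquiv
  let e2 : ((f.fiber (f x)).presheaf.stalk (j z)) ≃+*
      ((Spec (CommRingCat.of ((S.residueField (f x)) ⊗[Γ(S, V.1)] Γ(X, U.1)))).presheaf.stalk z) :=
    (asIso (j.stalkMap z)).commRingCatIsoToRingEquiv
  exact (Groth.Agent.Lib.Helper33.CMComp.cm_ringEquiv_iff (e1.trans e2.symm)).1 hloc

end Groth.Agent.Lib.Helper48.SyntMor
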