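import Mathlib

/-!
# The projection `Spec (R ⊗[k] S) → Spec R` over a field `k`

Helper library (helper48): the projection is continuous, open, its fibre over `p` is homeomorphic
to `Spec (κ(p) ⊗[k] S)`; consequences for clopen subsets and idempotents.
-/

namespace Groth.Agent.Lib.Helper48

open TensorProduct

universe u

section Top

variable {X Y : Type*} [TopologicalSpace X] [TopologicalSpace Y]

/-- For an open surjection with preconnected fibres, the image of a clopen set is clopen and the
clopen set is saturated. -/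
theorem isClopen_image_and_preimage_image (f : X → Y) (hf : IsOpenMap f)
    (hsurj : Function.Surjective f) (hfib : ∀ y, IsPreconnected (f ⁻¹' {y}))
    (Z : Set X) (hZ : IsClopen Z) : IsClopen (f '' Z) ∧ f ⁻¹' (f '' Z) = Z := by
  have hsat : f ⁻¹' (f '' Z) = Z := by
    apply Set.Subset.antisymm
    · rintro x ⟨z, hz, hzx⟩
      have h1 : f ⁻¹' {f z} ⊆ Z := (hfib (f z)).subset_isClopen hZ ⟨z, rfl, hz⟩
      exact h1 hzx.symm
    · exact Set.subset_preimage_image f Z
  have hcompl : (f '' Z)ᶜ = f '' Zᶜ := by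
    apply Set.Subset.antisymm
    · intro y hy
      obtain ⟨x, rfl⟩ := hsurj y
      exact ⟨x, fun hx => hy ⟨x, hx, rfl⟩, rfl⟩
    · rintro _ ⟨x, hx, rfl⟩ hfx
      have : x ∈ f ⁻¹' (f '' Z) := hfx
      rw [hsat] at this
      exact hx this
  refine ⟨⟨?_, hf Z hZ.isOpen⟩, hsat⟩
  rw [← isOpen_compl_iff, hcompl]
  exact hf _ hZ.compl.isOpen

end Top

/-- Two idempotents with the same basic open set are equal. -/
theorem idem_eq_of_basicOpen_eq {A : Type*} [CommRing A] {e e' : A} (he : IsIdempotentElem e)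
    (he' : IsIdempotentElem e')
    (h : (PrimeSpectrum.basicOpen e : Set (PrimeSpectrum A)) = PrimeSpectrum.basicOpen e') :
    e = e' := by
  have h1 : PrimeSpectrum.isIdempotentElemEquivClopens ⟨e, he⟩ =
      PrimeSpectrum.isIdempotentElemEquivClopens ⟨e', he'⟩ := by
    apply TopologicalSpace.Clopens.ext
    rw [PrimeSpectrum.coe_isIdempotentElemEquivClopens_apply,
      PrimeSpectrum.coe_isIdempotentElemEquivClopens_apply]
    exact h
  exact congrArg Subtype.val (PrimeSpectrum.isIdempotentElemEquivClopens.injective h1)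

section Tensor

variable (k R S : Type u) [Field k] [CommRing R] [CommRing S] [Algebra k R] [Algebra k S]

/-- The projection `Spec (R ⊗[k] S) → Spec R`. -/
noncomputable abbrev tpr : PrimeSpectrum (R ⊗[k] S) → PrimeSpectrum R :=
  PrimeSpectrum.comap (algebraMap R (R ⊗[k] S))

/-- The fibre of `Spec (R ⊗[k] S) → Spec R` over `p` is `Spec (κ(p) ⊗[k] S)`. -/
noncomputable def fiberHomeo (p : PrimeSpectrum R) :
    tpr k R S ⁻¹' {p} ≃ₜ PrimeSpectrum (p.asIdeal.ResidueField ⊗[k] S) :=
  (PrimeSpectrum.preimageHomeomorphFiber R (R ⊗[k] S) p).trans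
    (PrimeSpectrum.homeomorphOfRingEquiv
      (Algebra.TensorProduct.cancelBaseChange k R R p.asIdeal.ResidueField S).toRingEquiv)

theorem tpr_continuous : Continuous (tpr k R S) := PrimeSpectrum.continuous_comap _

theorem tpr_isOpenMap : IsOpenMap (tpr k R S) :=
  PrimeSpectrum.isOpenMap_comap_algebraMap_tensorProduct_of_field

theorem tpr_surjective
    (hS : ∀ (k' : Type u) [Field k'] [Algebra k k'], Nonempty (PrimeSpectrum (k' ⊗[k] S))) :
    Function.Surjective (tpr k R S) := by
  intro p
  obtain ⟨q⟩ := hS p.asIdeal.ResidueField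
  exact ⟨((fiberHomeo k R S p).symm q).1, ((fiberHomeo k R S p).symm q).2⟩

theorem fiber_isPreirreducible
    (hS : ∀ (k' : Type u) [Field k'] [Algebra k k'], IrreducibleSpace (PrimeSpectrum (k' ⊗[k] S)))
    (p : PrimeSpectrum R) : IsPreirreducible (tpr k R S ⁻¹' {p}) := by
  haveI := hS p.asIdeal.ResidueField
  haveI : IrreducibleSpace (tpr k R S ⁻¹' {p}) := (fiberHomeo k R S p).irreducibleSpace_iff.mpr ‹_›
  exact (isIrreducible_iff_irreducibleSpace.mpr ‹_›).isPreirreducible

theorem fiber_isPreconnected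
    (hS : ∀ (k' : Type u) [Field k'] [Algebra k k'], ConnectedSpace (PrimeSpectrum (k' ⊗[k] S)))
    (p : PrimeSpectrum R) : IsPreconnected (tpr k R S ⁻¹' {p}) := by
  haveI := hS p.asIdeal.ResidueField
  haveI : ConnectedSpace (tpr k R S ⁻¹' {p}) := (fiberHomeo k R S p).connectedSpace_iff.mpr ‹_›
  exact (isConnected_iff_connectedSpace.mpr ‹_›).isPreconnected

end Tensor

end Groth.Agent.Lib.Helper48
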