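import Groth.Agent.Lib.Helper48.TensorFiber

/-!
# Irreducibility and connectedness of `Spec (R ⊗[k] S)` from the fibres (helper48)
-/

namespace Groth.Agent.Lib.Helper48

open TensorProduct

universe u

variable (k R S : Type u) [Field k] [CommRing R] [CommRing S] [Algebra k R] [Algebra k S]

/-- If `Spec R` is irreducible and `S` is geometrically irreducible over `k`, then
`Spec (R ⊗[k] S)` is irreducible. -/
theorem irreducibleSpace_tensor [IrreducibleSpace (PrimeSpectrum R)]
    (hS : ∀ (k' : Type u) [Field k'] [Algebra k k'], IrreducibleSpace (PrimeSpectrum (k' ⊗[k] S))) :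
    IrreducibleSpace (PrimeSpectrum (R ⊗[k] S)) := by
  have hne : ∀ (k' : Type u) [Field k'] [Algebra k k'], Nonempty (PrimeSpectrum (k' ⊗[k] S)) :=
    fun k' _ _ => (hS k').toNonempty
  have hsurj := tpr_surjective k R S hne
  have h := (IrreducibleSpace.isIrreducible_univ (PrimeSpectrum R)).preimage_of_isPreirreducible_fiber
    (tpr k R S) (tpr_isOpenMap k R S) (fiber_isPreirreducible k R S hS)
    (by rw [Set.univ_inter, hsurj.range_eq]; exact Set.univ_nonempty)
  rw [Set.preimage_univ] at h
  exact (irreducibleSpace_def _).mpr h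

/-- If `Spec R` is connected and `S` is geometrically connected over `k`, then
`Spec (R ⊗[k] S)` is connected. -/
theorem connectedSpace_tensor [ConnectedSpace (PrimeSpectrum R)]
    (hS : ∀ (k' : Type u) [Field k'] [Algebra k k'], ConnectedSpace (PrimeSpectrum (k' ⊗[k] S))) :
    ConnectedSpace (PrimeSpectrum (R ⊗[k] S)) := by
  have hne : ∀ (k' : Type u) [Field k'] [Algebra k k'], Nonempty (PrimeSpectrum (k' ⊗[k] S)) :=
    fun k' _ _ => (hS k').toNonempty
  have hsurj := tpr_surjective k R S hne
  have hfib : ∀ p, IsConnected (tpr k R S ⁻¹' {p}) := fun p =>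
    ⟨(hsurj p).imp (fun q hq => hq), fiber_isPreconnected k R S hS p⟩
  have hco := ((tpr_isOpenMap k R S).isQuotientMap (tpr_continuous k R S) hsurj).isCoinducing
  have h := hco.isConnected_preimage_of_isClosed hfib isClosed_univ isConnected_univ
  rw [Set.preimage_univ] at h
  exact connectedSpace_iff_univ.mpr h

end Groth.Agent.Lib.Helper48
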