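import Mathlib

/-!
# Topological lemmas on Noetherian / quasi-sober spaces (helper48)

* connected components of a Noetherian space are open;
* a space with a basis of Noetherian opens is locally connected;
* maximal generizations inside a closed set of a quasi-sober `T0` space;
* points of the closure of an open set are specializations of points of the open set
  (locally Noetherian quasi-sober spaces).
-/

set_option autoImplicit false
universe u

namespace Groth.Agent.Lib.Helper48.TopConn

open Topology TopologicalSpace Set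

variable {α : Type*} [TopologicalSpace α]

/-- Connected components of a Noetherian space are open. -/
theorem isOpen_connectedComponent_of_noetherianSpace [NoetherianSpace α] (x : α) :
    IsOpen (connectedComponent x) := by
  have hfin : (irreducibleComponents α).Finite := NoetherianSpace.finite_irreducibleComponents
  have hcompl : (connectedComponent x)ᶜ =
      ⋃₀ {Z | Z ∈ irreducibleComponents α ∧ ¬ (Z ∩ connectedComponent x).Nonempty} := by
    ext y
    constructor
    · intro hy
      refine ⟨irreducibleComponent y, ⟨irreducibleComponent_mem_irreducibleComponents y, ?_⟩,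
        mem_irreducibleComponent⟩
      rintro ⟨z, hzZ, hzC⟩
      refine hy ?_
      have h1 : irreducibleComponent y ⊆ connectedComponent z :=
        isIrreducible_irreducibleComponent.isConnected.isPreconnected.subset_connectedComponent hzZ
      rw [← connectedComponent_eq hzC] at h1
      exact h1 mem_irreducibleComponent
    · rintro ⟨Z, ⟨hZ, hZC⟩, hyZ⟩ hy
      exact hZC ⟨y, hyZ, hy⟩
  rw [← isClosed_compl_iff, hcompl, Set.sUnion_eq_biUnion]
  exact (hfin.subset (fun Z h => h.1)).isClosed_biUnion
    (fun Z h => isClosed_of_mem_irreducibleComponents Z h.1)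

/-- A space in which every point has arbitrarily small open neighbourhoods which are Noetherian
spaces is locally connected. -/
theorem locallyConnectedSpace_of_noetherian_basis
    (h : ∀ (x : α) (N : Set α), IsOpen N → x ∈ N →
      ∃ V : Set α, IsOpen V ∧ x ∈ V ∧ V ⊆ N ∧ NoetherianSpace ↥V) :
    LocallyConnectedSpace α := by
  rw [locallyConnectedSpace_iff_subsets_isOpen_isConnected]
  intro x N hN
  obtain ⟨N', hN'N, hN'open, hxN'⟩ := mem_nhds_iff.mp hN
  obtain ⟨V, hVopen, hxV, hVN', hVnoeth⟩ := h x N' hN'open hxN'
  haveI := hVnoeth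
  refine ⟨Subtype.val '' connectedComponent (⟨x, hxV⟩ : ↥V), ?_, ?_, ?_, ?_⟩
  · rintro _ ⟨y, -, rfl⟩
    exact hN'N (hVN' y.2)
  · exact hVopen.isOpenMap_subtype_val _ (isOpen_connectedComponent_of_noetherianSpace _)
  · exact ⟨⟨x, hxV⟩, mem_connectedComponent, rfl⟩
  · exact isConnected_connectedComponent.image _ continuous_subtype_val.continuousOn

/-- Every point of a quasi-sober `T0` space has a generization which is maximal for
generization. -/
theorem exists_max_generization_univ [QuasiSober α] [T0Space α] (x0 : α) :
    ∃ x : α, x ⤳ x0 ∧ ∀ y : α, y ⤳ x → y = x := by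
  have hirr : IsIrreducible (irreducibleComponent x0) := isIrreducible_irreducibleComponent
  have hcl : IsClosed (irreducibleComponent x0) := isClosed_irreducibleComponent
  have hgen := hirr.isGenericPoint_genericPoint hcl
  refine ⟨hirr.genericPoint, hgen.specializes mem_irreducibleComponent, ?_⟩
  intro y hy
  have h1 : irreducibleComponent x0 ⊆ closure {y} := by
    rw [← hgen.def]
    exact specializes_iff_closure_subset.mp hy
  have h2 : closure ({y} : Set α) = irreducibleComponent x0 :=
    (irreducibleComponent_property x0).2.2 _ isIrreducible_singleton.closure.isPreirreducible h1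
  have h3 : hirr.genericPoint ⤳ y := hgen.specializes (h2 ▸ subset_closure rfl)
  exact (hy.antisymm h3).eq

/-- Inside a closed subset `F` of a quasi-sober `T0` space every point has a generization in `F`
which has no proper generization in `F`. -/
theorem exists_max_generization [QuasiSober α] [T0Space α] (F : Set α) (hF : IsClosed F) (x0 : α)
    (hx0 : x0 ∈ F) : ∃ x ∈ F, x ⤳ x0 ∧ ∀ y ∈ F, y ⤳ x → y = x := by
  haveI : QuasiSober ↥F := hF.isClosedEmbedding_subtypeVal.quasiSober
  obtain ⟨x, hx0', hmax⟩ := exists_max_generization_univ (⟨x0, hx0⟩ : ↥F)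
  refine ⟨x.1, x.2, (subtype_specializes_iff x ⟨x0, hx0⟩).mp hx0', ?_⟩
  intro y hy hyx
  have := hmax ⟨y, hy⟩ ((subtype_specializes_iff ⟨y, hy⟩ x).mpr hyx)
  exact congrArg Subtype.val this

/-- In a Noetherian quasi-sober space, a point of the closure of an open set is a specialization of
a point of that open set. -/
theorem exists_specializes_of_mem_closure_noetherian [NoetherianSpace α] [QuasiSober α]
    (W : Set α) (hW : IsOpen W) (x : α) (hx : x ∈ closure W) : ∃ w ∈ W, w ⤳ x := by
  obtain ⟨S, hSfin, hScl, hSirr, hSU⟩ := NoetherianSpace.exists_finite_set_isClosed_irreducible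
    (isClosed_closure : IsClosed (closure W))
  have hS'fin : {t | t ∈ S ∧ (t ∩ W).Nonempty}.Finite := hSfin.subset (fun t h => h.1)
  have hclosed : IsClosed (⋃₀ {t | t ∈ S ∧ (t ∩ W).Nonempty}) := by
    rw [Set.sUnion_eq_biUnion]
    exact hS'fin.isClosed_biUnion (fun t h => hScl t h.1)
  have hWsub : W ⊆ ⋃₀ {t | t ∈ S ∧ (t ∩ W).Nonempty} := by
    intro w hw
    have hwc : w ∈ closure W := subset_closure hw
    rw [hSU] at hwc
    obtain ⟨t, htS, hwt⟩ := hwc
    exact ⟨t, ⟨htS, ⟨w, hwt, hw⟩⟩, hwt⟩
  have hx' : x ∈ ⋃₀ {t | t ∈ S ∧ (t ∩ W).Nonempty} := (closure_minimal hWsub hclosed) hx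
  obtain ⟨t, ⟨htS, ⟨w, hwt, hwW⟩⟩, hxt⟩ := hx'
  have hgen := (hSirr t htS).isGenericPoint_genericPoint (hScl t htS)
  exact ⟨(hSirr t htS).genericPoint, (hgen.mem_open_set_iff hW).mpr ⟨w, hwt, hwW⟩,
    hgen.specializes hxt⟩

/-- Local version: it suffices that the point has an open neighbourhood which is a Noetherian
space. -/
theorem exists_specializes_of_mem_closure [QuasiSober α] (V : Set α) (hV : IsOpen V)
    [NoetherianSpace ↥V] (W : Set α) (hW : IsOpen W) (x : α) (hxV : x ∈ V)
    (hx : x ∈ closure W) : ∃ w ∈ W, w ⤳ x := by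
  haveI : QuasiSober ↥V := hV.isOpenEmbedding_subtypeVal.quasiSober
  have h1 : x ∈ closure (V ∩ W) := hV.inter_closure ⟨hxV, hx⟩
  have h2 : (⟨x, hxV⟩ : ↥V) ∈ closure ((Subtype.val : ↥V → α) ⁻¹' W) := by
    rw [closure_subtype, Subtype.image_preimage_coe]
    exact h1
  obtain ⟨w, hwW, hwx⟩ := exists_specializes_of_mem_closure_noetherian _
    (hW.preimage continuous_subtype_val) _ h2
  exact ⟨w.1, hwW, (subtype_specializes_iff w ⟨x, hxV⟩).mp hwx⟩

end Groth.Agent.Lib.Helper48.TopConn
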