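/-
helper48: the associator of `tensorMod` on pure tensors of sections, and the comparison
`twistIterIso F L n : ((F ⊗ L) ⊗ L) ⊗ ⋯ ≅ F ⊗ L^{⊗ n}` on `σ_n t = t ⊗ s ⊗ ⋯ ⊗ s`
(bridge from helper50's extension lemmas to the prelude's `SecTwist.twist`).
-/
import Groth.Agent.Lib.Ample.Helper50_TwistIso
import Groth.Agent.Lib.Ample.Helper50_Extension
import Groth.Agent.Lib.Ample.SecTwistBridge

set_option autoImplicit false
universe u

open CategoryTheory MonoidalCategory Opposite TensorProduct AlgebraicGeometry TopologicalSpace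

namespace Groth.Agent.Lib.Helper48.TwistAssoc

open Groth.Agent.Lib.QCoh Groth.Agent.Lib.Ample CohB1 Scheme.Modules

variable {X : Scheme.{u}}

/-- **the associator on pure tensors of sections** -/
lemma tensorModAssoc_hom_app_tmulSect (M N K : X.Modules) {V : X.Opens} (m : Γ(M, V))
    (n : Γ(N, V)) (k : Γ(K, V)) :
    (tensorModAssoc M N K).hom.app V (tmulSect (tensorMod M N) K (tmulSect M N m n) k) =
      tmulSect M (tensorMod N K) m (tmulSect N K n k) := by
  let e₀ : ((preTensor M N ⊗ (incl X).obj K).obj (op V) : Type u) :=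
    ((show (((incl X).obj M).obj (op V) : Type u) from m) ⊗ₜ[Γ(X, V)]
      (show (((incl X).obj N).obj (op V) : Type u) from n)) ⊗ₜ[Γ(X, V)]
      (show (((incl X).obj K).obj (op V) : Type u) from k)
  let f₁ := (shfAdj X).unit.app (preTensor M N) ▷ (incl X).obj K
  let g := (α_ ((incl X).obj M) ((incl X).obj N) ((incl X).obj K)).hom ≫
    ((incl X).obj M ◁ (shfAdj X).unit.app (preTensor N K))
  have hassoc : (tensorModAssoc M N K).hom =
      (shfWhiskerRightIso (preTensor M N) ((incl X).obj K)).inv ≫ (shf X).map g := by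
    rw [(shf X).map_comp]
    rfl
  have n₁ := (shfAdj X).unit.naturality f₁
  have n₂ := (shfAdj X).unit.naturality g
  have h1 : (shf X).map f₁ ≫ (shfWhiskerRightIso (preTensor M N) ((incl X).obj K)).inv = 𝟙 _ :=
    (shfWhiskerRightIso (preTensor M N) ((incl X).obj K)).hom_inv_id
  have hA₀ := congrArg (fun φ => φ.app (op V)) n₁
  have hA := congr($hA₀ e₀)
  have hC₀ := congrArg (fun φ => φ.app (op V)) n₂
  have hC := congr($hC₀ e₀)
  have hB₀ := congrArg (fun φ => ((incl X).map φ).app (op V)) h1
  have hB := congr($hB₀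
    (((shfAdj X).unit.app (preTensor M N ⊗ (incl X).obj K)).app (op V) e₀))
  have hD := congrArg (fun φ => ((incl X).map φ).app (op V)) hassoc
  have hD' := congr($hD (tmulSect (tensorMod M N) K (tmulSect M N m n) k))
  have step1 : (tensorModAssoc M N K).hom.app V
        (tmulSect (tensorMod M N) K (tmulSect M N m n) k) =
      ((incl X).map ((shf X).map g)).app (op V)
        (((incl X).map (shfWhiskerRightIso (preTensor M N) ((incl X).obj K)).inv).app (op V)
          (tmulSect (tensorMod M N) K (tmulSect M N m n) k)) := hD'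
  have hA' : tmulSect (tensorMod M N) K (tmulSect M N m n) k =
      ((incl X).map ((shf X).map f₁)).app (op V)
        (((shfAdj X).unit.app (preTensor M N ⊗ (incl X).obj K)).app (op V) e₀) := hA
  have hB' : ((incl X).map (shfWhiskerRightIso (preTensor M N) ((incl X).obj K)).inv).app (op V)
        (((incl X).map ((shf X).map f₁)).app (op V)
          (((shfAdj X).unit.app (preTensor M N ⊗ (incl X).obj K)).app (op V) e₀)) =
      ((shfAdj X).unit.app (preTensor M N ⊗ (incl X).obj K)).app (op V) e₀ := hB
  have hC' : tmulSect M (tensorMod N K) m (tmulSect N K n k) =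
      ((incl X).map ((shf X).map g)).app (op V)
        (((shfAdj X).unit.app (preTensor M N ⊗ (incl X).obj K)).app (op V) e₀) := hC
  rw [step1, hA', hB', ← hC']

/-- `twistIterIso` carries `σ_n t = t ⊗ s ⊗ ⋯ ⊗ s` to the prelude's `t ⊗ s^{⊗ n}`. -/
theorem twistIterIso_hom_app_sigmaHom (F : X.Modules) {L : X.Modules}
    (s : Coh.structureModule X ⟶ L) :
    ∀ (n : ℕ) (U : X.Opens) (t : Γ(F, U)),
      (twistIterIso F L n).hom.app U ((sigmaHom F s n).app U t) = SecTwist.twist s n F U t
  | 0 => by
    intro U t
    have h0 : twistHom F (𝟙 (Coh.structureModule X)) = (tensorModRightUnitor F).inv := by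
      unfold twistHom
      rw [tensorModMap_id, Category.comp_id]
    have e1 : (sigmaHom F s 0).app U t = t := by
      rw [sigmaHom_zero]
      rfl
    show (tensorModRightUnitor F).inv.app U ((sigmaHom F s 0).app U t) = _
    rw [e1, ← h0, twistHom_app, secOn_eq]
    rfl
  | n + 1 => by
    intro U t
    have ih := twistIterIso_hom_app_sigmaHom F s n U t
    have e1 : (sigmaHom F s (n + 1)).app U t =
        tmulSect (twistIter F L n) L ((sigmaHom F s n).app U t) (secOn s U) := by
      rw [sigmaHom_succ]
      exact twistHom_app (twistIter F L n) s U _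
    show (tensorModAssoc F (tensorPow L n) L).hom.app U
      ((tensorModMap (twistIterIso F L n).hom (𝟙 L)).app U ((sigmaHom F s (n + 1)).app U t)) = _
    rw [e1, tensorModMap_app_tmulSect, ih]
    have e2 : (𝟙 L : L ⟶ L).app U (secOn s U) = secOn s U := rfl
    rw [e2]
    have e3 : SecTwist.twist s n F U t = tmulSect F (tensorPow L n) t (SecTwist.pow s n U) := rfl
    rw [e3, tensorModAssoc_hom_app_tmulSect, ← val_eq_secOn]
    rfl

end Groth.Agent.Lib.Helper48.TwistAssoc
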