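import Mathlib

/-!
# Units of localizations of a UFD at one more prime (helper48)

`unit_decomp`: for a UFD `R`, `f ≠ 0`, `p` prime, every unit of `R[1/(pf)]` is `p^(m-k)` times a unit of `R[1/f]`.
-/

namespace Groth.Agent.Lib.Helper48.UfdPic

section Alg

variable {R : Type*} [CommRing R] [IsDomain R]

theorem away_injective (C : Type*) [CommRing C] [Algebra R C] {f : R} [IsLocalization.Away f C]
    (hf : f ≠ 0) : Function.Injective (algebraMap R C) :=
  IsLocalization.injective C (powers_le_nonZeroDivisors_of_noZeroDivisors hf)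

theorem not_isUnit_of_prime (C : Type*) [CommRing C] [Algebra R C] {f p : R}
    [IsLocalization.Away f C] (hp : Prime p) (hpf : ¬ p ∣ f) : ¬ IsUnit (algebraMap R C p) := by
  intro hu
  obtain ⟨n, hn⟩ := (IsLocalization.Away.algebraMap_isUnit_iff (x := f) (S := C)).1 hu
  exact hpf (hp.dvd_of_dvd_pow hn)

variable [UniqueFactorizationMonoid R]

theorem unit_decomp {B C : Type*} [CommRing B] [CommRing C] [Algebra R B] [Algebra R C]
    {f p : R} [IsLocalization.Away (p * f) B] [IsLocalization.Away f C]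
    (ρ : C →+* B) (hρ : ∀ r : R, ρ (algebraMap R C r) = algebraMap R B r)
    (hf : f ≠ 0) (hp : Prime p) (a : B) (ha : IsUnit a) :
    ∃ (k m : ℕ) (b : C), IsUnit b ∧
      a * algebraMap R B p ^ k = algebraMap R B p ^ m * ρ b := by
  have hpf : p * f ≠ 0 := mul_ne_zero hp.ne_zero hf
  have hinjB : Function.Injective (algebraMap R B) := away_injective B hpf
  obtain ⟨a', haa'⟩ := ha.exists_right_inv
  obtain ⟨i, r, hr⟩ := IsLocalization.Away.surj (p * f) a
  obtain ⟨i', r', hr'⟩ := IsLocalization.Away.surj (p * f) a'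
  have h1 : r * r' = (p * f) ^ (i + i') := by
    apply hinjB
    rw [map_mul, ← hr, ← hr', map_pow, pow_add]
    calc a * algebraMap R B (p * f) ^ i * (a' * algebraMap R B (p * f) ^ i')
        = (a * a') * (algebraMap R B (p * f) ^ i * algebraMap R B (p * f) ^ i') := by ring
      _ = algebraMap R B (p * f) ^ i * algebraMap R B (p * f) ^ i' := by rw [haa', one_mul]
  have hr0 : r ≠ 0 := by
    rintro rfl
    rw [zero_mul] at h1
    exact pow_ne_zero _ hpf h1.symm
  obtain ⟨m, r₁, hr₁, hrm⟩ := WfDvdMonoid.max_power_factor hr0 hp.irreducible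
  have h2 : r₁ ∣ p ^ (i + i') * f ^ (i + i') := by
    rw [← mul_pow, ← h1, hrm]
    exact Dvd.dvd.mul_right (dvd_mul_left r₁ (p ^ m)) r'
  have h3 : IsRelPrime r₁ (p ^ (i + i')) :=
    ((hp.irreducible.isRelPrime_iff_not_dvd.2 hr₁).pow_left).symm
  have h4 : r₁ ∣ f ^ (i + i') := h3.dvd_of_dvd_mul_left h2
  have hfC : IsUnit (algebraMap R C f) := IsLocalization.Away.algebraMap_isUnit f
  have hr₁C : IsUnit (algebraMap R C r₁) :=
    (IsLocalization.Away.algebraMap_isUnit_iff (x := f) (S := C)).2 ⟨_, h4⟩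
  obtain ⟨fi, hfi⟩ := hfC.exists_right_inv
  have hfiu : IsUnit fi := IsUnit.of_mul_eq_one_right _ hfi
  refine ⟨i, m, algebraMap R C r₁ * fi ^ i, hr₁C.mul (hfiu.pow i), ?_⟩
  have hFG : algebraMap R B f * ρ fi = 1 := by
    rw [← hρ f, ← map_mul, hfi, map_one]
  have hFGi : algebraMap R B f ^ i * ρ fi ^ i = 1 := by rw [← mul_pow, hFG, one_pow]
  have hs : a * (algebraMap R B p ^ i * algebraMap R B f ^ i) =
      algebraMap R B p ^ m * algebraMap R B r₁ := by
    rw [← mul_pow, ← map_mul, hr, hrm, map_mul, map_pow]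
  calc a * algebraMap R B p ^ i
      = a * (algebraMap R B p ^ i * algebraMap R B f ^ i) * ρ fi ^ i := by
        rw [show a * (algebraMap R B p ^ i * algebraMap R B f ^ i) * ρ fi ^ i =
          a * algebraMap R B p ^ i * (algebraMap R B f ^ i * ρ fi ^ i) by ring, hFGi, mul_one]
    _ = algebraMap R B p ^ m * algebraMap R B r₁ * ρ fi ^ i := by rw [hs]
    _ = algebraMap R B p ^ m * ρ (algebraMap R C r₁ * fi ^ i) := by
        rw [map_mul, map_pow, hρ, mul_assoc]

end Alg

end Groth.Agent.Lib.Helper48.UfdPic
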