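import Groth.Prelude.Def_FlatCA
import Mathlib.RingTheory.Ideal.MinimalPrime.Localization
import Mathlib.RingTheory.Ideal.AssociatedPrime.Localization
import Mathlib.Algebra.Module.LocalizedModule.Basic
import Mathlib.RingTheory.Localization.AtPrime.Basic
import Mathlib.RingTheory.Localization.Ideal

/-!
# Helper lemmas on weakly associated primes (helper48)
-/

set_option autoImplicit false
universe u v

namespace Groth.Agent.Lib.Helper48

variable {R : Type u} [CommRing R] {M : Type v} [AddCommGroup M] [Module R M]

theorem mem_annSpan {r : R} {m : M} :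
    r ∈ (Submodule.span R {m}).annihilator ↔ r • m = 0 :=
  Submodule.mem_annihilator_span_singleton _ _

theorem annSpan_ne_top {m : M} (hm : m ≠ 0) : (Submodule.span R {m}).annihilator ≠ ⊤ := by
  intro htop
  apply hm
  have h1 : (1 : R) ∈ (Submodule.span R {m}).annihilator := by rw [htop]; trivial
  rw [mem_annSpan] at h1
  simpa using h1

theorem annSpan_zero : (Submodule.span R {(0 : M)}).annihilator = ⊤ := by
  simp [Submodule.annihilator_bot]

theorem annSpan_eq_top_iff {m : M} : (Submodule.span R {m}).annihilator = ⊤ ↔ m = 0 := by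
  constructor
  · intro h
    by_contra hm
    exact annSpan_ne_top hm h
  · rintro rfl
    exact annSpan_zero

/-- existence of a weakly associated prime containing the annihilator of a nonzero element -/
theorem exists_mem_weakAss_of_ne_zero {m : M} (hm : m ≠ 0) :
    ∃ p ∈ FlatCA.weakAss R M, (Submodule.span R {m}).annihilator ≤ p := by
  obtain ⟨P, hP, hle⟩ := Ideal.exists_le_maximal _ (annSpan_ne_top (R := R) hm)
  obtain ⟨p, hp, _⟩ := Ideal.exists_minimalPrimes_le (I := (Submodule.span R {m}).annihilator)
    (J := P) hle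
  exact ⟨p, ⟨m, hp⟩, hp.1.2⟩

theorem weakAss_isPrime {p : Ideal R} (hp : p ∈ FlatCA.weakAss R M) : p.IsPrime := by
  obtain ⟨m, hm⟩ := hp
  exact hm.1.1

section Localization

variable (S : Submonoid R)

theorem mem_annSpan_mk_iff (m : M) (s : S) (r : R) :
    r ∈ (Submodule.span R {LocalizedModule.mk m s}).annihilator ↔ ∃ t : S, (t : R) • r • m = 0 := by
  rw [mem_annSpan, LocalizedModule.smul'_mk, ← LocalizedModule.zero_mk (S := S) (1 : S),
    LocalizedModule.mk_eq]
  constructor
  · rintro ⟨u, hu⟩
    refine ⟨u, ?_⟩
    simpa [Submonoid.smul_def] using hu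
  · rintro ⟨t, ht⟩
    refine ⟨t, ?_⟩
    simpa [Submonoid.smul_def] using ht

theorem annSpan_mk_eq_annSpan_mk_one (m : M) (s : S) :
    (Submodule.span R {LocalizedModule.mk m s}).annihilator =
      (Submodule.span R {LocalizedModule.mk m (1 : S)}).annihilator := by
  ext r
  rw [mem_annSpan_mk_iff, mem_annSpan_mk_iff]

theorem annSpan_loc_mk (m : M) (s : S) :
    (Submodule.span (Localization S) {LocalizedModule.mk m s}).annihilator =
      ((Submodule.span R {m}).annihilator).map (algebraMap R (Localization S)) := by
  ext x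
  obtain ⟨a, t, rfl⟩ := IsLocalization.exists_mk'_eq S x
  rw [IsLocalization.mk'_mem_map_algebraMap_iff S, mem_annSpan, ← Localization.mk_eq_mk',
    LocalizedModule.mk_smul_mk, ← LocalizedModule.zero_mk (S := S) (1 : S), LocalizedModule.mk_eq]
  constructor
  · rintro ⟨u, hu⟩
    refine ⟨u, u.2, ?_⟩
    rw [mem_annSpan]
    simpa [mul_smul, Submonoid.smul_def] using hu
  · rintro ⟨u, hu, h⟩
    rw [mem_annSpan] at h
    refine ⟨⟨u, hu⟩, ?_⟩
    simpa [mul_smul, Submonoid.smul_def] using h

theorem annSpan_comap_loc (x : LocalizedModule S M) :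
    ((Submodule.span (Localization S) {x}).annihilator).comap (algebraMap R (Localization S)) =
      (Submodule.span R {x}).annihilator := by
  ext r
  rw [Ideal.mem_comap, mem_annSpan, mem_annSpan, algebraMap_smul]

end Localization

end Groth.Agent.Lib.Helper48
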